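import Mathlib
import Cfsg.Prelude.Def_Solvable
import Cfsg.Agent.Helper8.AutSpzp
import Cfsg.Agent.Helper1.ThompsonFPF2

set_option autoImplicit false

/-!
Abstract part of the local balance criterion (S2686 and its relatives), for an arbitrary
finite group `K` on which conjugation is faithful.

* `lbal_hasCore_of_coprime`: an automorphism `β` of prime order `p` with `p` prime to the number
  of its fixed points gives a nontrivial normal `p'`-subgroup of `C_𝒢(β)`.
* `lbal_not_hasCore`: if the fixed point group of `β` has no nontrivial normal `p'`-subgroup and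
  only the trivial `p'`-automorphism fixes a given set of fixed points, then `C_𝒢(β)` has no
  nontrivial normal `p'`-subgroup.
-/

namespace Cfsg.Agent.LBal

open Cfsg Cfsg.Agent.Helper8.AutSp

variable {K : Type*} [Group K]

/-- the fixed point subgroup of an automorphism -/
abbrev lbalFix (β : MulAut K) : Subgroup K :=
  MonoidHom.eqLocus β.toMonoidHom (MonoidHom.id K)

theorem lbal_mem_fix {β : MulAut K} {k : K} : k ∈ lbalFix β ↔ β k = k := Iff.rfl

theorem lbal_aut_conj (a : MulAut K) (k : K) :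
    a * MulAut.conj k * a⁻¹ = MulAut.conj (a k) := by
  ext x
  simp [MulAut.conj_apply, MulAut.mul_apply, map_mul, map_inv]

theorem lbal_conj_mem_centralizer {β : MulAut K} {k : K} (hk : β k = k) :
    MulAut.conj k ∈ Subgroup.centralizer ({β} : Set (MulAut K)) := by
  rw [Subgroup.mem_centralizer_iff]
  intro b hb
  rw [Set.mem_singleton_iff] at hb
  subst hb
  have h := lbal_aut_conj b k
  rw [hk] at h
  calc b * MulAut.conj k = b * MulAut.conj k * b⁻¹ * b := by group
    _ = MulAut.conj k * b := by rw [h]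

theorem lbal_fix_of_conj_mem_centralizer
    (hZ : Function.Injective (MulAut.conj : K →* MulAut K)) {β : MulAut K} {k : K}
    (hk : MulAut.conj k ∈ Subgroup.centralizer ({β} : Set (MulAut K))) : β k = k := by
  rw [Subgroup.mem_centralizer_iff] at hk
  have h1 := hk β rfl
  have h2 := lbal_aut_conj β k
  apply hZ
  rw [← h2, h1]
  group

theorem lbal_mem_centralizer_map_fix {β c : MulAut K}
    (hc : c ∈ Subgroup.centralizer ({β} : Set (MulAut K))) {k : K} (hk : β k = k) :
    β (c k) = c k := by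
  rw [Subgroup.mem_centralizer_iff] at hc
  have h1 := hc β rfl
  have h2 : (β * c) k = (c * β) k := by rw [h1]
  rw [MulAut.mul_apply, MulAut.mul_apply, hk] at h2
  exact h2

/-- (A1) the direction `⇐`. -/
theorem lbal_hasCore_of_coprime [Finite K]
    (hZ : Function.Injective (MulAut.conj : K →* MulAut K))
    (hnil : ¬ Group.IsNilpotent K)
    (𝒢 : Subgroup (MulAut K)) (hinn : ∀ k : K, MulAut.conj k ∈ 𝒢)
    (p : ℕ) (hp : p.Prime) (β : MulAut K) (hord : orderOf β = p)
    (hcop : Nat.Coprime p (Nat.card ↥(lbalFix β))) :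
    HasCore p (𝒢 ⊓ Subgroup.centralizer ({β} : Set (MulAut K))) := by
  refine ⟨(lbalFix β).map (MulAut.conj : K →* MulAut K), ?_, ?_, ?_, ?_⟩
  · rintro _ ⟨k, hk, rfl⟩
    exact ⟨hinn k, lbal_conj_mem_centralizer hk⟩
  · rintro c hc _ ⟨k, hk, rfl⟩
    refine ⟨c k, lbal_mem_centralizer_map_fix hc.2 hk, ?_⟩
    exact (lbal_aut_conj c k).symm
  · rw [Nat.card_congr ((lbalFix β).equivMapOfInjective _ hZ).symm.toEquiv]
    exact hcop.symm
  · intro h
    apply hnil
    have hfix : lbalFix β = ⊥ := by
      rw [Subgroup.eq_bot_iff_forall] at h ⊢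
      intro k hk
      apply hZ
      rw [map_one]
      exact h _ ⟨k, hk, rfl⟩
    have hfpf : MonoidHom.FixedPointFree ((β : K ≃* K) : K →* K) := by
      intro g hg
      have : g ∈ lbalFix β := hg
      rw [hfix] at this
      exact this
    exact Cfsg.Agent.Helper1.TFPF.thompson_fpf (β : K ≃* K) hfpf p hp hord

/-- (A2) the direction `⇒`, in contrapositive form. -/
theorem lbal_not_hasCore [Finite K]
    (hZ : Function.Injective (MulAut.conj : K →* MulAut K))
    (𝒢 : Subgroup (MulAut K)) (hinn : ∀ k : K, MulAut.conj k ∈ 𝒢)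
    (p : ℕ) (β : MulAut K)
    (h3 : ∀ N : Subgroup K, N ≤ lbalFix β → (∀ c ∈ lbalFix β, ∀ n ∈ N, c * n * c⁻¹ ∈ N) →
      (Nat.card N).Coprime p → N = ⊥)
    (L : Set K) (hL : ∀ k ∈ L, β k = k)
    (h4 : ∀ α : MulAut K, (∀ k ∈ L, α k = k) → (orderOf α).Coprime p → α = 1) :
    ¬ HasCore p (𝒢 ⊓ Subgroup.centralizer ({β} : Set (MulAut K))) := by
  rintro ⟨X, hX1, hX2, hX3, hX4⟩
  apply hX4
  -- the inner part of `X`
  have hY : X.comap (MulAut.conj : K →* MulAut K) = ⊥ := by
    apply h3
    · intro k hk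
      exact lbal_fix_of_conj_mem_centralizer hZ (hX1 hk).2
    · intro c hc n hn
      rw [Subgroup.mem_comap] at hn ⊢
      rw [map_mul, map_mul, map_inv]
      exact hX2 _ ⟨hinn c, lbal_conj_mem_centralizer hc⟩ _ hn
    · have hinj : Function.Injective
          ((MulAut.conj : K →* MulAut K).subgroupComap X) := by
        intro a b hab
        apply Subtype.ext
        apply hZ
        exact congrArg Subtype.val hab
      have hdvd : Nat.card ↥(X.comap (MulAut.conj : K →* MulAut K)) ∣ Nat.card ↥X :=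
        Subgroup.card_dvd_of_injective _ hinj
      exact Nat.Coprime.coprime_dvd_left hdvd hX3
  rw [Subgroup.eq_bot_iff_forall]
  intro x hx
  apply h4
  · intro k hk
    have hkf : β k = k := hL k hk
    have hcm : MulAut.conj k ∈ 𝒢 ⊓ Subgroup.centralizer ({β} : Set (MulAut K)) :=
      ⟨hinn k, lbal_conj_mem_centralizer hkf⟩
    -- `conj (x k * k⁻¹) = x * (conj k * x⁻¹ * (conj k)⁻¹) ∈ X`
    have h1 : MulAut.conj k * x⁻¹ * (MulAut.conj k)⁻¹ ∈ X := hX2 _ hcm _ (X.inv_mem hx)
    have h2 : x * (MulAut.conj k * x⁻¹ * (MulAut.conj k)⁻¹) ∈ X := X.mul_mem hx h1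
    have h3' : x * (MulAut.conj k * x⁻¹ * (MulAut.conj k)⁻¹) = MulAut.conj (x k * k⁻¹) := by
      rw [map_mul, map_inv, ← lbal_aut_conj x k]
      group
    rw [h3'] at h2
    have h5 : x k * k⁻¹ ∈ X.comap (MulAut.conj : K →* MulAut K) := h2
    rw [hY, Subgroup.mem_bot] at h5
    exact mul_inv_eq_one.mp h5
  · have hdvd : orderOf x ∣ Nat.card ↥X := by
      have := Subgroup.orderOf_dvd_natCard X hx
      exact this
    exact Nat.Coprime.coprime_dvd_left hdvd hX3

end Cfsg.Agent.LBal
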