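import Mathlib
import Cfsg.Prelude.Def_Solvable
import Cfsg.Agent.LBal.Abs
import Cfsg.Agent.Helper1.Fitting

set_option autoImplicit false

/-!
(A3) Bridge: if `C_𝒟(β)` has no nontrivial normal `p'`-subgroup for some group `𝒟` of
automorphisms containing the inner ones, then the fixed point group of `β` has no nontrivial
normal `p'`-subgroup.
-/

namespace Cfsg.Agent.LBal

open Cfsg Cfsg.Agent.Helper8.AutSp

universe u

variable {K : Type u} [Group K]

/-- the `p'`-core of the fixed point group, as a subgroup of `K` -/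
noncomputable def lbalO (p : ℕ) (β : MulAut K) : Subgroup K :=
  (Cfsg.pPrimeCore p ↥(lbalFix β)).map (lbalFix β).subtype

theorem lbalO_le (p : ℕ) (β : MulAut K) : lbalO p β ≤ lbalFix β := by
  rintro _ ⟨x, -, rfl⟩
  exact x.2

theorem lbalO_normalized (p : ℕ) (β : MulAut K) :
    ∀ c ∈ lbalFix β, ∀ n ∈ lbalO p β, c * n * c⁻¹ ∈ lbalO p β := by
  rintro c hc _ ⟨n, hn, rfl⟩
  have hnorm : (Cfsg.pPrimeCore p ↥(lbalFix β)).Normal := Cfsg.Agent.Helper1.pPrimeCore_normal p
  exact ⟨⟨c, hc⟩ * n * ⟨c, hc⟩⁻¹, hnorm.conj_mem n hn ⟨c, hc⟩, rfl⟩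

theorem lbalO_card [Finite K] (p : ℕ) (β : MulAut K) : (Nat.card ↥(lbalO p β)).Coprime p := by
  unfold lbalO
  rw [Nat.card_congr ((Cfsg.pPrimeCore p ↥(lbalFix β)).equivMapOfInjective _
    (lbalFix β).subtype_injective).symm.toEquiv]
  exact Cfsg.Agent.Helper1.card_pPrimeCore_coprime p

theorem le_lbalO (p : ℕ) (β : MulAut K) (N : Subgroup K) (hN : N ≤ lbalFix β)
    (hnorm : ∀ c ∈ lbalFix β, ∀ n ∈ N, c * n * c⁻¹ ∈ N) (hcop : (Nat.card ↥N).Coprime p) :
    N ≤ lbalO p β := by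
  have h1 : (N.subgroupOf (lbalFix β)).Normal := by
    constructor
    intro n hn c
    rw [Subgroup.mem_subgroupOf] at hn ⊢
    exact hnorm c c.2 n hn
  have h2 : (Nat.card ↥(N.subgroupOf (lbalFix β))).Coprime p := by
    rw [Nat.card_congr (Subgroup.subgroupOfEquivOfLe hN).toEquiv]
    exact hcop
  have h3 := Cfsg.Agent.Helper1.le_pPrimeCore h1 h2
  intro n hn
  exact ⟨⟨n, hN hn⟩, h3 (by rw [Subgroup.mem_subgroupOf]; exact hn), rfl⟩

/-- the `p'`-core of the fixed point group is invariant under automorphisms commuting with `β` -/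
theorem lbalO_invariant [Finite K] (p : ℕ) {β c : MulAut K}
    (hc : c ∈ Subgroup.centralizer ({β} : Set (MulAut K))) {k : K} (hk : k ∈ lbalO p β) :
    c k ∈ lbalO p β := by
  have hcinv : c⁻¹ ∈ Subgroup.centralizer ({β} : Set (MulAut K)) := Subgroup.inv_mem _ hc
  have key : (lbalO p β).map (c : K ≃* K).toMonoidHom ≤ lbalO p β := by
    apply le_lbalO
    · rintro _ ⟨n, hn, rfl⟩
      exact lbal_mem_centralizer_map_fix hc (lbalO_le p β hn)
    · rintro d hd _ ⟨n, hn, rfl⟩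
      refine ⟨c⁻¹ d * n * (c⁻¹ d)⁻¹, ?_, ?_⟩
      · exact lbalO_normalized p β _ (lbal_mem_centralizer_map_fix hcinv hd) n hn
      · show c (c⁻¹ d * n * (c⁻¹ d)⁻¹) = d * c n * d⁻¹
        rw [map_mul, map_mul, map_inv]
        have : c (c⁻¹ d) = d := by
          rw [← MulAut.mul_apply, mul_inv_cancel, MulAut.one_apply]
        rw [this]
    · rw [Nat.card_congr ((lbalO p β).equivMapOfInjective _
        (c : K ≃* K).injective).symm.toEquiv]
      exact lbalO_card p β
  exact key ⟨k, hk, rfl⟩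

/-- (A3) -/
theorem lbal_h3_of_overgroup [Finite K]
    (hZ : Function.Injective (MulAut.conj : K →* MulAut K))
    (𝒟 : Subgroup (MulAut K)) (hinn : ∀ k : K, MulAut.conj k ∈ 𝒟)
    (p : ℕ) (β : MulAut K)
    (hD : ¬ HasCore p (𝒟 ⊓ Subgroup.centralizer ({β} : Set (MulAut K)))) :
    ∀ N : Subgroup K, N ≤ lbalFix β → (∀ c ∈ lbalFix β, ∀ n ∈ N, c * n * c⁻¹ ∈ N) →
      (Nat.card N).Coprime p → N = ⊥ := by
  intro N hN hnorm hcop
  have hO : lbalO p β = ⊥ := by
    by_contra hne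
    apply hD
    refine ⟨(lbalO p β).map (MulAut.conj : K →* MulAut K), ?_, ?_, ?_, ?_⟩
    · rintro _ ⟨k, hk, rfl⟩
      exact ⟨hinn k, lbal_conj_mem_centralizer (lbalO_le p β hk)⟩
    · rintro c hc _ ⟨k, hk, rfl⟩
      exact ⟨c k, lbalO_invariant p hc.2 hk, (lbal_aut_conj c k).symm⟩
    · rw [Nat.card_congr ((lbalO p β).equivMapOfInjective _ hZ).symm.toEquiv]
      exact lbalO_card p β
    · intro h
      apply hne
      rw [Subgroup.eq_bot_iff_forall] at h ⊢
      intro k hk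
      apply hZ
      rw [map_one]
      exact h _ ⟨k, hk, rfl⟩
  have := le_lbalO p β N hN hnorm hcop
  rw [hO] at this
  exact le_bot_iff.mp this

end Cfsg.Agent.LBal
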