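import Mathlib
import Cfsg.Agent.Helper8.AutSLnV
import Cfsg.Agent.Helper8.GrAutE

set_option autoImplicit false

/-!
P1 of the local balance criterion for `PSL_n` (S2686): an automorphism of prime order that is not
inner-diagonal is conjugate under the inner-diagonal group to a standard field automorphism, or it
is an involution conjugate to the standard graph-field automorphism, or an involutory graph
automorphism `graphAut A` with `A` symmetric or skew-symmetric (helper8).
-/

namespace Cfsg.Agent.LBal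

open Matrix Cfsg Cfsg.Agent.Helper8.AutSLn Cfsg.Agent.Helper8.GrAut

variable {F : Type*} [Field F] {n : ℕ}

/-- the field case -/
theorem lbal_classify_field [Finite F] (hn : 2 ≤ n) {p : ℕ} [hp : Fact p.Prime] (g : GL (Fin n) F)
    (σ : F ≃+* F)
    (hord : orderOf (pslConj g * pslField σ :
      MulAut (ProjectiveSpecialLinearGroup (Fin n) F)) = p)
    (hnot : ¬ Cfsg.IsInnerDiagonalAutPSL (pslConj g * pslField σ :
      MulAut (ProjectiveSpecialLinearGroup (Fin n) F))) :
    ∃ (h : GL (Fin n) F), orderOf σ = p ∧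
      (pslConj g * pslField σ : MulAut (ProjectiveSpecialLinearGroup (Fin n) F)) =
        pslConj h * pslField σ * (pslConj h)⁻¹ := by
  have : Nontrivial (Fin n) := Fin.nontrivial_iff_two_le.mpr hn
  have hσ1 : σ ≠ 1 := by
    rintro rfl
    apply hnot
    rw [map_one, mul_one]
    exact isInnerDiagonal_pslConj g
  have hy : (pslConj g * pslField σ : MulAut (ProjectiveSpecialLinearGroup (Fin n) F)) ^ p = 1 := by
    rw [← hord, pow_orderOf_eq_one]
  have hσp : σ ^ p = 1 := by
    have h1 := hy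
    rw [conj_field_pow] at h1
    exact (eq_one_of_conj_field_eq_one h1).2
  have hσord : orderOf σ = p := orderOf_eq_prime hσp hσ1
  have hinj : ∀ i j : Fin p, σ ^ (i : ℕ) = σ ^ (j : ℕ) → i = j := by
    intro i j e
    apply Fin.ext
    apply pow_injOn_Iio_orderOf (x := σ) _ _ e
    · rw [hσord]
      exact i.2
    · rw [hσord]
      exact j.2
  obtain ⟨h, hh⟩ := field_case σ hp.out.pos hσp hinj g hy
  exact ⟨h, hσord, hh⟩

/-- the square of an element of the graph coset lies in the standard subgroup -/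
theorem lbal_graph_coset_sq (g : GL (Fin n) F) (σ : F ≃+* F) :
    (pslConj g * pslField σ * pslInvTr : MulAut (ProjectiveSpecialLinearGroup (Fin n) F)) *
      (pslConj g * pslField σ * pslInvTr) = pslConj (g * (glStar σ g)⁻¹) * pslField (σ * σ) := by
  rw [mul_assoc (pslConj g), graphField_sq]

/-- the graph case -/
theorem lbal_classify_graph [Finite F] (h3 : 3 ≤ n) {p : ℕ} [hp : Fact p.Prime] (g : GL (Fin n) F)
    (σ : F ≃+* F)
    (hord : orderOf (pslConj g * pslField σ * pslInvTr :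
      MulAut (ProjectiveSpecialLinearGroup (Fin n) F)) = p) :
    p = 2 ∧ ((σ ≠ 1 ∧ σ * σ = 1 ∧ ∃ h : GL (Fin n) F,
        (pslConj g * pslField σ * pslInvTr : MulAut (ProjectiveSpecialLinearGroup (Fin n) F)) =
          pslConj h * (pslField σ * pslInvTr) * (pslConj h)⁻¹) ∨
      (σ = 1 ∧ ((g : Matrix (Fin n) (Fin n) F).transpose = (g : Matrix (Fin n) (Fin n) F) ∨
         (g : Matrix (Fin n) (Fin n) F).transpose = -(g : Matrix (Fin n) (Fin n) F)))) := by
  have : Nontrivial (Fin n) := Fin.nontrivial_iff_two_le.mpr (by omega)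
  obtain ⟨β, hβ⟩ : ∃ β : MulAut (ProjectiveSpecialLinearGroup (Fin n) F),
      β = pslConj g * pslField σ * pslInvTr := ⟨_, rfl⟩
  rw [← hβ] at hord
  have hsq : β * β = pslConj (g * (glStar σ g)⁻¹) * pslField (σ * σ) := by
    rw [hβ]
    exact lbal_graph_coset_sq g σ
  have hy : β ^ p = 1 := by rw [← hord, pow_orderOf_eq_one]
  have hnotstd : (pslInvTr : MulAut (ProjectiveSpecialLinearGroup (Fin n) F)) ∉ stdSub (Fin n) F :=
    pslInvTr_not_mem_stdSub (by rw [Fintype.card_fin]; exact h3)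
  have hsqmem : β * β ∈ stdSub (Fin n) F := by
    rw [hsq]
    exact ⟨_, _, rfl⟩
  have hp2 : p = 2 := by
    rcases hp.out.eq_two_or_odd' with h | h
    · exact h
    · exfalso
      obtain ⟨k, hk⟩ := h
      apply hnotstd
      have h1 : (β * β) ^ k ∈ stdSub (Fin n) F := (stdSub (Fin n) F).pow_mem hsqmem k
      have h2 : (β * β) ^ k * β = 1 := by
        rw [← pow_two, ← pow_mul, ← pow_succ, ← hk]
        exact hy
      have h4 : β ∈ stdSub (Fin n) F := by
        have h5 : β = ((β * β) ^ k)⁻¹ := eq_inv_of_mul_eq_one_right h2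
        rw [h5]
        exact (stdSub (Fin n) F).inv_mem h1
      have h6 : (pslInvTr : MulAut (ProjectiveSpecialLinearGroup (Fin n) F)) =
          (pslConj g * pslField σ)⁻¹ * β := by
        rw [hβ, inv_mul_cancel_left]
      rw [h6]
      exact (stdSub (Fin n) F).mul_mem ((stdSub (Fin n) F).inv_mem ⟨_, _, rfl⟩) h4
  refine ⟨hp2, ?_⟩
  subst hp2
  have hββ : β * β = 1 := by rw [← pow_two]; exact hy
  have hσ2 : σ * σ = 1 := by
    rw [hsq] at hββ
    exact (eq_one_of_conj_field_eq_one hββ).2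
  by_cases hσ1 : σ = 1
  · right
    refine ⟨hσ1, ?_⟩
    have h1 : β = graphAut g := by
      rw [hβ, hσ1, map_one, mul_one]
      rfl
    rw [h1] at hord
    exact (orderOf_graphAut_fin h3 g).mp hord
  · left
    refine ⟨hσ1, hσ2, ?_⟩
    have hy2 : (pslConj g * (pslField σ * pslInvTr)) * (pslConj g * (pslField σ * pslInvTr)) =
        (1 : MulAut (ProjectiveSpecialLinearGroup (Fin n) F)) := by
      rw [← mul_assoc (pslConj g) (pslField σ) pslInvTr, ← hβ]
      exact hββ
    obtain ⟨h, hh⟩ := graphField_case σ hσ1 hσ2 g hy2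
    refine ⟨h, ?_⟩
    rw [mul_assoc]
    exact hh

/-- **P1: the automorphisms of prime order of `PSL_n(F)` outside the inner-diagonal group** -/
theorem lbal_classify [Fintype F] (r : ℕ) [Fact r.Prime] [CharP F r] (hn : 2 ≤ n) {p : ℕ}
    [Fact p.Prime] (β : MulAut (ProjectiveSpecialLinearGroup (Fin n) F)) (hord : orderOf β = p)
    (hnot : ¬ Cfsg.IsInnerDiagonalAutPSL β) :
    (∃ (h : GL (Fin n) F) (σ : F ≃+* F), orderOf σ = p ∧
        β = pslConj h * pslField σ * (pslConj h)⁻¹) ∨
    (p = 2 ∧ 3 ≤ n ∧ ∃ (h : GL (Fin n) F) (σ : F ≃+* F), σ ≠ 1 ∧ σ * σ = 1 ∧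
        β = pslConj h * (pslField σ * pslInvTr) * (pslConj h)⁻¹) ∨
    (p = 2 ∧ 3 ≤ n ∧ ∃ A : GL (Fin n) F, β = graphAut A ∧
        ((A : Matrix (Fin n) (Fin n) F).transpose = (A : Matrix (Fin n) (Fin n) F) ∨
         (A : Matrix (Fin n) (Fin n) F).transpose = -(A : Matrix (Fin n) (Fin n) F))) := by
  rcases Nat.lt_or_ge n 3 with h3 | h3
  · obtain rfl : n = 2 := by omega
    obtain ⟨g, σ, rfl⟩ := aut_PSL2_standard r β
    obtain ⟨h, h1, h2⟩ := lbal_classify_field hn g σ hord hnot
    exact Or.inl ⟨h, σ, h1, h2⟩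
  · obtain ⟨g, σ, rfl | rfl⟩ := aut_PSL_standard_fin r hn β
    · obtain ⟨h, h1, h2⟩ := lbal_classify_field hn g σ hord hnot
      exact Or.inl ⟨h, σ, h1, h2⟩
    · obtain ⟨hp2, h | h⟩ := lbal_classify_graph h3 g σ hord
      · obtain ⟨h1, h2, h, hh⟩ := h
        exact Or.inr (Or.inl ⟨hp2, h3, h, σ, h1, h2, hh⟩)
      · obtain ⟨h1, h2⟩ := h
        refine Or.inr (Or.inr ⟨hp2, h3, g, ?_, h2⟩)
        rw [h1, map_one, mul_one]
        rfl

end Cfsg.Agent.LBal
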