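import Mathlib
import Cfsg.Agent.Helper8.AutSLnL
import Cfsg.Agent.Helper8.AutSLnN

set_option autoImplicit false

/-!
Piece P2 of the local balance swarm (S2686): an automorphism of `PSL_n(F)` of order prime to `p`
fixing every fixed point of a field automorphism of order `p` is trivial.
-/

namespace Cfsg.Agent.LBal

open Matrix Cfsg Cfsg.Agent.Helper8.AutSLn

variable {F : Type*} [Field F] {n : ℕ}

/-- a field automorphism fixing the fixed field of `σ` is a power of `σ` -/
theorem lbal_mem_zpowers_of_fixes [Finite F] (σ τ : F ≃+* F) (h : ∀ c, σ c = c → τ c = c) :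
    τ ∈ Subgroup.zpowers σ := by
  have : Finite (F ≃+* F) :=
    Finite.of_injective (fun e : F ≃+* F => (e : F → F)) DFunLike.coe_injective
  obtain ⟨G, hG⟩ : ∃ G : Subgroup (F ≃+* F), G = Subgroup.zpowers σ := ⟨_, rfl⟩
  have hτ : ∀ c : FixedPoints.subfield G F, τ (c : F) = c := by
    intro c
    apply h
    exact c.2 ⟨σ, by rw [hG]; exact Subgroup.mem_zpowers σ⟩
  obtain ⟨f, hf⟩ : ∃ f : F →ₐ[FixedPoints.subfield G F] F, ∀ a, f a = τ a :=
    ⟨{ (τ : F →+* F) with commutes' := hτ }, fun _ => rfl⟩
  obtain ⟨g, hg⟩ := (FixedPoints.toAlgHom_bijective G F).2 f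
  have h1 : (g : F ≃+* F) = τ := by
    ext a
    rw [← hf, ← hg]
    rfl
  rw [← h1, ← hG]
  exact g.2

/-- transvections with parameter in the fixed field are fixed by the field automorphism -/
theorem lbal_pslField_transvection (σ : F ≃+* F) {i j : Fin n} (hij : i ≠ j) {c : F}
    (hc : σ c = c) :
    (pslField σ : MulAut (ProjectiveSpecialLinearGroup (Fin n) F))
      (QuotientGroup.mk (Matrix.SpecialLinearGroup.transvection hij c)) =
      QuotientGroup.mk (Matrix.SpecialLinearGroup.transvection hij c) := by
  rw [pslField_mk, slField_transvection, hc]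

/-- the semilinear case: the automorphism is a power of the field automorphism -/
theorem lbal_h4_field_std [Finite F] (hn : 2 ≤ n) (σ : F ≃+* F) {p : ℕ} (hσ : orderOf σ = p)
    (g : GL (Fin n) F) (τ : F ≃+* F)
    (hfix : ∀ (i j : Fin n) (hij : i ≠ j) (c : F), σ c = c →
      (pslConj g * pslField τ : MulAut (ProjectiveSpecialLinearGroup (Fin n) F))
        (QuotientGroup.mk (Matrix.SpecialLinearGroup.transvection hij c)) =
        QuotientGroup.mk (Matrix.SpecialLinearGroup.transvection hij c)) :
    (pslConj g * pslField τ : MulAut (ProjectiveSpecialLinearGroup (Fin n) F)) ^ p = 1 := by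
  have : Nontrivial (Fin n) := Fin.nontrivial_iff_two_le.mpr hn
  have key : ∀ (i j : Fin n) (hij : i ≠ j) (c : F), σ c = c →
      (g : Matrix (Fin n) (Fin n) F) * Matrix.single i j (τ c) =
        Matrix.single i j c * (g : Matrix (Fin n) (Fin n) F) := by
    intro i j hij c hc
    have h1 := conj_field_transvection (g := g) (σ := τ) hij c
      (X := Matrix.SpecialLinearGroup.transvection hij c)
      (Pi.single_ne_zero_iff.mpr one_ne_zero) (transvection_mulVec_single hij c)
      (hfix i j hij c hc)
    rw [h1, Matrix.SpecialLinearGroup.transvection_coe, add_sub_cancel_left]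
  have hsc : (g : Matrix (Fin n) (Fin n) F) ∈ Set.range (Matrix.scalar (Fin n)) := by
    rw [Matrix.mem_range_scalar_iff_commute_single]
    intro i j hij
    have := key i j hij 1 (map_one σ)
    rw [map_one] at this
    exact this.symm
  have hgc : g ∈ Subgroup.center (GL (Fin n) F) :=
    Matrix.GeneralLinearGroup.mem_center_iff_val_mem_range_scalar.mpr hsc
  have hτ : ∀ c, σ c = c → τ c = c := by
    intro c hc
    obtain ⟨r, hr⟩ := hsc
    obtain ⟨i, j, hij⟩ := exists_pair_ne (Fin n)
    have h2 := key i j hij c hc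
    rw [← hr] at h2
    have h3 := congrFun (congrFun h2 i) j
    rw [Matrix.scalar_apply, Matrix.diagonal_mul, Matrix.mul_diagonal, Matrix.single_apply_same,
      Matrix.single_apply_same, mul_comm] at h3
    have hr0 : r ≠ 0 := by
      rintro rfl
      have hdet := (Matrix.GeneralLinearGroup.det g).ne_zero
      rw [Matrix.GeneralLinearGroup.val_det_apply, ← hr, map_zero, Matrix.det_zero] at hdet
      exact hdet rfl
    exact mul_right_cancel₀ hr0 h3
  have hg1 : (pslConj g : MulAut (ProjectiveSpecialLinearGroup (Fin n) F)) = 1 := by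
    have : g ∈ (pslConj : GL (Fin n) F →* MulAut (ProjectiveSpecialLinearGroup (Fin n) F)).ker := by
      rw [ker_pslConj]
      exact hgc
    exact this
  obtain ⟨k, hk⟩ := Subgroup.mem_zpowers_iff.mp (lbal_mem_zpowers_of_fixes σ τ hτ)
  rw [hg1, one_mul, ← hk, map_zpow, ← zpow_natCast, ← _root_.zpow_mul, mul_comm, _root_.zpow_mul, zpow_natCast,
    ← map_pow, ← hσ, pow_orderOf_eq_one, map_one, _root_.one_zpow]

/-- the graph case is impossible in dimension at least three -/
theorem lbal_h4_field_graph (h3 : 3 ≤ n) (g : GL (Fin n) F) (τ : F ≃+* F)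
    (hfix : ∀ (i j : Fin n) (hij : i ≠ j),
      (pslConj g * pslField τ * pslInvTr : MulAut (ProjectiveSpecialLinearGroup (Fin n) F))
        (QuotientGroup.mk (Matrix.SpecialLinearGroup.transvection hij (-1))) =
        QuotientGroup.mk (Matrix.SpecialLinearGroup.transvection hij (-1))) : False := by
  have hc : 3 ≤ Fintype.card (Fin n) := by rw [Fintype.card_fin]; exact h3
  obtain ⟨i, j, k, hij, hik, hjk⟩ := Fintype.two_lt_card_iff.mp hc
  have key : ∀ (a b : Fin n) (hab : a ≠ b),
      (g : Matrix (Fin n) (Fin n) F) * Matrix.single a b 1 =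
        Matrix.single b a (-1) * (g : Matrix (Fin n) (Fin n) F) := by
    intro a b hab
    have h0 := hfix b a hab.symm
    rw [MulAut.mul_apply, pslInvTr_mk, slInvTr_transvection, neg_neg] at h0
    have h1 := conj_field_transvection (g := g) (σ := τ) hab 1
      (X := Matrix.SpecialLinearGroup.transvection hab.symm (-1))
      (Pi.single_ne_zero_iff.mpr one_ne_zero) (transvection_mulVec_single hab.symm (-1)) h0
    rw [map_one] at h1
    rw [h1, Matrix.SpecialLinearGroup.transvection_coe, add_sub_cancel_left]
  have h1 : (g : Matrix (Fin n) (Fin n) F) * Matrix.single i k 1 = 0 := by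
    have e : (Matrix.single i k (1 : F)) = Matrix.single i j 1 * Matrix.single j k 1 := by
      rw [Matrix.single_mul_single_same, mul_one]
    rw [e, ← Matrix.mul_assoc, key i j hij, Matrix.mul_assoc, key j k hjk, ← Matrix.mul_assoc,
      Matrix.single_mul_single_of_ne (h := hik), Matrix.zero_mul]
  have h2 := congrArg (fun M : Matrix (Fin n) (Fin n) F =>
    ((g⁻¹ : GL (Fin n) F) : Matrix (Fin n) (Fin n) F) * M) h1
  simp only [← Matrix.mul_assoc, GL_coe_inv_mul, Matrix.one_mul, Matrix.mul_zero] at h2
  have h4 := congrFun (congrFun h2 i) k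
  rw [Matrix.single_apply_same, Matrix.zero_apply] at h4
  exact one_ne_zero h4

/-- **P2**: an automorphism of order prime to `p` fixing the fixed points of a field automorphism
of order `p` is trivial. -/
theorem lbal_h4_field [Fintype F] (r : ℕ) [Fact r.Prime] [CharP F r] (hn : 2 ≤ n)
    (σ : F ≃+* F) {p : ℕ} [Fact p.Prime] (hσ : orderOf σ = p)
    (α : MulAut (ProjectiveSpecialLinearGroup (Fin n) F)) (hcop : (orderOf α).Coprime p)
    (hfix : ∀ k : ProjectiveSpecialLinearGroup (Fin n) F,
      (pslField σ : MulAut (ProjectiveSpecialLinearGroup (Fin n) F)) k = k → α k = k) :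
    α = 1 := by
  have hT : ∀ (i j : Fin n) (hij : i ≠ j) (c : F), σ c = c →
      α (QuotientGroup.mk (Matrix.SpecialLinearGroup.transvection hij c)) =
        QuotientGroup.mk (Matrix.SpecialLinearGroup.transvection hij c) := by
    intro i j hij c hc
    exact hfix _ (lbal_pslField_transvection σ hij hc)
  have hstd : ∃ (g : GL (Fin n) F) (τ : F ≃+* F), α = pslConj g * pslField τ := by
    rcases Nat.lt_or_ge n 3 with h3 | h3
    · obtain rfl : n = 2 := by omega
      exact aut_PSL2_standard r α
    · obtain ⟨g, τ, h | h⟩ := aut_PSL_standard_fin r hn α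
      · exact ⟨g, τ, h⟩
      · exfalso
        apply lbal_h4_field_graph h3 g τ
        intro i j hij
        rw [← h]
        exact hT i j hij (-1) (by rw [map_neg, map_one])
  obtain ⟨g, τ, rfl⟩ := hstd
  have hpow := lbal_h4_field_std hn σ hσ g τ hT
  have hdvd : orderOf (pslConj g * pslField τ :
      MulAut (ProjectiveSpecialLinearGroup (Fin n) F)) ∣ p := orderOf_dvd_of_pow_eq_one hpow
  have h1 : orderOf (pslConj g * pslField τ :
      MulAut (ProjectiveSpecialLinearGroup (Fin n) F)) = 1 := Nat.Coprime.eq_one_of_dvd hcop hdvd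
  exact orderOf_eq_one_iff.mp h1

end Cfsg.Agent.LBal
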