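import Mathlib
import Cfsg.Agent.Helper8.AutSLnO
import Cfsg.Agent.Helper8.AutSLnGFa

/-!
# LBal P7 (S2686): an automorphism of odd order of `PSL_n(F)`, `n ≥ 3`, `char F ≠ 2`, fixing every
fixed point of a graph-field involution `pslField σ * pslInvTr` is trivial.

The fixed points used are the classes of the unitary transvections `1 + c • u (σ u)ᵀ`
(`u` isotropic for the hermitian form `∑ xᵢ σ(yᵢ)`, `σ c = -c`).
-/

set_option autoImplicit false

namespace Cfsg.Agent.LBal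

open Matrix Cfsg Cfsg.Agent.Helper8.AutSLn

variable {F : Type*} [Field F] {n : ℕ}

/-- the transvection `1 + u wᵀ` (`wᵀ u = 0`) as an element of `SL` -/
def lbal_gf_tv (u w : Fin n → F) (h : w ⬝ᵥ u = 0) : SpecialLinearGroup (Fin n) F :=
  ⟨1 + vecMulVec u w, by
    rw [Matrix.vecMulVec_eq Unit, det_one_add_replicateCol_mul_replicateRow, h, add_zero]⟩

theorem lbal_gf_tv_coe (u w : Fin n → F) (h : w ⬝ᵥ u = 0) :
    (lbal_gf_tv u w h : Matrix (Fin n) (Fin n) F) = 1 + vecMulVec u w := rfl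

theorem lbal_gf_vecMulVec_sq (u w : Fin n → F) (h : w ⬝ᵥ u = 0) :
    vecMulVec u w * vecMulVec u w = 0 := by
  rw [vecMulVec_mul_vecMulVec, h, zero_smul]
  ext i j
  simp [vecMulVec_apply]

theorem lbal_gf_tv_inv (u w : Fin n → F) (h : w ⬝ᵥ u = 0) :
    (lbal_gf_tv u w h)⁻¹ = lbal_gf_tv (-u) w (by rw [dotProduct_neg, h, neg_zero]) := by
  rw [inv_eq_iff_mul_eq_one]
  apply Subtype.ext
  rw [Matrix.SpecialLinearGroup.coe_mul, lbal_gf_tv_coe, lbal_gf_tv_coe, Matrix.SpecialLinearGroup.coe_one]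
  have e : vecMulVec (-u) w = -vecMulVec u w := by
    ext i j
    simp [vecMulVec_apply]
  rw [e, Matrix.add_mul, Matrix.one_mul, Matrix.mul_add, Matrix.mul_one, Matrix.mul_neg,
    lbal_gf_vecMulVec_sq u w h]
  abel

theorem lbal_gf_tv_mulVec (u w : Fin n → F) (h : w ⬝ᵥ u = 0) :
    (lbal_gf_tv u w h : Matrix (Fin n) (Fin n) F) *ᵥ u = u := by
  rw [lbal_gf_tv_coe, Matrix.add_mulVec, Matrix.one_mulVec, vecMulVec_mulVec, h]
  simp

/-- the field automorphism applied to a transvection -/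
theorem lbal_gf_slField_tv (τ : F ≃+* F) (u w : Fin n → F) (h : w ⬝ᵥ u = 0) :
    ((slField τ (lbal_gf_tv u w h) : SpecialLinearGroup (Fin n) F) : Matrix (Fin n) (Fin n) F) =
      1 + vecMulVec (τ ∘ u) (τ ∘ w) := by
  rw [slField_coe, lbal_gf_tv_coe]
  ext i j
  rw [Matrix.map_apply, Matrix.add_apply, Matrix.add_apply, map_add, vecMulVec_apply,
    vecMulVec_apply, map_mul, Matrix.one_apply]
  split_ifs <;> simp

/-- conjugation applied to `1 + u wᵀ` -/
theorem lbal_gf_slConj_coe_sub_one (g : GL (Fin n) F) (s : SpecialLinearGroup (Fin n) F)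
    (u w : Fin n → F) (hs : (s : Matrix (Fin n) (Fin n) F) = 1 + vecMulVec u w) :
    ((slConj g s : SpecialLinearGroup (Fin n) F) : Matrix (Fin n) (Fin n) F) =
      1 + vecMulVec ((g : Matrix (Fin n) (Fin n) F) *ᵥ u)
        (w ᵥ* ((g⁻¹ : GL (Fin n) F) : Matrix (Fin n) (Fin n) F)) := by
  rw [slConj_coe, hs, Matrix.mul_add, Matrix.add_mul, Matrix.mul_one, GL_coe_mul_inv,
    mul_vecMulVec, vecMulVec_mul]

/-- the inverse transpose of a transvection -/
theorem lbal_gf_slInvTr_tv (u w : Fin n → F) (h : w ⬝ᵥ u = 0) :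
    ((slInvTr (lbal_gf_tv u w h) : SpecialLinearGroup (Fin n) F) : Matrix (Fin n) (Fin n) F) =
      1 + vecMulVec w (-u) := by
  rw [slInvTr_coe, lbal_gf_tv_inv, lbal_gf_tv_coe, Matrix.transpose_add, Matrix.transpose_one]
  congr 1
  ext i j
  rw [Matrix.transpose_apply, vecMulVec_apply, vecMulVec_apply, mul_comm]

theorem lbal_gf_sigma_sigma (σ : F ≃+* F) (hσ2 : σ * σ = 1) (x : F) : σ (σ x) = x :=
  RingEquiv.congr_fun hσ2 x

theorem lbal_gf_utv_aux (σ : F ≃+* F) (u : Fin n → F) (hu : (σ ∘ u) ⬝ᵥ u = 0) (c : F) :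
    (σ ∘ u) ⬝ᵥ (c • u) = 0 := by
  rw [dotProduct_smul, hu, smul_zero]

/-- the classes of the unitary transvections are fixed by the graph-field automorphism -/
theorem lbal_gf_utv_fixed (σ : F ≃+* F) (hσ2 : σ * σ = 1) (u : Fin n → F)
    (hu : (σ ∘ u) ⬝ᵥ u = 0) (c : F) (hc : σ c = -c) :
    (pslField σ * pslInvTr : MulAut (ProjectiveSpecialLinearGroup (Fin n) F))
      (QuotientGroup.mk (lbal_gf_tv (c • u) (σ ∘ u) (lbal_gf_utv_aux σ u hu c))) =
      QuotientGroup.mk (lbal_gf_tv (c • u) (σ ∘ u) (lbal_gf_utv_aux σ u hu c)) := by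
  rw [MulAut.mul_apply, pslInvTr_mk, pslField_mk]
  congr 1
  apply Subtype.ext
  rw [slField_coe, lbal_gf_slInvTr_tv, lbal_gf_tv_coe]
  ext i j
  rw [Matrix.map_apply, Matrix.add_apply, Matrix.add_apply, map_add, vecMulVec_apply,
    vecMulVec_apply, map_mul, Matrix.one_apply]
  have h1 : σ ((σ ∘ u) i) = u i := lbal_gf_sigma_sigma σ hσ2 (u i)
  have h2 : σ ((-(c • u)) j) = c * σ (u j) := by
    rw [Pi.neg_apply, Pi.smul_apply, smul_eq_mul, map_neg, map_mul, hc, neg_mul, neg_neg]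
  rw [h1, h2]
  have h3 : σ (if i = j then (1 : F) else 0) = if i = j then 1 else 0 := by
    split_ifs <;> simp
  rw [h3, Pi.smul_apply, smul_eq_mul, Function.comp_apply]
  ring

/-- **eigenvector lemma**: the semilinear map `g ∘ τ` maps every isotropic vector to a multiple of
itself -/
theorem lbal_gf_eigen (σ : F ≃+* F) (hσ2 : σ * σ = 1) (g : GL (Fin n) F) (τ : F ≃+* F)
    (hfix : ∀ k : ProjectiveSpecialLinearGroup (Fin n) F,
      (pslField σ * pslInvTr : MulAut (ProjectiveSpecialLinearGroup (Fin n) F)) k = k →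
        (pslConj g * pslField τ : MulAut (ProjectiveSpecialLinearGroup (Fin n) F)) k = k)
    (c : F) (hc0 : c ≠ 0) (hc : σ c = -c) (u : Fin n → F) (hu0 : u ≠ 0)
    (hu : (σ ∘ u) ⬝ᵥ u = 0) :
    ∃ μ : F, (g : Matrix (Fin n) (Fin n) F) *ᵥ (τ ∘ u) = μ • u := by
  have hs := hfix _ (lbal_gf_utv_fixed σ hσ2 u hu c hc)
  rw [MulAut.mul_apply, pslField_mk, pslConj_mk] at hs
  obtain ⟨w'', hw''⟩ : ∃ w'' : Fin n → F, w'' =
      (τ ∘ (σ ∘ u)) ᵥ* ((g⁻¹ : GL (Fin n) F) : Matrix (Fin n) (Fin n) F) := ⟨_, rfl⟩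
  have hb := lbal_gf_slConj_coe_sub_one g _ _ _
    (lbal_gf_slField_tv τ (c • u) (σ ∘ u) (lbal_gf_utv_aux σ u hu c))
  rw [← hw''] at hb
  obtain ⟨b, hbdef⟩ : ∃ b : SpecialLinearGroup (Fin n) F,
      b = slConj g (slField τ (lbal_gf_tv (c • u) (σ ∘ u) (lbal_gf_utv_aux σ u hu c))) := ⟨_, rfl⟩
  rw [← hbdef] at hb hs
  have hdot : w'' ⬝ᵥ ((g : Matrix (Fin n) (Fin n) F) *ᵥ (τ ∘ (c • u))) = 0 := by
    rw [hw'', ← Matrix.dotProduct_mulVec, Matrix.mulVec_mulVec, GL_coe_inv_mul,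
      Matrix.one_mulVec]
    have := RingHom.map_dotProduct (τ : F →+* F) (σ ∘ u) (c • u)
    rw [lbal_gf_utv_aux σ u hu c, map_zero] at this
    exact this.symm
  have hsq : ((b : Matrix (Fin n) (Fin n) F) - 1) * ((b : Matrix (Fin n) (Fin n) F) - 1) = 0 := by
    rw [hb, add_sub_cancel_left]
    exact lbal_gf_vecMulVec_sq _ _ hdot
  have hcu : c • u ≠ 0 := smul_ne_zero hc0 hu0
  have heq := eq_of_mk_eq hs.symm hcu (lbal_gf_tv_mulVec (c • u) (σ ∘ u) (lbal_gf_utv_aux σ u hu c)) hsq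
  have hmat := congrArg (fun t : SpecialLinearGroup (Fin n) F => (t : Matrix (Fin n) (Fin n) F)) heq
  rw [hb, lbal_gf_tv_coe, add_right_inj] at hmat
  obtain ⟨i0, hi0⟩ : ∃ i0, u i0 ≠ 0 := by
    by_contra hcon
    push Not at hcon
    exact hu0 (funext hcon)
  have hent : ∀ i j, c * u i * σ (u j) =
      ((g : Matrix (Fin n) (Fin n) F) *ᵥ (τ ∘ (c • u))) i * w'' j := by
    intro i j
    have := congrFun (congrFun hmat i) j
    rw [vecMulVec_apply, vecMulVec_apply, Pi.smul_apply, smul_eq_mul, Function.comp_apply] at this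
    exact this
  have hw0 : w'' i0 ≠ 0 := by
    intro h0
    have := hent i0 i0
    rw [h0, mul_zero] at this
    have hσu : σ (u i0) ≠ 0 := by
      intro h
      exact hi0 ((map_eq_zero σ).mp h)
    exact mul_ne_zero (mul_ne_zero hc0 hi0) hσu this
  have hτc : τ c ≠ 0 := by
    intro h
    exact hc0 ((map_eq_zero τ).mp h)
  have hsm : (g : Matrix (Fin n) (Fin n) F) *ᵥ (τ ∘ (c • u)) =
      τ c • ((g : Matrix (Fin n) (Fin n) F) *ᵥ (τ ∘ u)) := by
    have : τ ∘ (c • u) = τ c • (τ ∘ u) := by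
      ext i
      simp
    rw [this, Matrix.mulVec_smul]
  refine ⟨c * σ (u i0) / (w'' i0 * τ c), ?_⟩
  ext i
  have h1 := hent i i0
  rw [hsm, Pi.smul_apply, smul_eq_mul] at h1
  rw [Pi.smul_apply, smul_eq_mul]
  field_simp
  linear_combination -h1

/-- a non-zero element with `σ c = -c` -/
theorem lbal_gf_exists_skew (σ : F ≃+* F) (hσ1 : σ ≠ 1) (hσ2 : σ * σ = 1) :
    ∃ c : F, c ≠ 0 ∧ σ c = -c := by
  obtain ⟨θ, hθ⟩ : ∃ θ : F, σ θ ≠ θ := by
    by_contra hcon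
    push Not at hcon
    exact hσ1 (RingEquiv.ext hcon)
  refine ⟨θ - σ θ, fun h => hθ (sub_eq_zero.mp h).symm, ?_⟩
  rw [map_sub, lbal_gf_sigma_sigma σ hσ2]
  ring

/-- surjectivity of the norm onto the fixed field -/
theorem lbal_gf_exists_norm [Finite F] (σ : F ≃+* F) (hσ1 : σ ≠ 1) (hσ2 : σ * σ = 1) (c : F)
    (hc : σ c = c) : ∃ y : F, y * σ y = c := by
  by_cases hc0 : c = 0
  · exact ⟨0, by rw [hc0, zero_mul]⟩
  · have hσ2' : σ ^ 2 = 1 := by rw [pow_two, hσ2]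
    have hμ : unitsAut σ (Units.mk0 c hc0) = Units.mk0 c hc0 := by
      apply Units.ext
      rw [unitsAut_coe]
      exact hc
    obtain ⟨y, hy⟩ := exists_nrmF_eq σ two_pos hσ2' (hinj_two σ hσ1) (Units.mk0 c hc0) hμ
    rw [nrmF_two] at hy
    refine ⟨(y : F), ?_⟩
    have := congrArg (fun t : Fˣ => (t : F)) hy
    simpa [unitsAut_coe] using this

/-- the vector `e_i + x e_j + y e_k` -/
def lbal_gf_v3 (i j k : Fin n) (x y : F) : Fin n → F :=
  Pi.single i 1 + Pi.single j x + Pi.single k y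

theorem lbal_gf_v3_comp (τ : F ≃+* F) (i j k : Fin n) (x y : F) :
    τ ∘ lbal_gf_v3 i j k x y = lbal_gf_v3 i j k (τ x) (τ y) := by
  ext l
  simp only [lbal_gf_v3, Function.comp_apply, Pi.add_apply, Pi.single_apply, map_add]
  split_ifs <;> simp

theorem lbal_gf_v3_dot (σ : F ≃+* F) {i j k : Fin n} (hij : i ≠ j) (hik : i ≠ k) (hjk : j ≠ k)
    (x y : F) :
    (σ ∘ lbal_gf_v3 i j k x y) ⬝ᵥ lbal_gf_v3 i j k x y = 1 + σ x * x + σ y * y := by
  rw [lbal_gf_v3_comp]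
  simp only [lbal_gf_v3, add_dotProduct, single_dotProduct, Pi.add_apply, Pi.single_apply]
  simp [hij, hik, hjk, hij.symm, hik.symm, hjk.symm]

theorem lbal_gf_v3_ne_zero {i j k : Fin n} (hij : i ≠ j) (hik : i ≠ k) (x y : F) :
    lbal_gf_v3 i j k x y ≠ 0 := by
  intro h
  have := congrFun h i
  simp [lbal_gf_v3, Pi.single_apply, hij, hik] at this

theorem lbal_gf_mulVec_v3 (M : Matrix (Fin n) (Fin n) F) (i j k : Fin n) (x y : F) (l : Fin n) :
    (M *ᵥ lbal_gf_v3 i j k x y) l = M l i + M l j * x + M l k * y := by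
  simp [lbal_gf_v3, Matrix.mulVec_add, Matrix.mulVec_single, Pi.add_apply]
  ring

theorem lbal_gf_exists_ne_ne (h3 : 3 ≤ n) (i l : Fin n) : ∃ j : Fin n, j ≠ i ∧ j ≠ l := by
  by_contra hcon
  push Not at hcon
  have h0 := hcon ⟨0, by omega⟩
  have h1 := hcon ⟨1, by omega⟩
  have h2 := hcon ⟨2, by omega⟩
  simp only [ne_eq, Fin.ext_iff] at h0 h1 h2
  omega

/-- **Step A**: `g` is diagonal. -/
theorem lbal_gf_diag [Finite F] (h3 : 3 ≤ n) (h2 : (2 : F) ≠ 0) (σ : F ≃+* F) (hσ1 : σ ≠ 1)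
    (hσ2 : σ * σ = 1) (M : Matrix (Fin n) (Fin n) F) (τ : F ≃+* F)
    (hE : ∀ u : Fin n → F, u ≠ 0 → (σ ∘ u) ⬝ᵥ u = 0 → ∃ μ : F, M *ᵥ (τ ∘ u) = μ • u)
    (i l : Fin n) (hli : l ≠ i) : M l i = 0 := by
  obtain ⟨j, hji, hjl⟩ := lbal_gf_exists_ne_ne h3 i l
  obtain ⟨a, ha⟩ := lbal_gf_exists_norm σ hσ1 hσ2 (-1) (by rw [map_neg, map_one])
  have key : ∀ b : F, b * σ b = -1 → M l i + M l j * τ b = 0 := by
    intro b hb
    have hiso : (σ ∘ lbal_gf_v3 i j l b 0) ⬝ᵥ lbal_gf_v3 i j l b 0 = 0 := by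
      rw [lbal_gf_v3_dot σ hji.symm hli.symm hjl, map_zero, zero_mul, add_zero, mul_comm, hb]
      ring
    obtain ⟨μ, hμ⟩ := hE _ (lbal_gf_v3_ne_zero hji.symm hli.symm b 0) hiso
    have := congrFun hμ l
    rw [lbal_gf_v3_comp, lbal_gf_mulVec_v3, map_zero, mul_zero, add_zero, Pi.smul_apply, smul_eq_mul] at this
    rw [this]
    simp [lbal_gf_v3, Pi.single_apply, hli, hjl.symm]
  have k1 := key a ha
  have k2 := key (-a) (by rw [map_neg, neg_mul_neg, ha])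
  rw [map_neg, mul_neg] at k2
  have : (2 : F) * M l i = 0 := by linear_combination k1 + k2
  rcases mul_eq_zero.mp this with h | h
  · exact absurd h h2
  · exact h

/-- **Step B**: the diagonal entries are related by `τ`. -/
theorem lbal_gf_entries [Finite F] (h3 : 3 ≤ n) (σ : F ≃+* F) (hσ1 : σ ≠ 1)
    (hσ2 : σ * σ = 1) (M : Matrix (Fin n) (Fin n) F) (τ : F ≃+* F)
    (hE : ∀ u : Fin n → F, u ≠ 0 → (σ ∘ u) ⬝ᵥ u = 0 → ∃ μ : F, M *ᵥ (τ ∘ u) = μ • u)
    (hD : ∀ i l : Fin n, l ≠ i → M l i = 0)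
    (i j : Fin n) (hij : i ≠ j) (x : F) : M j j * τ x = M i i * x := by
  obtain ⟨k, hki, hkj⟩ := lbal_gf_exists_ne_ne h3 i j
  obtain ⟨y, hy⟩ := lbal_gf_exists_norm σ hσ1 hσ2 (-1 - x * σ x) (by
    rw [map_sub, map_neg, map_one, map_mul, lbal_gf_sigma_sigma σ hσ2]
    ring)
  have hiso : (σ ∘ lbal_gf_v3 i j k x y) ⬝ᵥ lbal_gf_v3 i j k x y = 0 := by
    rw [lbal_gf_v3_dot σ hij hki.symm hkj.symm, mul_comm (σ y) y, hy]
    ring
  obtain ⟨μ, hμ⟩ := hE _ (lbal_gf_v3_ne_zero hij hki.symm x y) hiso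
  have e1 := congrFun hμ i
  have e2 := congrFun hμ j
  rw [lbal_gf_v3_comp, lbal_gf_mulVec_v3, Pi.smul_apply, smul_eq_mul] at e1 e2
  rw [hD j i hij, hD k i hki.symm] at e1
  rw [hD i j hij.symm, hD k j hkj.symm] at e2
  have v1 : lbal_gf_v3 i j k x y i = 1 := by
    simp [lbal_gf_v3, Pi.single_apply, hij, hki.symm]
  have v2 : lbal_gf_v3 i j k x y j = x := by
    simp [lbal_gf_v3, Pi.single_apply, hij.symm, hkj.symm]
  rw [v1] at e1
  rw [v2] at e2
  linear_combination e2 - x * e1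

/-- an automorphism of odd order lies in the subgroup of index two of the semilinear ones -/
theorem lbal_gf_mem_stdSub_of_odd [Fintype F] (r : ℕ) [Fact r.Prime] [CharP F r] (h3 : 3 ≤ n)
    (α : MulAut (ProjectiveSpecialLinearGroup (Fin n) F)) (hcop : (orderOf α).Coprime 2) :
    α ∈ stdSub (Fin n) F := by
  have hidx := stdSub_index (F := F) r h3
  have hodd : Odd (orderOf α) := Nat.coprime_two_right.mp hcop
  obtain ⟨k, hk⟩ := hodd
  have h1 : α = (α ^ (k + 1)) ^ 2 := by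
    rw [← pow_mul, show (k + 1) * 2 = orderOf α + 1 by omega, pow_succ, pow_orderOf_eq_one,
      one_mul]
  rw [h1]
  exact Subgroup.sq_mem_of_index_two hidx _

/-- **LBal P7.** -/
theorem lbal_h4_graphField [Fintype F] (r : ℕ) [Fact r.Prime] [CharP F r] (hr2 : r ≠ 2)
    (h3 : 3 ≤ n) (σ : F ≃+* F) (hσ1 : σ ≠ 1) (hσ2 : σ * σ = 1)
    (α : MulAut (ProjectiveSpecialLinearGroup (Fin n) F)) (hcop : (orderOf α).Coprime 2)
    (hfix : ∀ k : ProjectiveSpecialLinearGroup (Fin n) F,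
      (pslField σ * pslInvTr : MulAut (ProjectiveSpecialLinearGroup (Fin n) F)) k = k → α k = k) :
    α = 1 := by
  obtain ⟨g, τ, hα⟩ := lbal_gf_mem_stdSub_of_odd r h3 α hcop
  have h2 : (2 : F) ≠ 0 := by
    intro h
    have h' : ((2 : ℕ) : F) = 0 := by exact_mod_cast h
    rw [CharP.cast_eq_zero_iff F r 2] at h'
    exact hr2 ((Nat.prime_dvd_prime_iff_eq Fact.out Nat.prime_two).mp h')
  obtain ⟨c, hc0, hc⟩ := lbal_gf_exists_skew σ hσ1 hσ2
  rw [hα] at hfix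
  have hE : ∀ u : Fin n → F, u ≠ 0 → (σ ∘ u) ⬝ᵥ u = 0 →
      ∃ μ : F, (g : Matrix (Fin n) (Fin n) F) *ᵥ (τ ∘ u) = μ • u :=
    fun u hu0 hu => lbal_gf_eigen σ hσ2 g τ hfix c hc0 hc u hu0 hu
  have hD := lbal_gf_diag h3 h2 σ hσ1 hσ2 (g : Matrix (Fin n) (Fin n) F) τ hE
  have hB := lbal_gf_entries h3 σ hσ1 hσ2 (g : Matrix (Fin n) (Fin n) F) τ hE hD
  -- all diagonal entries agree
  have hdiag : ∀ i j : Fin n, (g : Matrix (Fin n) (Fin n) F) j j = (g : Matrix (Fin n) (Fin n) F) i i := by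
    intro i j
    by_cases hij : i = j
    · rw [hij]
    · have := hB i j hij 1
      rwa [map_one, mul_one, mul_one] at this
  have i0 : Fin n := ⟨0, by omega⟩
  obtain ⟨d, hd⟩ : ∃ d : F, d = (g : Matrix (Fin n) (Fin n) F) i0 i0 := ⟨_, rfl⟩
  have hg : (g : Matrix (Fin n) (Fin n) F) = d • (1 : Matrix (Fin n) (Fin n) F) := by
    ext l i
    rw [Matrix.smul_apply, Matrix.one_apply, smul_eq_mul]
    by_cases hli : l = i
    · rw [if_pos hli, mul_one, hli, hd]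
      exact hdiag i0 i
    · rw [if_neg hli, mul_zero]
      exact hD i l hli
  have hd0 : d ≠ 0 := by
    intro h0
    rw [h0, zero_smul] at hg
    have h1 := GL_coe_mul_inv g
    rw [hg, Matrix.zero_mul] at h1
    have := congrFun (congrFun h1 i0) i0
    rw [Matrix.zero_apply, Matrix.one_apply_eq] at this
    exact zero_ne_one this
  have hτ : τ = 1 := by
    apply RingEquiv.ext
    intro x
    obtain ⟨j, hj, -⟩ := lbal_gf_exists_ne_ne h3 i0 i0
    have := hB i0 j hj.symm x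
    rw [hdiag i0 j, ← hd] at this
    exact mul_left_cancel₀ hd0 this
  have hgc : g ∈ Subgroup.center (GL (Fin n) F) := by
    rw [Subgroup.mem_center_iff]
    intro h
    apply Units.ext
    rw [Units.val_mul, Units.val_mul, hg, Matrix.mul_smul, Matrix.smul_mul, Matrix.mul_one,
      Matrix.one_mul]
  have : Nontrivial (Fin n) := Fin.nontrivial_iff_two_le.mpr (by omega)
  have hker : pslConj g = (1 : MulAut (ProjectiveSpecialLinearGroup (Fin n) F)) := by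
    rw [← MonoidHom.mem_ker, ker_pslConj]
    exact hgc
  rw [hα, hker, hτ, map_one, mul_one]

end Cfsg.Agent.LBal
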