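import Mathlib

set_option autoImplicit false

/-!
Piece P9 of the local balance swarm (S2686), part A: reflections of a diagonal symmetric form
and the involutions `ρ_x ρ_u` (`x ⊥ u`), as explicit matrices.
-/

namespace Cfsg.Agent.LBal

open Matrix

variable {F : Type*} [Field F] {n : ℕ}

theorem lbal_ring_aux1 {R : Type*} [Ring R] [Algebra F R] (M : R) (c q : F)
    (hMM : M * M = q • M) (hc : c * q = 2) : (1 - c • M) * (1 - c • M) = 1 := by
  have e : (1 - c • M) * (1 - c • M) = 1 - c • M - c • M + (c * c) • (M * M) := by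
    simp only [sub_mul, mul_sub, one_mul, mul_one, smul_mul_assoc, mul_smul_comm]
    module
  rw [e, hMM, smul_smul]
  have h2 : c * c * q = c + c := by rw [mul_assoc, hc]; ring
  rw [h2, add_smul]
  abel

theorem lbal_ring_aux2 {R : Type*} [Ring R] [Algebra F R] (A M N S : R) (c q : F)
    (h1 : N * A = S) (h2 : A * M = S) (h3 : S * M = q • S) (hc : c * q = 2) :
    (1 - c • N) * A * (1 - c • M) = A := by
  have e : (1 - c • N) * A * (1 - c • M) =
      A - c • (N * A) - c • (A * M) + (c * c) • (N * A * M) := by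
    simp only [sub_mul, mul_sub, one_mul, mul_one, smul_mul_assoc, mul_smul_comm, mul_assoc]
    module
  rw [e, h1, h2, h3, smul_smul]
  have h4 : c * c * q = c + c := by rw [mul_assoc, hc]; ring
  rw [h4, add_smul]
  abel

theorem lbal_ring_aux3 {R : Type*} [Ring R] [Algebra F R] (M N : R) (c c' : F)
    (h : M * N = 0) : (1 - c • M) * (1 - c' • N) = 1 - c • M - c' • N := by
  have e : (1 - c • M) * (1 - c' • N) = 1 - c • M - c' • N + (c * c') • (M * N) := by
    simp only [sub_mul, mul_sub, one_mul, mul_one, smul_mul_assoc, mul_smul_comm]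
    module
  rw [e, h, smul_zero, add_zero]

/-- the diagonal symmetric form -/
def lbal_bd (d : Fin n → F) (x y : Fin n → F) : F := ∑ a, x a * d a * y a

/-- the vector `A x` -/
def lbal_w (d : Fin n → F) (x : Fin n → F) : Fin n → F := fun a => d a * x a

theorem lbal_w_dot (d x y : Fin n → F) : lbal_w d x ⬝ᵥ y = lbal_bd d x y := by
  unfold lbal_w lbal_bd dotProduct
  apply Finset.sum_congr rfl
  intro a _
  ring

theorem lbal_dot_w (d x y : Fin n → F) : y ⬝ᵥ lbal_w d x = lbal_bd d y x := by
  unfold lbal_w lbal_bd dotProduct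
  apply Finset.sum_congr rfl
  intro a _
  ring

theorem lbal_bd_comm (d x y : Fin n → F) : lbal_bd d x y = lbal_bd d y x := by
  unfold lbal_bd
  apply Finset.sum_congr rfl
  intro a _
  ring

theorem lbal_diag_mulVec (d x : Fin n → F) : Matrix.diagonal d *ᵥ x = lbal_w d x := by
  ext a
  rw [Matrix.mulVec_diagonal]
  rfl

theorem lbal_vecMul_diag (d x : Fin n → F) : x ᵥ* Matrix.diagonal d = lbal_w d x := by
  ext a
  rw [Matrix.vecMul_diagonal]
  unfold lbal_w
  ring

/-- the rank one matrix `u (A u)ᵀ` -/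
def lbal_M (d : Fin n → F) (u : Fin n → F) : Matrix (Fin n) (Fin n) F :=
  vecMulVec u (lbal_w d u)

theorem lbal_M_mul_M (d x u : Fin n → F) :
    lbal_M d x * lbal_M d u = lbal_bd d x u • vecMulVec x (lbal_w d u) := by
  unfold lbal_M
  rw [vecMulVec_mul_vecMulVec, lbal_w_dot, vecMulVec_smul]

/-- the reflection along `u` -/
def lbal_refl (d : Fin n → F) (u : Fin n → F) : Matrix (Fin n) (Fin n) F :=
  1 - (2 / lbal_bd d u u) • lbal_M d u

theorem lbal_M_mul_self (d u : Fin n → F) :
    lbal_M d u * lbal_M d u = lbal_bd d u u • lbal_M d u := lbal_M_mul_M d u u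

theorem lbal_two_div_mul {q : F} (hq : q ≠ 0) : 2 / q * q = 2 := by
  field_simp

theorem lbal_refl_mul_self (d u : Fin n → F) (hu : lbal_bd d u u ≠ 0) :
    lbal_refl d u * lbal_refl d u = 1 :=
  lbal_ring_aux1 (lbal_M d u) _ _ (lbal_M_mul_self d u) (lbal_two_div_mul hu)

/-- the product of two orthogonal reflections -/
theorem lbal_refl_mul_refl (d x u : Fin n → F) (hxu : lbal_bd d x u = 0) :
    lbal_refl d x * lbal_refl d u =
      1 - (2 / lbal_bd d x x) • lbal_M d x - (2 / lbal_bd d u u) • lbal_M d u := by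
  apply lbal_ring_aux3
  rw [lbal_M_mul_M, hxu, zero_smul]

theorem lbal_refl_comm (d x u : Fin n → F) (hxu : lbal_bd d x u = 0) :
    lbal_refl d x * lbal_refl d u = lbal_refl d u * lbal_refl d x := by
  rw [lbal_refl_mul_refl d x u hxu, lbal_refl_mul_refl d u x (by rw [lbal_bd_comm, hxu])]
  abel

/-- reflections are isometries of the diagonal form -/
theorem lbal_refl_isom (d u : Fin n → F) (hu : lbal_bd d u u ≠ 0) :
    (lbal_refl d u).transpose * Matrix.diagonal d * lbal_refl d u = Matrix.diagonal d := by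
  have hT : (lbal_refl d u).transpose =
      1 - (2 / lbal_bd d u u) • vecMulVec (lbal_w d u) u := by
    unfold lbal_refl lbal_M
    rw [Matrix.transpose_sub, Matrix.transpose_one, Matrix.transpose_smul]
    congr 2
    ext a b
    rw [Matrix.transpose_apply, vecMulVec_apply, vecMulVec_apply, mul_comm]
  have h1 : vecMulVec (lbal_w d u) u * Matrix.diagonal d =
      vecMulVec (lbal_w d u) (lbal_w d u) := by
    rw [vecMulVec_mul, lbal_vecMul_diag]
  have h2 : Matrix.diagonal d * lbal_M d u = vecMulVec (lbal_w d u) (lbal_w d u) := by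
    unfold lbal_M
    ext a b
    rw [Matrix.diagonal_mul, vecMulVec_apply, vecMulVec_apply]
    unfold lbal_w
    ring
  have h3 : vecMulVec (lbal_w d u) (lbal_w d u) * lbal_M d u =
      lbal_bd d u u • vecMulVec (lbal_w d u) (lbal_w d u) := by
    unfold lbal_M
    rw [vecMulVec_mul_vecMulVec, lbal_w_dot, vecMulVec_smul]
  rw [hT]
  unfold lbal_refl
  exact lbal_ring_aux2 (Matrix.diagonal d) (lbal_M d u) (vecMulVec (lbal_w d u) u)
    (vecMulVec (lbal_w d u) (lbal_w d u)) _ _ h1 h2 h3 (lbal_two_div_mul hu)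

theorem lbal_refl_det (d u : Fin n → F) (hu : lbal_bd d u u ≠ 0) :
    (lbal_refl d u).det = -1 := by
  have h1 : lbal_refl d u = 1 + Matrix.replicateCol Unit (-(2 / lbal_bd d u u) • u) *
      Matrix.replicateRow Unit (lbal_w d u) := by
    unfold lbal_refl lbal_M
    ext a b
    rw [Matrix.sub_apply, Matrix.add_apply, Matrix.smul_apply, vecMulVec_apply,
      Matrix.mul_apply, Fintype.sum_unique]
    simp only [Matrix.replicateCol_apply, Matrix.replicateRow_apply, Pi.smul_apply, smul_eq_mul]
    ring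
  rw [h1, Matrix.det_one_add_replicateCol_mul_replicateRow, dotProduct_smul, lbal_w_dot,
    smul_eq_mul]
  field_simp
  ring

/-- the involution `ρ_x ρ_u` (transposed) as an element of `SL_n` -/
def lbal_J (d x u : Fin n → F) (hx : lbal_bd d x x ≠ 0) (hu : lbal_bd d u u ≠ 0) :
    Matrix.SpecialLinearGroup (Fin n) F :=
  ⟨(lbal_refl d x * lbal_refl d u).transpose, by
    rw [Matrix.det_transpose, Matrix.det_mul, lbal_refl_det d x hx, lbal_refl_det d u hu]
    norm_num⟩

theorem lbal_J_coe (d x u : Fin n → F) (hx : lbal_bd d x x ≠ 0) (hu : lbal_bd d u u ≠ 0) :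
    (lbal_J d x u hx hu : Matrix (Fin n) (Fin n) F) =
      (lbal_refl d x * lbal_refl d u).transpose := rfl

theorem lbal_J_mul_self (d x u : Fin n → F) (hx : lbal_bd d x x ≠ 0) (hu : lbal_bd d u u ≠ 0)
    (hxu : lbal_bd d x u = 0) : lbal_J d x u hx hu * lbal_J d x u hx hu = 1 := by
  apply Subtype.ext
  rw [Matrix.SpecialLinearGroup.coe_mul, lbal_J_coe, ← Matrix.transpose_mul,
    Matrix.SpecialLinearGroup.coe_one]
  have h : lbal_refl d x * lbal_refl d u * (lbal_refl d x * lbal_refl d u) = 1 := by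
    calc lbal_refl d x * lbal_refl d u * (lbal_refl d x * lbal_refl d u)
        = lbal_refl d x * (lbal_refl d u * lbal_refl d x) * lbal_refl d u := by
          simp only [Matrix.mul_assoc]
      _ = lbal_refl d x * (lbal_refl d x * lbal_refl d u) * lbal_refl d u := by
          rw [lbal_refl_comm d x u hxu]
      _ = (lbal_refl d x * lbal_refl d x) * (lbal_refl d u * lbal_refl d u) := by
          simp only [Matrix.mul_assoc]
      _ = 1 := by rw [lbal_refl_mul_self d x hx, lbal_refl_mul_self d u hu, Matrix.one_mul]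
  rw [h, Matrix.transpose_one]

theorem lbal_J_isom (d x u : Fin n → F) (hx : lbal_bd d x x ≠ 0) (hu : lbal_bd d u u ≠ 0) :
    (lbal_J d x u hx hu : Matrix (Fin n) (Fin n) F) * Matrix.diagonal d *
      (lbal_J d x u hx hu : Matrix (Fin n) (Fin n) F).transpose = Matrix.diagonal d := by
  rw [lbal_J_coe, Matrix.transpose_transpose, Matrix.transpose_mul]
  calc (lbal_refl d u).transpose * (lbal_refl d x).transpose * Matrix.diagonal d *
        (lbal_refl d x * lbal_refl d u)
      = (lbal_refl d u).transpose * ((lbal_refl d x).transpose * Matrix.diagonal d *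
        lbal_refl d x) * lbal_refl d u := by simp only [Matrix.mul_assoc]
    _ = Matrix.diagonal d := by rw [lbal_refl_isom d x hx, lbal_refl_isom d u hu]

theorem lbal_J_apply (d x u : Fin n → F) (hx : lbal_bd d x x ≠ 0) (hu : lbal_bd d u u ≠ 0)
    (hxu : lbal_bd d x u = 0) (a b : Fin n) :
    (lbal_J d x u hx hu : Matrix (Fin n) (Fin n) F) a b =
      (if a = b then 1 else 0) - 2 / lbal_bd d x x * (x b * (d a * x a)) -
        2 / lbal_bd d u u * (u b * (d a * u a)) := by
  rw [lbal_J_coe, Matrix.transpose_apply, lbal_refl_mul_refl d x u hxu]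
  unfold lbal_M lbal_w
  rw [Matrix.sub_apply, Matrix.sub_apply, Matrix.smul_apply, Matrix.smul_apply, vecMulVec_apply,
    vecMulVec_apply, Matrix.one_apply, smul_eq_mul, smul_eq_mul]
  by_cases h : a = b
  · rw [if_pos h, if_pos h.symm]
  · rw [if_neg h, if_neg (Ne.symm h)]

end Cfsg.Agent.LBal
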