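import Mathlib
import Cfsg.Agent.LBal.H4OrthA

set_option autoImplicit false

/-!
Piece P9 of the local balance swarm (S2686), part B: a semilinear map commuting with all
the involutions `ρ_x ρ_u` of a diagonal symmetric form (dimension at least three, odd
characteristic) is a scalar.
-/

namespace Cfsg.Agent.LBal

open Matrix

variable {F : Type*} [Field F] {n : ℕ}

theorem lbal_bd_single_left (d : Fin n → F) (i : Fin n) (a : F) (y : Fin n → F) :
    lbal_bd d (Pi.single i a) y = a * d i * y i := by
  unfold lbal_bd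
  rw [Finset.sum_eq_single i]
  · rw [Pi.single_eq_same]
  · intro b _ hb
    rw [Pi.single_eq_of_ne hb, zero_mul, zero_mul]
  · intro h
    exact absurd (Finset.mem_univ i) h

theorem lbal_bd_add_left (d x x' y : Fin n → F) :
    lbal_bd d (x + x') y = lbal_bd d x y + lbal_bd d x' y := by
  unfold lbal_bd
  rw [← Finset.sum_add_distrib]
  apply Finset.sum_congr rfl
  intro a _
  rw [Pi.add_apply]
  ring

theorem lbal_exists_third (h3 : 3 ≤ n) (a i : Fin n) : ∃ k : Fin n, k ≠ a ∧ k ≠ i := by
  by_contra h
  push_neg at h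
  have hsub : (Finset.univ : Finset (Fin n)) ⊆ {a, i} := by
    intro k _
    by_cases hk : k = a
    · rw [hk]
      exact Finset.mem_insert_self _ _
    · rw [h k hk]
      exact Finset.mem_insert_of_mem (Finset.mem_singleton_self _)
  have h1 := Finset.card_le_card hsub
  have h2 : ({a, i} : Finset (Fin n)).card ≤ 2 := Finset.card_le_two
  rw [Finset.card_univ, Fintype.card_fin] at h1
  omega

/-- the hypothesis of the core lemma: the semilinear map `(G, T)` commutes with the involutive
isometries of determinant one -/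
def lbal_OrthHyp (d : Fin n → F) (G : Matrix (Fin n) (Fin n) F) (T : F ≃+* F) : Prop :=
  ∀ s : Matrix.SpecialLinearGroup (Fin n) F, s * s = 1 →
    (s : Matrix (Fin n) (Fin n) F) * Matrix.diagonal d *
      (s : Matrix (Fin n) (Fin n) F).transpose = Matrix.diagonal d →
    G * (s : Matrix (Fin n) (Fin n) F).map T = (s : Matrix (Fin n) (Fin n) F) * G

theorem lbal_orth_J (d : Fin n → F) (G : Matrix (Fin n) (Fin n) F) (T : F ≃+* F)
    (H : lbal_OrthHyp d G T) (x u : Fin n → F) (hx : lbal_bd d x x ≠ 0)
    (hu : lbal_bd d u u ≠ 0) (hxu : lbal_bd d x u = 0) :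
    G * (lbal_J d x u hx hu : Matrix (Fin n) (Fin n) F).map T =
      (lbal_J d x u hx hu : Matrix (Fin n) (Fin n) F) * G :=
  H _ (lbal_J_mul_self d x u hx hu hxu) (lbal_J_isom d x u hx hu)

/-- step 1: `G` is diagonal -/
theorem lbal_orth_offdiag (h3 : 3 ≤ n) (h2 : (2 : F) ≠ 0) (d : Fin n → F) (hd : ∀ a, d a ≠ 0)
    (G : Matrix (Fin n) (Fin n) F) (T : F ≃+* F) (H : lbal_OrthHyp d G T)
    (a i : Fin n) (hai : a ≠ i) : G a i = 0 := by
  obtain ⟨k, hka, hki⟩ := lbal_exists_third h3 a i
  have hx : lbal_bd d (Pi.single i (1 : F)) (Pi.single i 1) ≠ 0 := by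
    rw [lbal_bd_single_left, Pi.single_eq_same, one_mul, mul_one]
    exact hd i
  have hu : lbal_bd d (Pi.single k (1 : F)) (Pi.single k 1) ≠ 0 := by
    rw [lbal_bd_single_left, Pi.single_eq_same, one_mul, mul_one]
    exact hd k
  have hxu : lbal_bd d (Pi.single i (1 : F)) (Pi.single k 1) = 0 := by
    rw [lbal_bd_single_left, Pi.single_eq_of_ne hki.symm, mul_zero]
  have hxx : lbal_bd d (Pi.single i (1 : F)) (Pi.single i 1) = d i := by
    rw [lbal_bd_single_left, Pi.single_eq_same, one_mul, mul_one]
  have E := lbal_orth_J d G T H _ _ hx hu hxu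
  have hcol : ∀ b, (lbal_J d (Pi.single i (1 : F)) (Pi.single k 1) hx hu :
      Matrix (Fin n) (Fin n) F) b i = if b = i then -1 else 0 := by
    intro b
    rw [lbal_J_apply d _ _ hx hu hxu, hxx, Pi.single_eq_same, Pi.single_eq_of_ne hki.symm]
    by_cases hb : b = i
    · rw [if_pos hb, if_pos hb, hb, Pi.single_eq_same]
      have hdi := hd i
      simp only [zero_mul, mul_zero, sub_zero, one_mul, mul_one]
      field_simp
      ring
    · rw [if_neg hb, if_neg hb, Pi.single_eq_of_ne hb]
      ring
  have hrow : ∀ b, (lbal_J d (Pi.single i (1 : F)) (Pi.single k 1) hx hu :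
      Matrix (Fin n) (Fin n) F) a b = if a = b then 1 else 0 := by
    intro b
    rw [lbal_J_apply d _ _ hx hu hxu, Pi.single_eq_of_ne hai, Pi.single_eq_of_ne hka.symm]
    ring
  have E1 := congrFun (congrFun E a) i
  rw [Matrix.mul_apply, Matrix.mul_apply] at E1
  rw [Finset.sum_eq_single i, Finset.sum_eq_single a] at E1
  · rw [Matrix.map_apply, hcol, hrow, if_pos rfl, if_pos rfl, map_neg, map_one] at E1
    have : (2 : F) * G a i = 0 := by linear_combination -E1
    rcases mul_eq_zero.mp this with h | h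
    · exact absurd h h2
    · exact h
  · intro b _ hb
    rw [hrow, if_neg (Ne.symm hb), zero_mul]
  · intro h
    exact absurd (Finset.mem_univ a) h
  · intro b _ hb
    rw [Matrix.map_apply, hcol, if_neg hb, map_zero, mul_zero]
  · intro h
    exact absurd (Finset.mem_univ i) h

theorem lbal_orth_entry (G S : Matrix (Fin n) (Fin n) F) (hG : ∀ a i, a ≠ i → G a i = 0)
    (T : F ≃+* F) (E : G * S.map T = S * G) (a b : Fin n) :
    G a a * T (S a b) = S a b * G b b := by
  have E1 := congrFun (congrFun E a) b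
  rw [Matrix.mul_apply, Matrix.mul_apply, Finset.sum_eq_single a, Finset.sum_eq_single b] at E1
  · rw [Matrix.map_apply] at E1
    exact E1
  · intro c _ hc
    rw [hG c b hc, mul_zero]
  · intro h
    exact absurd (Finset.mem_univ b) h
  · intro c _ hc
    rw [hG a c (Ne.symm hc), zero_mul]
  · intro h
    exact absurd (Finset.mem_univ a) h

theorem lbal_orth_diag_ne_zero (G : GL (Fin n) F)
    (hG : ∀ a i, a ≠ i → (G : Matrix (Fin n) (Fin n) F) a i = 0) (a : Fin n) :
    (G : Matrix (Fin n) (Fin n) F) a a ≠ 0 := by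
  have h1 : (G : Matrix (Fin n) (Fin n) F) =
      Matrix.diagonal (fun b => (G : Matrix (Fin n) (Fin n) F) b b) := by
    ext b c
    by_cases hbc : b = c
    · rw [hbc, Matrix.diagonal_apply_eq]
    · rw [Matrix.diagonal_apply_ne _ hbc, hG b c hbc]
  have h2 : (G : Matrix (Fin n) (Fin n) F).det ≠ 0 := by
    have := (Matrix.GeneralLinearGroup.det G).ne_zero
    rwa [Matrix.GeneralLinearGroup.val_det_apply] at this
  rw [h1, Matrix.det_diagonal] at h2
  exact Finset.prod_ne_zero_iff.mp h2 a (Finset.mem_univ a)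

theorem lbal_bd_two (d : Fin n → F) (i j : Fin n) (hij : i ≠ j) (c : F) :
    lbal_bd d (Pi.single i (1 : F) + Pi.single j c) (Pi.single i (1 : F) + Pi.single j c) =
      d i + c * d j * c := by
  rw [lbal_bd_add_left, lbal_bd_single_left, lbal_bd_single_left, Pi.add_apply, Pi.add_apply,
    Pi.single_eq_same, Pi.single_eq_same, Pi.single_eq_of_ne hij, Pi.single_eq_of_ne hij.symm]
  ring

/-- step 2: the field automorphism is trivial -/
theorem lbal_orth_T (h3 : 3 ≤ n) (h2 : (2 : F) ≠ 0) (d : Fin n → F) (hd : ∀ a, d a ≠ 0)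
    (G : GL (Fin n) F) (T : F ≃+* F)
    (H : lbal_OrthHyp d (G : Matrix (Fin n) (Fin n) F) T) : T = 1 := by
  have hc3 : 3 ≤ Fintype.card (Fin n) := by rw [Fintype.card_fin]; exact h3
  obtain ⟨i, j, k, hij, hik, hjk⟩ := Fintype.two_lt_card_iff.mp hc3
  have hG := lbal_orth_offdiag h3 h2 d hd (G : Matrix (Fin n) (Fin n) F) T H
  have hGi := lbal_orth_diag_ne_zero G hG i
  obtain ⟨x, hxdef⟩ : ∃ x : Fin n → F, x = Pi.single k 1 := ⟨_, rfl⟩
  have hxi : x i = 0 := by rw [hxdef, Pi.single_eq_of_ne hik]
  have hx : lbal_bd d x x ≠ 0 := by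
    rw [hxdef, lbal_bd_single_left, Pi.single_eq_same, one_mul, mul_one]
    exact hd k
  -- the basic invariance
  have key : ∀ c : F, d i + c * d j * c ≠ 0 →
      T (d i / (d i + c * d j * c)) = d i / (d i + c * d j * c) := by
    intro c hN
    obtain ⟨u, hudef⟩ : ∃ u : Fin n → F, u = Pi.single i 1 + Pi.single j c := ⟨_, rfl⟩
    have hui : u i = 1 := by
      rw [hudef, Pi.add_apply, Pi.single_eq_same, Pi.single_eq_of_ne hij, add_zero]
    have huu : lbal_bd d u u = d i + c * d j * c := by
      rw [hudef]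
      exact lbal_bd_two d i j hij c
    have hu : lbal_bd d u u ≠ 0 := by
      rw [huu]
      exact hN
    have hxu : lbal_bd d x u = 0 := by
      rw [hxdef, hudef, lbal_bd_single_left, Pi.add_apply, Pi.single_eq_of_ne hik.symm,
        Pi.single_eq_of_ne hjk.symm, add_zero, mul_zero]
    have E := lbal_orth_J d _ T H x u hx hu hxu
    have e1 := lbal_orth_entry _ _ hG T E i i
    have hs : (lbal_J d x u hx hu : Matrix (Fin n) (Fin n) F) i i =
        1 - 2 * (d i / (d i + c * d j * c)) := by
      rw [lbal_J_apply d x u hx hu hxu, huu, if_pos rfl, hxi, hui]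
      ring
    rw [hs] at e1
    have e2 : T (1 - 2 * (d i / (d i + c * d j * c))) = 1 - 2 * (d i / (d i + c * d j * c)) := by
      apply mul_left_cancel₀ hGi
      rw [e1, mul_comm]
    rw [map_sub, map_one, map_mul, map_ofNat] at e2
    have e3 : (2 : F) * T (d i / (d i + c * d j * c)) = 2 * (d i / (d i + c * d j * c)) := by
      linear_combination -e2
    exact mul_left_cancel₀ h2 e3
  have hdi := hd i
  have hdj := hd j
  have key2 : ∀ c : F, T (c * c * (d j / d i)) = c * c * (d j / d i) := by
    intro c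
    by_cases hN : d i + c * d j * c = 0
    · have : c * c * (d j / d i) = -1 := by
        field_simp
        linear_combination hN
      rw [this, map_neg, map_one]
    · have h1 := key c hN
      have h3' : T ((d i / (d i + c * d j * c))⁻¹) = (d i / (d i + c * d j * c))⁻¹ := by
        rw [map_inv₀, h1]
      have h4 : (d i / (d i + c * d j * c))⁻¹ = 1 + c * c * (d j / d i) := by
        field_simp
      rw [h4, map_add, map_one] at h3'
      exact add_left_cancel h3'
  have hδ : T (d j / d i) = d j / d i := by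
    have := key2 1
    rwa [one_mul, one_mul] at this
  have hδ0 : d j / d i ≠ 0 := div_ne_zero hdj hdi
  have hsq : ∀ c : F, T c * T c = c * c := by
    intro c
    have := key2 c
    rw [map_mul, map_mul, hδ] at this
    exact mul_right_cancel₀ hδ0 this
  ext c
  change T c = c
  have h5 := hsq (c + 1)
  rw [map_add, map_one] at h5
  have h6 := hsq c
  have h7 : (2 : F) * T c = 2 * c := by linear_combination h5 - h6
  exact mul_left_cancel₀ h2 h7

end Cfsg.Agent.LBal
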