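import Mathlib
import Cfsg.Agent.LBal.H4OrthB

set_option autoImplicit false

/-!
Piece P9 of the local balance swarm (S2686), part C: a linear map commuting with all the
involutions `ρ_x ρ_u` of a diagonal symmetric form is a scalar; the core lemma.
-/

namespace Cfsg.Agent.LBal

open Matrix

variable {F : Type*} [Field F] {n : ℕ}

/-- the linking lemma -/
theorem lbal_orth_link (h2 : (2 : F) ≠ 0) (d : Fin n → F)
    (G : Matrix (Fin n) (Fin n) F) (hG : ∀ a i, a ≠ i → G a i = 0)
    (H : lbal_OrthHyp d G (1 : F ≃+* F)) (x u : Fin n → F) (hx : lbal_bd d x x ≠ 0)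
    (hu : lbal_bd d u u ≠ 0) (hxu : lbal_bd d x u = 0) (i j : Fin n) (hij : i ≠ j)
    (hxij : x j * x i = 0) (hui : u i ≠ 0) (huj : u j ≠ 0) (hdi : d i ≠ 0) :
    G i i = G j j := by
  have E := lbal_orth_J d G 1 H x u hx hu hxu
  have e1 := lbal_orth_entry _ _ hG 1 E i j
  have e2 : G i i * (lbal_J d x u hx hu : Matrix (Fin n) (Fin n) F) i j =
      (lbal_J d x u hx hu : Matrix (Fin n) (Fin n) F) i j * G j j := e1
  have hs : (lbal_J d x u hx hu : Matrix (Fin n) (Fin n) F) i j =
      -(2 / lbal_bd d u u * (u j * (d i * u i))) := by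
    rw [lbal_J_apply d x u hx hu hxu, if_neg hij]
    have : x j * (d i * x i) = 0 := by
      rw [mul_left_comm, hxij, mul_zero]
    rw [this]
    ring
  have hne : (lbal_J d x u hx hu : Matrix (Fin n) (Fin n) F) i j ≠ 0 := by
    rw [hs]
    exact neg_ne_zero.mpr (mul_ne_zero (div_ne_zero h2 hu) (mul_ne_zero huj (mul_ne_zero hdi hui)))
  rw [mul_comm] at e2
  exact mul_left_cancel₀ hne e2

theorem lbal_bd_three (d : Fin n → F) (i j k : Fin n) (y : Fin n → F) :
    lbal_bd d (Pi.single i (1 : F) + Pi.single j 1 + Pi.single k 1) y =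
      d i * y i + d j * y j + d k * y k := by
  rw [lbal_bd_add_left, lbal_bd_add_left, lbal_bd_single_left, lbal_bd_single_left,
    lbal_bd_single_left]
  ring

theorem lbal_bd_pair (d : Fin n → F) (i k : Fin n) (c : F) (y : Fin n → F) :
    lbal_bd d (Pi.single i (1 : F) + Pi.single k c) y = d i * y i + c * d k * y k := by
  rw [lbal_bd_add_left, lbal_bd_single_left, lbal_bd_single_left]
  ring

/-- step 3: the diagonal entries agree -/
theorem lbal_orth_diag_eq (h3 : 3 ≤ n) (h2 : (2 : F) ≠ 0) (d : Fin n → F) (hd : ∀ a, d a ≠ 0)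
    (G : Matrix (Fin n) (Fin n) F) (hG : ∀ a i, a ≠ i → G a i = 0)
    (H : lbal_OrthHyp d G (1 : F ≃+* F)) (i j : Fin n) (hij : i ≠ j) : G i i = G j j := by
  obtain ⟨k, hki, hkj⟩ := lbal_exists_third h3 i j
  have hdi := hd i
  have hdj := hd j
  have hdk := hd k
  by_cases hgood : ∃ c : F, c ≠ 0 ∧ d i + c * d j * c ≠ 0
  · obtain ⟨c, hc0, hN⟩ := hgood
    obtain ⟨x, hxdef⟩ : ∃ x : Fin n → F, x = Pi.single k 1 := ⟨_, rfl⟩
    obtain ⟨u, hudef⟩ : ∃ u : Fin n → F, u = Pi.single i 1 + Pi.single j c := ⟨_, rfl⟩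
    have hxi : x i = 0 := by rw [hxdef, Pi.single_eq_of_ne hki.symm]
    have hui : u i = 1 := by
      rw [hudef, Pi.add_apply, Pi.single_eq_same, Pi.single_eq_of_ne hij, add_zero]
    have huj : u j = c := by
      rw [hudef, Pi.add_apply, Pi.single_eq_same, Pi.single_eq_of_ne hij.symm, zero_add]
    have huk : u k = 0 := by
      rw [hudef, Pi.add_apply, Pi.single_eq_of_ne hki, Pi.single_eq_of_ne hkj, add_zero]
    have hx : lbal_bd d x x ≠ 0 := by
      rw [hxdef, lbal_bd_single_left, Pi.single_eq_same, one_mul, mul_one]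
      exact hdk
    have hu : lbal_bd d u u ≠ 0 := by
      rw [hudef, lbal_bd_two d i j hij]
      exact hN
    have hxu : lbal_bd d x u = 0 := by
      rw [hxdef, lbal_bd_single_left, huk, mul_zero]
    exact lbal_orth_link h2 d G hG H x u hx hu hxu i j hij (by rw [hxi, mul_zero])
      (by rw [hui]; exact one_ne_zero) (by rw [huj]; exact hc0) hdi
  · push_neg at hgood
    have h1 : d i + d j = 0 := by
      have := hgood 1 one_ne_zero
      rwa [one_mul, mul_one] at this
    have hdj' : d j = -d i := by linear_combination h1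
    have h4 : (d k - d i) * (d k + d i) = 0 := by
      have := hgood (d k / d i) (div_ne_zero hdk hdi)
      rw [hdj'] at this
      field_simp at this
      linear_combination -this
    obtain ⟨u, hudef⟩ : ∃ u : Fin n → F, u = Pi.single i 1 + Pi.single j 1 + Pi.single k 1 :=
      ⟨_, rfl⟩
    have hui : u i = 1 := by
      rw [hudef, Pi.add_apply, Pi.add_apply, Pi.single_eq_same, Pi.single_eq_of_ne hij,
        Pi.single_eq_of_ne hki.symm, add_zero, add_zero]
    have huj : u j = 1 := by
      rw [hudef, Pi.add_apply, Pi.add_apply, Pi.single_eq_same, Pi.single_eq_of_ne hij.symm,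
        Pi.single_eq_of_ne hkj.symm, zero_add, add_zero]
    have huk : u k = 1 := by
      rw [hudef, Pi.add_apply, Pi.add_apply, Pi.single_eq_same, Pi.single_eq_of_ne hki,
        Pi.single_eq_of_ne hkj, zero_add, zero_add]
    have huu : lbal_bd d u u = d i + d j + d k := by
      rw [hudef, lbal_bd_three, ← hudef, hui, huj, huk]
      ring
    rcases mul_eq_zero.mp h4 with h5 | h5
    · -- `d k = d i`
      have hdk' : d k = d i := by linear_combination h5
      obtain ⟨x, hxdef⟩ : ∃ x : Fin n → F, x = Pi.single i 1 + Pi.single k (-1) := ⟨_, rfl⟩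
      have hxj : x j = 0 := by
        rw [hxdef, Pi.add_apply, Pi.single_eq_of_ne hij.symm, Pi.single_eq_of_ne hkj.symm,
          add_zero]
      have hx : lbal_bd d x x ≠ 0 := by
        rw [hxdef, lbal_bd_two d i k hki.symm, hdk']
        have : d i + -1 * d i * -1 = 2 * d i := by ring
        rw [this]
        exact mul_ne_zero h2 hdi
      have hu : lbal_bd d u u ≠ 0 := by
        rw [huu, hdj', hdk']
        have : d i + -d i + d i = d i := by ring
        rw [this]
        exact hdi
      have hxu : lbal_bd d x u = 0 := by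
        rw [hxdef, lbal_bd_pair, hui, huk, hdk']
        ring
      exact lbal_orth_link h2 d G hG H x u hx hu hxu i j hij (by rw [hxj, zero_mul])
        (by rw [hui]; exact one_ne_zero) (by rw [huj]; exact one_ne_zero) hdi
    · -- `d k = - d i = d j`
      have hdk' : d k = -d i := by linear_combination h5
      obtain ⟨x, hxdef⟩ : ∃ x : Fin n → F, x = Pi.single j 1 + Pi.single k (-1) := ⟨_, rfl⟩
      have hxi : x i = 0 := by
        rw [hxdef, Pi.add_apply, Pi.single_eq_of_ne hij, Pi.single_eq_of_ne hki.symm, add_zero]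
      have hx : lbal_bd d x x ≠ 0 := by
        rw [hxdef, lbal_bd_two d j k hkj.symm, hdk', hdj']
        have : -d i + -1 * -d i * -1 = -(2 * d i) := by ring
        rw [this]
        exact neg_ne_zero.mpr (mul_ne_zero h2 hdi)
      have hu : lbal_bd d u u ≠ 0 := by
        rw [huu, hdj', hdk']
        have : d i + -d i + -d i = -d i := by ring
        rw [this]
        exact neg_ne_zero.mpr hdi
      have hxu : lbal_bd d x u = 0 := by
        rw [hxdef, lbal_bd_pair, huj, huk, hdk', hdj']
        ring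
      exact lbal_orth_link h2 d G hG H x u hx hu hxu i j hij (by rw [hxi, mul_zero])
        (by rw [hui]; exact one_ne_zero) (by rw [huj]; exact one_ne_zero) hdi

/-- **the core lemma**: a semilinear map commuting with the involutive isometries of
determinant one of a diagonal form is a scalar -/
theorem lbal_orth_core (h3 : 3 ≤ n) (h2 : (2 : F) ≠ 0) (d : Fin n → F) (hd : ∀ a, d a ≠ 0)
    (G : GL (Fin n) F) (T : F ≃+* F)
    (H : lbal_OrthHyp d (G : Matrix (Fin n) (Fin n) F) T) :
    T = 1 ∧ G ∈ Subgroup.center (GL (Fin n) F) := by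
  have hT := lbal_orth_T h3 h2 d hd G T H
  subst hT
  refine ⟨rfl, ?_⟩
  have hG := lbal_orth_offdiag h3 h2 d hd (G : Matrix (Fin n) (Fin n) F) 1 H
  have heq := lbal_orth_diag_eq h3 h2 d hd (G : Matrix (Fin n) (Fin n) F) hG H
  rw [Matrix.GeneralLinearGroup.mem_center_iff_val_mem_range_scalar]
  have h0 : 0 < n := by omega
  refine ⟨(G : Matrix (Fin n) (Fin n) F) ⟨0, h0⟩ ⟨0, h0⟩, ?_⟩
  ext a b
  rw [Matrix.scalar_apply]
  by_cases hab : a = b
  · rw [hab, Matrix.diagonal_apply_eq]
    by_cases hb : b = ⟨0, h0⟩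
    · rw [hb]
    · exact (heq b ⟨0, h0⟩ hb).symm
  · rw [Matrix.diagonal_apply_ne _ hab, hG a b hab]

end Cfsg.Agent.LBal
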