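import Mathlib

set_option autoImplicit false

/-!
Piece P9 of the local balance swarm (S2686), part D: congruence diagonalisation of an invertible
symmetric matrix in odd characteristic.
-/

namespace Cfsg.Agent.LBal

open Matrix

variable {F : Type*} [Field F] {n : ℕ}

theorem lbal_exists_diag (h2 : (2 : F) ≠ 0) (A : GL (Fin n) F)
    (hA : (A : Matrix (Fin n) (Fin n) F).transpose = (A : Matrix (Fin n) (Fin n) F)) :
    ∃ (P : GL (Fin n) F) (d : Fin n → F), (∀ a, d a ≠ 0) ∧
      (P : Matrix (Fin n) (Fin n) F) * (A : Matrix (Fin n) (Fin n) F) *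
        (P : Matrix (Fin n) (Fin n) F).transpose = Matrix.diagonal d := by
  have : Invertible (2 : F) := invertibleOfNonzero h2
  have hsymm : (Matrix.toBilin' (A : Matrix (Fin n) (Fin n) F)).IsSymm :=
    Matrix.isSymm_toBilin'_iff_isSymm.mpr hA
  obtain ⟨v, hv⟩ := LinearMap.BilinForm.exists_orthogonal_basis
    (LinearMap.BilinForm.isSymm_iff.mp hsymm)
  have hfr : Module.finrank F (Fin n → F) = n := Module.finrank_fin_fun F
  obtain ⟨v', hv'⟩ : ∃ v' : Module.Basis (Fin n) F (Fin n → F),
      ∀ i j, i ≠ j → Matrix.toBilin' (A : Matrix (Fin n) (Fin n) F) (v' i) (v' j) = 0 := by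
    refine ⟨v.reindex (finCongr hfr), ?_⟩
    intro i j hij
    rw [Module.Basis.reindex_apply, Module.Basis.reindex_apply]
    apply hv
    intro h
    exact hij ((finCongr hfr).symm.injective h)
  obtain ⟨Pm, hPm⟩ : ∃ Pm : Matrix (Fin n) (Fin n) F, ∀ i a, Pm i a = v' i a :=
    ⟨fun i a => v' i a, fun _ _ => rfl⟩
  have hPT : Pm.transpose = (Pi.basisFun F (Fin n)).toMatrix v' := by
    ext a i
    rw [Matrix.transpose_apply, hPm, Module.Basis.toMatrix_apply, Pi.basisFun_repr]
  have hdet : Pm.det ≠ 0 := by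
    rw [← Matrix.det_transpose, hPT]
    exact ((Pi.basisFun F (Fin n)).isUnit_det v').ne_zero
  have hent : ∀ i j, (Pm * (A : Matrix (Fin n) (Fin n) F) * Pm.transpose) i j =
      Matrix.toBilin' (A : Matrix (Fin n) (Fin n) F) (v' i) (v' j) := by
    intro i j
    rw [Matrix.toBilin'_apply, Matrix.mul_apply]
    simp only [Matrix.mul_apply, Matrix.transpose_apply, hPm, Finset.sum_mul]
    rw [Finset.sum_comm]
  refine ⟨Matrix.GeneralLinearGroup.mkOfDetNeZero Pm hdet,
    fun a => Matrix.toBilin' (A : Matrix (Fin n) (Fin n) F) (v' a) (v' a), ?_, ?_⟩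
  · have hD : Pm * (A : Matrix (Fin n) (Fin n) F) * Pm.transpose =
        Matrix.diagonal (fun a => Matrix.toBilin' (A : Matrix (Fin n) (Fin n) F) (v' a) (v' a)) := by
      ext i j
      rw [hent]
      by_cases hij : i = j
      · rw [hij, Matrix.diagonal_apply_eq]
      · rw [Matrix.diagonal_apply_ne _ hij, hv' i j hij]
    have hdetA : (A : Matrix (Fin n) (Fin n) F).det ≠ 0 := by
      have := (Matrix.GeneralLinearGroup.det A).ne_zero
      rwa [Matrix.GeneralLinearGroup.val_det_apply] at this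
    have h3 : (Pm * (A : Matrix (Fin n) (Fin n) F) * Pm.transpose).det ≠ 0 := by
      rw [Matrix.det_mul, Matrix.det_mul, Matrix.det_transpose]
      exact mul_ne_zero (mul_ne_zero hdet hdetA) hdet
    rw [hD, Matrix.det_diagonal] at h3
    intro a
    exact Finset.prod_ne_zero_iff.mp h3 a (Finset.mem_univ a)
  · ext i j
    have : ((Matrix.GeneralLinearGroup.mkOfDetNeZero Pm hdet : GL (Fin n) F) :
        Matrix (Fin n) (Fin n) F) = Pm := rfl
    rw [this, hent]
    by_cases hij : i = j
    · rw [hij, Matrix.diagonal_apply_eq]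
    · rw [Matrix.diagonal_apply_ne _ hij, hv' i j hij]

end Cfsg.Agent.LBal
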