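import Mathlib
import Cfsg.Agent.Helper8.AutSLnL
import Cfsg.Agent.Helper8.AutSLnN

set_option autoImplicit false

/-!
Shared lemma of the local balance swarm (S2686): an automorphism of `PSL_n(F)` of odd order is
induced by a semilinear map (no graph part).
-/

namespace Cfsg.Agent.LBal

open Matrix Cfsg Cfsg.Agent.Helper8.AutSLn

variable {F : Type*} [Field F] {n : ℕ}

/-- the inverse transpose normalises the semilinear automorphisms -/
theorem lbal_invTr_conj_mem_stdSub {m : Type*} [Fintype m] [DecidableEq m]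
    {β : MulAut (ProjectiveSpecialLinearGroup m F)} (hβ : β ∈ stdSub m F) :
    pslInvTr * β * pslInvTr ∈ stdSub m F := by
  obtain ⟨g, σ, rfl⟩ := hβ
  refine ⟨glInvTr g, σ, ?_⟩
  rw [← mul_assoc, pslInvTr_mul_pslConj, mul_assoc (pslConj (glInvTr g)), pslInvTr_mul_pslField,
    mul_assoc, mul_assoc, pslInvTr_mul_self, mul_one]

/-- an automorphism of odd order has no graph part -/
theorem lbal_std_of_odd [Fintype F] (r : ℕ) [Fact r.Prime] [CharP F r] (hn : 2 ≤ n)
    (α : MulAut (ProjectiveSpecialLinearGroup (Fin n) F)) (hodd : (orderOf α).Coprime 2) :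
    ∃ (g : GL (Fin n) F) (τ : F ≃+* F), α = pslConj g * pslField τ := by
  obtain ⟨g, τ, h | h⟩ := aut_PSL_standard_fin r hn α
  · exact ⟨g, τ, h⟩
  · have hβ : (pslConj g * pslField τ : MulAut (ProjectiveSpecialLinearGroup (Fin n) F)) ∈
        stdSub (Fin n) F := ⟨g, τ, rfl⟩
    have hsq : α * α ∈ stdSub (Fin n) F := by
      have e : α * α = (pslConj g * pslField τ) *
          (pslInvTr * (pslConj g * pslField τ) * pslInvTr) := by
        rw [h]
        simp only [mul_assoc]
      rw [e]
      exact (stdSub (Fin n) F).mul_mem hβ (lbal_invTr_conj_mem_stdSub hβ)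
    have hodd' : ¬ 2 ∣ orderOf α := by
      intro h2
      have := Nat.Coprime.eq_one_of_dvd hodd.symm h2
      omega
    obtain ⟨k, hk⟩ : ∃ k, orderOf α = 2 * k + 1 := ⟨orderOf α / 2, by omega⟩
    have hα : α = (α * α) ^ (k + 1) := by
      rw [← pow_two, ← pow_mul]
      have : 2 * (k + 1) = orderOf α + 1 := by omega
      rw [this, pow_succ, pow_orderOf_eq_one, one_mul]
    have hmem : α ∈ stdSub (Fin n) F := by
      rw [hα]
      exact (stdSub (Fin n) F).pow_mem hsq _
    obtain ⟨g', τ', h'⟩ := hmem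
    exact ⟨g', τ', h'⟩

end Cfsg.Agent.LBal
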