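import Mathlib
import Cfsg.Agent.LBal.OddStd
import Cfsg.Agent.LBal.H4OrthC
import Cfsg.Agent.LBal.H4OrthD
import Cfsg.Agent.Helper8.GrAutE

set_option autoImplicit false

/-!
Piece P9 of the local balance swarm (S2686): an automorphism of `PSL_n(F)` (`n ≥ 3`, odd
characteristic) of odd order fixing every fixed point of a graph automorphism of orthogonal
type is trivial.
-/

namespace Cfsg.Agent.LBal

open Matrix Cfsg Cfsg.Agent.Helper8.AutSLn Cfsg.Agent.Helper8.GrAut

variable {F : Type*} [Field F] {n : ℕ}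

/-- the classes of the isometries are fixed by the graph automorphism -/
theorem lbal_graphAut_fix (D : GL (Fin n) F) (s : Matrix.SpecialLinearGroup (Fin n) F)
    (hs : (s : Matrix (Fin n) (Fin n) F) * (D : Matrix (Fin n) (Fin n) F) *
      (s : Matrix (Fin n) (Fin n) F).transpose = (D : Matrix (Fin n) (Fin n) F)) :
    (graphAut D : MulAut (ProjectiveSpecialLinearGroup (Fin n) F)) (QuotientGroup.mk s) =
      QuotientGroup.mk s := by
  unfold graphAut
  rw [MulAut.mul_apply, pslInvTr_mk, pslConj_mk]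
  congr 1
  apply Subtype.ext
  rw [slConj_coe, slInvTr_coe]
  have h2 : (s : Matrix (Fin n) (Fin n) F).transpose *
      ((s⁻¹ : Matrix.SpecialLinearGroup (Fin n) F) : Matrix (Fin n) (Fin n) F).transpose = 1 := by
    rw [← Matrix.transpose_mul, ← Matrix.SpecialLinearGroup.coe_mul, inv_mul_cancel,
      Matrix.SpecialLinearGroup.coe_one, Matrix.transpose_one]
  have h3 : (D : Matrix (Fin n) (Fin n) F) *
      ((s⁻¹ : Matrix.SpecialLinearGroup (Fin n) F) : Matrix (Fin n) (Fin n) F).transpose =
      (s : Matrix (Fin n) (Fin n) F) * (D : Matrix (Fin n) (Fin n) F) := by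
    conv_lhs => rw [← hs]
    rw [Matrix.mul_assoc, h2, Matrix.mul_one]
  rw [h3, Matrix.mul_assoc, GL_coe_mul_inv, Matrix.mul_one]

theorem lbal_pow_fix {G : Type*} [Group G] (α : MulAut G) (x : G) (h : α x = x) (k : ℕ) :
    (α ^ k) x = x := by
  induction k with
  | zero => rw [pow_zero, MulAut.one_apply]
  | succ k ih => rw [pow_succ, MulAut.mul_apply, h, ih]

/-- the lifting step: after replacing `α` by a square root, the semilinear lift fixes the
involutive isometries exactly -/
theorem lbal_orth_lift [Fintype F] (r : ℕ) [Fact r.Prime] [CharP F r] (hn : 2 ≤ n)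
    (D : GL (Fin n) F) (α : MulAut (ProjectiveSpecialLinearGroup (Fin n) F))
    (hcop : (orderOf α).Coprime 2)
    (hfix : ∀ k : ProjectiveSpecialLinearGroup (Fin n) F,
      (graphAut D : MulAut (ProjectiveSpecialLinearGroup (Fin n) F)) k = k → α k = k) :
    ∃ (G : GL (Fin n) F) (T : F ≃+* F), α = pslConj G * pslField T ∧
      ∀ s : Matrix.SpecialLinearGroup (Fin n) F, s * s = 1 →
        (s : Matrix (Fin n) (Fin n) F) * (D : Matrix (Fin n) (Fin n) F) *
          (s : Matrix (Fin n) (Fin n) F).transpose = (D : Matrix (Fin n) (Fin n) F) →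
        (G : Matrix (Fin n) (Fin n) F) * (s : Matrix (Fin n) (Fin n) F).map T =
          (s : Matrix (Fin n) (Fin n) F) * (G : Matrix (Fin n) (Fin n) F) := by
  have hodd : ¬ 2 ∣ orderOf α := by
    intro h2
    have := Nat.Coprime.eq_one_of_dvd hcop.symm h2
    omega
  obtain ⟨kk, hkk⟩ : ∃ kk, orderOf α + 1 = 2 * kk := ⟨(orderOf α + 1) / 2, by omega⟩
  obtain ⟨β, hβdef⟩ : ∃ β : MulAut (ProjectiveSpecialLinearGroup (Fin n) F), β = α ^ kk :=
    ⟨_, rfl⟩
  have hββ : β * β = α := by
    rw [hβdef, ← pow_add, ← two_mul, ← hkk, pow_succ, pow_orderOf_eq_one, one_mul]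
  have hβfix : ∀ k : ProjectiveSpecialLinearGroup (Fin n) F,
      (graphAut D : MulAut (ProjectiveSpecialLinearGroup (Fin n) F)) k = k → β k = k := by
    intro k hk
    rw [hβdef]
    exact lbal_pow_fix α k (hfix k hk) kk
  have hβcop : (orderOf β).Coprime 2 := by
    rw [hβdef]
    exact Nat.Coprime.coprime_dvd_left (orderOf_pow_dvd kk) hcop
  obtain ⟨g', τ', hβ⟩ := lbal_std_of_odd r hn β hβcop
  obtain ⟨b, hbdef⟩ : ∃ b : MulAut (Matrix.SpecialLinearGroup (Fin n) F),
      b = slConj g' * slField τ' := ⟨_, rfl⟩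
  have hbb : b * b = slConj (g' * Matrix.GeneralLinearGroup.map (τ' : F →+* F) g') *
      slField (τ' * τ') := by
    rw [hbdef, map_mul, map_mul]
    calc slConj g' * slField τ' * (slConj g' * slField τ')
        = slConj g' * (slField τ' * slConj g') * slField τ' := by simp only [mul_assoc]
      _ = slConj g' * (slConj (Matrix.GeneralLinearGroup.map (τ' : F →+* F) g') * slField τ') *
          slField τ' := by rw [slField_mul_slConj]
      _ = _ := by simp only [mul_assoc]
  have hβmk : ∀ s : Matrix.SpecialLinearGroup (Fin n) F,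
      β (QuotientGroup.mk s) = QuotientGroup.mk (b s) := by
    intro s
    rw [hβ, hbdef, MulAut.mul_apply, pslField_mk, pslConj_mk, MulAut.mul_apply]
  refine ⟨g' * Matrix.GeneralLinearGroup.map (τ' : F →+* F) g', τ' * τ', ?_, ?_⟩
  · rw [← hββ]
    ext x
    induction x using QuotientGroup.induction_on with
    | H s =>
      rw [MulAut.mul_apply, hβmk, hβmk, MulAut.mul_apply, pslField_mk, pslConj_mk]
      have hb2 : b (b s) = (b * b) s := rfl
      rw [hb2, hbb, MulAut.mul_apply]
  · intro s hss hsD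
    have h1 : β (QuotientGroup.mk s) = QuotientGroup.mk s := hβfix _ (lbal_graphAut_fix D s hsD)
    rw [hβmk] at h1
    have hz : s⁻¹ * b s ∈ Subgroup.center (Matrix.SpecialLinearGroup (Fin n) F) :=
      QuotientGroup.eq.mp h1.symm
    obtain ⟨z, hzdef⟩ : ∃ z, z = s⁻¹ * b s := ⟨_, rfl⟩
    rw [← hzdef] at hz
    have hbs : b s = s * z := by rw [hzdef, mul_inv_cancel_left]
    have hzc : ∀ t : Matrix.SpecialLinearGroup (Fin n) F, t * z = z * t :=
      fun t => (Subgroup.mem_center_iff.mp hz t)
    have hzz : z * z = 1 := by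
      have e1 : b s * b s = 1 := by rw [← map_mul, hss, map_one]
      rw [hbs] at e1
      calc z * z = (s * s) * (z * z) := by rw [hss, one_mul]
        _ = s * z * (s * z) := by
          rw [mul_assoc s z (s * z), ← mul_assoc z s z, ← hzc s]
          simp only [mul_assoc]
        _ = 1 := e1
    obtain ⟨ρ, -, hρ⟩ := Matrix.SpecialLinearGroup.mem_center_iff.mp hz
    have h0 : 0 < n := by omega
    have hρρ : ρ * ρ = 1 := by
      have e2 := congrArg (fun t : Matrix.SpecialLinearGroup (Fin n) F =>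
        (t : Matrix (Fin n) (Fin n) F) ⟨0, h0⟩ ⟨0, h0⟩) hzz
      simp only [Matrix.SpecialLinearGroup.coe_mul, Matrix.SpecialLinearGroup.coe_one] at e2
      rw [← hρ, Matrix.scalar_apply, Matrix.diagonal_mul_diagonal, Matrix.diagonal_apply_eq,
        Matrix.one_apply_eq] at e2
      exact e2
    have hτρ : τ' ρ = ρ := by
      have h5 : (ρ - 1) * (ρ + 1) = 0 := by linear_combination hρρ
      rcases mul_eq_zero.mp h5 with h6 | h6
      · have : ρ = 1 := by linear_combination h6
        rw [this, map_one]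
      · have : ρ = -1 := by linear_combination h6
        rw [this, map_neg, map_one]
    have hbz : b z = z := by
      apply Subtype.ext
      rw [hbdef, MulAut.mul_apply, slConj_coe, slField_coe, ← hρ, Matrix.scalar_apply]
      have e3 : (Matrix.diagonal fun _ : Fin n => ρ).map τ' = Matrix.diagonal fun _ : Fin n => ρ := by
        ext i j
        rw [Matrix.map_apply]
        by_cases hij : i = j
        · rw [hij, Matrix.diagonal_apply_eq, hτρ]
        · rw [Matrix.diagonal_apply_ne _ hij, map_zero]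
      rw [e3, ← Matrix.smul_one_eq_diagonal, Matrix.mul_smul, Matrix.mul_one, Matrix.smul_mul,
        GL_coe_mul_inv]
    have hbbs : (b * b) s = s := by
      rw [MulAut.mul_apply, hbs, map_mul, hbs, hbz, mul_assoc, hzz, mul_one]
    rw [hbb] at hbbs
    have e4 := congrArg (fun t : Matrix.SpecialLinearGroup (Fin n) F =>
      (t : Matrix (Fin n) (Fin n) F)) hbbs
    simp only [MulAut.mul_apply, slConj_coe, slField_coe] at e4
    obtain ⟨Gm, hGm⟩ : ∃ Gm : GL (Fin n) F,
        Gm = g' * Matrix.GeneralLinearGroup.map (τ' : F →+* F) g' := ⟨_, rfl⟩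
    rw [← hGm] at e4 ⊢
    calc (Gm : Matrix (Fin n) (Fin n) F) * (s : Matrix (Fin n) (Fin n) F).map (τ' * τ')
        = (Gm : Matrix (Fin n) (Fin n) F) * (s : Matrix (Fin n) (Fin n) F).map (τ' * τ') *
          (((Gm⁻¹ : GL (Fin n) F) : Matrix (Fin n) (Fin n) F) *
            (Gm : Matrix (Fin n) (Fin n) F)) := by rw [GL_coe_inv_mul, Matrix.mul_one]
      _ = (Gm : Matrix (Fin n) (Fin n) F) * (s : Matrix (Fin n) (Fin n) F).map (τ' * τ') *
          ((Gm⁻¹ : GL (Fin n) F) : Matrix (Fin n) (Fin n) F) *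
            (Gm : Matrix (Fin n) (Fin n) F) := by simp only [Matrix.mul_assoc]
      _ = (s : Matrix (Fin n) (Fin n) F) * (Gm : Matrix (Fin n) (Fin n) F) := by rw [e4]

/-- **P9**: an automorphism of odd order fixing the fixed points of a graph automorphism of
orthogonal type is trivial. -/
theorem lbal_h4_orth [Fintype F] (r : ℕ) [Fact r.Prime] [CharP F r] (hr2 : r ≠ 2) {n : ℕ}
    (h3 : 3 ≤ n) (A : GL (Fin n) F)
    (hA : (A : Matrix (Fin n) (Fin n) F).transpose = (A : Matrix (Fin n) (Fin n) F))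
    (α : MulAut (ProjectiveSpecialLinearGroup (Fin n) F)) (hcop : (orderOf α).Coprime 2)
    (hfix : ∀ k : ProjectiveSpecialLinearGroup (Fin n) F,
      (graphAut A : MulAut (ProjectiveSpecialLinearGroup (Fin n) F)) k = k → α k = k) :
    α = 1 := by
  have h2 : (2 : F) ≠ 0 := by
    intro h
    have h' : ((2 : ℕ) : F) = 0 := by exact_mod_cast h
    rw [CharP.cast_eq_zero_iff F r 2] at h'
    exact hr2 ((Nat.prime_dvd_prime_iff_eq (Fact.out : r.Prime) Nat.prime_two).mp h')
  have : Nontrivial (Fin n) := Fin.nontrivial_iff_two_le.mpr (by omega)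
  obtain ⟨P, d, hd, hPAP⟩ := lbal_exists_diag h2 A hA
  obtain ⟨D, hDdef⟩ : ∃ D : GL (Fin n) F, D = P * A * (glInvTr P)⁻¹ := ⟨_, rfl⟩
  have hDcoe : (D : Matrix (Fin n) (Fin n) F) = Matrix.diagonal d := by
    rw [hDdef, Units.val_mul, Units.val_mul, glInvTr_inv_coe, hPAP]
  have hconj : pslConj P * graphAut A * (pslConj P)⁻¹ =
      (graphAut D : MulAut (ProjectiveSpecialLinearGroup (Fin n) F)) := by
    rw [hDdef]
    exact pslConj_graphAut_conj P A
  obtain ⟨α', hα'def⟩ : ∃ α' : MulAut (ProjectiveSpecialLinearGroup (Fin n) F),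
      α' = pslConj P * α * (pslConj P)⁻¹ := ⟨_, rfl⟩
  have hcop' : (orderOf α').Coprime 2 := by
    have hdvd : orderOf α' ∣ orderOf α := by
      apply orderOf_dvd_of_pow_eq_one
      rw [hα'def, conj_pow, pow_orderOf_eq_one, mul_one, mul_inv_cancel]
    exact Nat.Coprime.coprime_dvd_left hdvd hcop
  have hfix' : ∀ k : ProjectiveSpecialLinearGroup (Fin n) F,
      (graphAut D : MulAut (ProjectiveSpecialLinearGroup (Fin n) F)) k = k → α' k = k := by
    intro k hk
    have h4 : (graphAut A : MulAut (ProjectiveSpecialLinearGroup (Fin n) F))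
        ((pslConj P)⁻¹ k) = (pslConj P)⁻¹ k := by
      have h5 : (graphAut A : MulAut (ProjectiveSpecialLinearGroup (Fin n) F)) =
          (pslConj P)⁻¹ * graphAut D * pslConj P := by
        rw [← hconj]
        group
      rw [h5, MulAut.mul_apply, MulAut.mul_apply, MulAut.apply_inv_self, hk]
    have h6 := hfix _ h4
    rw [hα'def, MulAut.mul_apply, MulAut.mul_apply, h6, MulAut.apply_inv_self]
  obtain ⟨G, T, hα', H⟩ := lbal_orth_lift r (by omega) D α' hcop' hfix'
  have H' : lbal_OrthHyp d (G : Matrix (Fin n) (Fin n) F) T := by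
    intro s hss hsd
    apply H s hss
    rw [hDcoe]
    exact hsd
  obtain ⟨hT, hG⟩ := lbal_orth_core h3 h2 d hd G T H'
  have hα'1 : α' = 1 := by
    rw [hα', hT, pslField_one, mul_one]
    have : G ∈ (pslConj : GL (Fin n) F →* MulAut (ProjectiveSpecialLinearGroup (Fin n) F)).ker := by
      rw [ker_pslConj]
      exact hG
    exact this
  have : α = (pslConj P)⁻¹ * α' * pslConj P := by
    rw [hα'def]
    group
  rw [this, hα'1]
  group

end Cfsg.Agent.LBal
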