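import Mathlib
import Cfsg.Agent.Helper8.GrAutE
import Cfsg.Agent.Helper8.AutSLnO

set_option autoImplicit false

/-!
LBal piece P8: an automorphism of odd order of `PSL_n(F)` (`n ≥ 3`, `F` finite of odd
characteristic) that fixes every fixed point of a graph automorphism of symplectic type
`x ↦ A x⁻ᵀ A⁻¹`, `Aᵀ = -A`, is trivial.
-/

namespace Cfsg.Agent.LBal

open Matrix Cfsg Cfsg.Agent.Helper8.AutSLn Cfsg.Agent.Helper8.GrAut Cfsg.Agent.Helper8.SLRoot

variable {F : Type*} [Field F]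

/-- an automorphism of odd order is induced by a semilinear map -/
theorem lbal_mem_stdSub_of_odd [Fintype F] (r : ℕ) [Fact r.Prime] [CharP F r] {n : ℕ} (h3 : 3 ≤ n)
    (α : MulAut (ProjectiveSpecialLinearGroup (Fin n) F)) (hcop : (orderOf α).Coprime 2) :
    α ∈ stdSub (Fin n) F := by
  have hidx := stdSub_index (F := F) r h3
  have hsq : α ^ 2 ∈ stdSub (Fin n) F := Subgroup.sq_mem_of_index_two hidx α
  obtain ⟨j, hj⟩ := Nat.Coprime.odd_of_right hcop
  have e : α = (α ^ 2) ^ (j + 1) := by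
    rw [← pow_mul, show 2 * (j + 1) = orderOf α + 1 by omega, pow_succ, pow_orderOf_eq_one,
      one_mul]
  rw [e]
  exact Subgroup.pow_mem _ hsq _

section alt

variable {k : ℕ}

theorem lbal_inv_transpose_neg (A : GL (Fin (k + 3)) F)
    (hA : (A : Matrix (Fin (k + 3)) (Fin (k + 3)) F).transpose =
      -(A : Matrix (Fin (k + 3)) (Fin (k + 3)) F)) :
    ((A⁻¹ : GL (Fin (k + 3)) F) : Matrix (Fin (k + 3)) (Fin (k + 3)) F).transpose =
      -((A⁻¹ : GL (Fin (k + 3)) F) : Matrix (Fin (k + 3)) (Fin (k + 3)) F) := by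
  have h1 : ((A⁻¹ : GL (Fin (k + 3)) F) : Matrix (Fin (k + 3)) (Fin (k + 3)) F) *
      (A : Matrix (Fin (k + 3)) (Fin (k + 3)) F) = 1 := GL_coe_inv_mul A
  have h2 := congrArg Matrix.transpose h1
  rw [Matrix.transpose_mul, hA, Matrix.transpose_one, Matrix.neg_mul, ← Matrix.mul_neg] at h2
  -- `A * (-Bᵀ) = 1`
  have h3 := congrArg (fun M => ((A⁻¹ : GL (Fin (k + 3)) F) :
    Matrix (Fin (k + 3)) (Fin (k + 3)) F) * M) h2
  simp only [← Matrix.mul_assoc, h1, Matrix.one_mul, Matrix.mul_one] at h3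
  exact (neg_eq_iff_eq_neg.mp h3)

theorem lbal_alt_dot_swap (B : Matrix (Fin (k + 3)) (Fin (k + 3)) F) (hB : B.transpose = -B)
    (u v : Fin (k + 3) → F) : (B *ᵥ u) ⬝ᵥ v = -(u ⬝ᵥ (B *ᵥ v)) := by
  rw [← Matrix.vecMul_transpose, ← Matrix.dotProduct_mulVec, hB, Matrix.neg_mulVec,
    dotProduct_neg]

theorem lbal_alt_dot (h2 : (2 : F) ≠ 0) (B : Matrix (Fin (k + 3)) (Fin (k + 3)) F)
    (hB : B.transpose = -B) (u : Fin (k + 3) → F) : (B *ᵥ u) ⬝ᵥ u = 0 := by
  have h := lbal_alt_dot_swap B hB u u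
  rw [dotProduct_comm u] at h
  have h' : (2 : F) * ((B *ᵥ u) ⬝ᵥ u) = 0 := by
    rw [two_mul]
    nth_rewrite 2 [h]
    exact add_neg_cancel _
  rcases mul_eq_zero.mp h' with h'' | h''
  · exact absurd h'' h2
  · exact h''

/-- the symplectic transvections are fixed by the graph automorphism -/
theorem lbal_symp_fixed (h2 : (2 : F) ≠ 0) (A : GL (Fin (k + 3)) F)
    (hA : (A : Matrix (Fin (k + 3)) (Fin (k + 3)) F).transpose =
      -(A : Matrix (Fin (k + 3)) (Fin (k + 3)) F)) (u : Fin (k + 3) → F) :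
    (graphAut A : MulAut (ProjectiveSpecialLinearGroup (Fin (k + 3)) F))
      (QuotientGroup.mk (TVc u (((A⁻¹ : GL (Fin (k + 3)) F) :
        Matrix (Fin (k + 3)) (Fin (k + 3)) F) *ᵥ u)
        (lbal_alt_dot h2 _ (lbal_inv_transpose_neg A hA) u) 1)) =
      QuotientGroup.mk (TVc u (((A⁻¹ : GL (Fin (k + 3)) F) :
        Matrix (Fin (k + 3)) (Fin (k + 3)) F) *ᵥ u)
        (lbal_alt_dot h2 _ (lbal_inv_transpose_neg A hA) u) 1) := by
  set B := ((A⁻¹ : GL (Fin (k + 3)) F) : Matrix (Fin (k + 3)) (Fin (k + 3)) F) with hBdef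
  have hB : B.transpose = -B := lbal_inv_transpose_neg A hA
  unfold graphAut
  rw [MulAut.mul_apply, pslInvTr_mk, pslConj_mk]
  congr 1
  rw [slInvTr_TVc]
  apply sl_ext
  intro v
  rw [slConj_coe, ← Matrix.mulVec_mulVec, ← Matrix.mulVec_mulVec, TVc_mulVec, TVc_mulVec,
    Matrix.mulVec_add, Matrix.mulVec_smul, Matrix.mulVec_mulVec, Matrix.mulVec_mulVec,
    GL_coe_mul_inv, Matrix.one_mulVec, Matrix.one_mulVec, lbal_alt_dot_swap B hB u v]
  congr 1
  rw [one_mul, neg_one_mul]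

end alt

section main

variable {k : ℕ}

theorem lbal_map_dot (τ : F ≃+* F) (x φ : Fin (k + 3) → F) :
    (fun i => τ (φ i)) ⬝ᵥ (fun i => τ (x i)) = τ (φ ⬝ᵥ x) := by
  simp only [dotProduct, map_sum, map_mul]

/-- a field automorphism applied to a transvection -/
theorem lbal_slField_TVc (τ : F ≃+* F) (x φ : Fin (k + 3) → F) (h : φ ⬝ᵥ x = 0) (c : F) :
    slField τ (TVc x φ h c) = TVc (fun i => τ (x i)) (fun i => τ (φ i))
      (by rw [lbal_map_dot, h, map_zero]) (τ c) := by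
  apply Subtype.ext
  ext a b
  rw [slField_coe, Matrix.map_apply, TVc_apply, TVc_apply, map_add, map_mul, map_mul]
  congr 1
  rw [Matrix.one_apply]
  split_ifs
  · exact map_one τ
  · exact map_zero τ

/-- a semilinear automorphism fixing the class of a transvection fixes its centre -/
theorem lbal_line_of_fix (g : GL (Fin (k + 3)) F) (τ : F ≃+* F) (x φ : Fin (k + 3) → F)
    (h : φ ⬝ᵥ x = 0) (hx : x ≠ 0) (hφ : φ ≠ 0)
    (hfix : (pslConj g * pslField τ : MulAut (ProjectiveSpecialLinearGroup (Fin (k + 3)) F))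
      (QuotientGroup.mk (TVc x φ h 1)) = QuotientGroup.mk (TVc x φ h 1)) :
    ∃ c : F, (g : Matrix (Fin (k + 3)) (Fin (k + 3)) F) *ᵥ (fun i => τ (x i)) = c • x := by
  have h' : (fun i => τ (φ i)) ⬝ᵥ (fun i => τ (x i)) = 0 := by rw [lbal_map_dot, h, map_zero]
  have e1 : (QuotientGroup.mk (TVc x φ h 1) : ProjectiveSpecialLinearGroup (Fin (k + 3)) F) =
      QuotientGroup.mk (slConj g (slField τ (TVc x φ h 1))) := by
    rw [← pslConj_mk, ← pslField_mk, ← MulAut.mul_apply]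
    exact hfix.symm
  have hav : ((TVc x φ h 1 : SpecialLinearGroup (Fin (k + 3)) F) :
      Matrix (Fin (k + 3)) (Fin (k + 3)) F) *ᵥ x = x := by
    rw [TVc_mulVec, h, mul_zero, zero_smul, add_zero]
  have hb : (((slConj g (slField τ (TVc x φ h 1)) : SpecialLinearGroup (Fin (k + 3)) F) :
      Matrix (Fin (k + 3)) (Fin (k + 3)) F) - 1) *
      (((slConj g (slField τ (TVc x φ h 1)) : SpecialLinearGroup (Fin (k + 3)) F) :
      Matrix (Fin (k + 3)) (Fin (k + 3)) F) - 1) = 0 := by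
    rw [lbal_slField_TVc, slConj_coe]
    have hT := TVc_sub_one_sq (fun i => τ (x i)) (fun i => τ (φ i)) h' (τ 1)
    set T := ((TVc (fun i => τ (x i)) (fun i => τ (φ i)) h' (τ 1) :
      SpecialLinearGroup (Fin (k + 3)) F) : Matrix (Fin (k + 3)) (Fin (k + 3)) F) with hTdef
    have e : (g : Matrix (Fin (k + 3)) (Fin (k + 3)) F) * T *
        ((g⁻¹ : GL (Fin (k + 3)) F) : Matrix (Fin (k + 3)) (Fin (k + 3)) F) - 1 =
        (g : Matrix (Fin (k + 3)) (Fin (k + 3)) F) * (T - 1) *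
        ((g⁻¹ : GL (Fin (k + 3)) F) : Matrix (Fin (k + 3)) (Fin (k + 3)) F) := by
      rw [Matrix.mul_sub, Matrix.sub_mul, Matrix.mul_one, GL_coe_mul_inv]
    rw [e]
    calc (g : Matrix (Fin (k + 3)) (Fin (k + 3)) F) * (T - 1) *
          ((g⁻¹ : GL (Fin (k + 3)) F) : Matrix (Fin (k + 3)) (Fin (k + 3)) F) *
          ((g : Matrix (Fin (k + 3)) (Fin (k + 3)) F) * (T - 1) *
          ((g⁻¹ : GL (Fin (k + 3)) F) : Matrix (Fin (k + 3)) (Fin (k + 3)) F))
        = (g : Matrix (Fin (k + 3)) (Fin (k + 3)) F) * ((T - 1) *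
          (((g⁻¹ : GL (Fin (k + 3)) F) : Matrix (Fin (k + 3)) (Fin (k + 3)) F) *
          (g : Matrix (Fin (k + 3)) (Fin (k + 3)) F)) * (T - 1)) *
          ((g⁻¹ : GL (Fin (k + 3)) F) : Matrix (Fin (k + 3)) (Fin (k + 3)) F) := by
            simp only [Matrix.mul_assoc]
      _ = 0 := by
            rw [GL_coe_inv_mul, Matrix.mul_one, hT, Matrix.mul_zero, Matrix.zero_mul]
  have e2 := eq_of_mk_eq e1 hx hav hb
  obtain ⟨i, hi⟩ : ∃ i, φ i ≠ 0 := by
    by_contra hcon
    apply hφ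
    funext l
    by_contra hl
    exact hcon ⟨l, hl⟩
  have e3 := congrArg (fun s : SpecialLinearGroup (Fin (k + 3)) F =>
    (s : Matrix (Fin (k + 3)) (Fin (k + 3)) F) *ᵥ
      ((g : Matrix (Fin (k + 3)) (Fin (k + 3)) F) *ᵥ Pi.single i 1)) e2
  beta_reduce at e3
  rw [lbal_slField_TVc, slConj_coe, ← Matrix.mulVec_mulVec, ← Matrix.mulVec_mulVec,
    Matrix.mulVec_mulVec _ ((g⁻¹ : GL (Fin (k + 3)) F) : Matrix (Fin (k + 3)) (Fin (k + 3)) F),
    GL_coe_inv_mul, Matrix.one_mulVec, TVc_mulVec, TVc_mulVec, Matrix.mulVec_add,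
    Matrix.mulVec_smul, map_one, one_mul, one_mul, dotProduct_single, mul_one] at e3
  have e4 := add_left_cancel e3
  refine ⟨(τ (φ i))⁻¹ * (φ ⬝ᵥ ((g : Matrix (Fin (k + 3)) (Fin (k + 3)) F) *ᵥ Pi.single i 1)), ?_⟩
  have hτ : τ (φ i) ≠ 0 := by
    intro h0
    exact hi ((map_eq_zero τ).mp h0)
  rw [mul_smul, e4, smul_smul, inv_mul_cancel₀ hτ, one_smul]

/-- a semilinear bijection fixing every line is a scalar -/
theorem lbal_scalar_of_lines (g : GL (Fin (k + 3)) F) (τ : F ≃+* F)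
    (key : ∀ u : Fin (k + 3) → F, u ≠ 0 →
      ∃ c : F, (g : Matrix (Fin (k + 3)) (Fin (k + 3)) F) *ᵥ (fun i => τ (u i)) = c • u) :
    g ∈ Subgroup.center (GL (Fin (k + 3)) F) ∧ τ = 1 := by
  have hsingle : ∀ i : Fin (k + 3), (fun l => τ ((Pi.single i (1 : F) : Fin (k + 3) → F) l)) =
      Pi.single i 1 := by
    intro i
    funext l
    by_cases hl : l = i
    · subst hl
      rw [Pi.single_eq_same, map_one]
    · rw [Pi.single_eq_of_ne hl, map_zero]
  have hcol : ∀ i : Fin (k + 3), ∃ c : F, ∀ j : Fin (k + 3),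
      (g : Matrix (Fin (k + 3)) (Fin (k + 3)) F) j i = if j = i then c else 0 := by
    intro i
    obtain ⟨c, hc⟩ := key (Pi.single i 1) (by
      intro h0
      have := congrFun h0 i
      rw [Pi.single_eq_same, Pi.zero_apply] at this
      exact one_ne_zero this)
    rw [hsingle, Matrix.mulVec_single_one] at hc
    refine ⟨c, fun j => ?_⟩
    have := congrFun hc j
    rw [Matrix.col_apply, Pi.smul_apply, smul_eq_mul] at this
    rw [this]
    by_cases hj : j = i
    · subst hj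
      rw [Pi.single_eq_same, mul_one, if_pos rfl]
    · rw [Pi.single_eq_of_ne hj, mul_zero, if_neg hj]
  choose d hd using hcol
  have hrel : ∀ i j : Fin (k + 3), i ≠ j → ∀ a : F, τ a * d i = d j * a := by
    intro i j hij a
    have hu : (a • (Pi.single i (1 : F) : Fin (k + 3) → F) + Pi.single j 1) ≠ 0 := by
      intro h0
      have := congrFun h0 j
      rw [Pi.add_apply, Pi.smul_apply, Pi.single_eq_of_ne hij.symm, Pi.single_eq_same,
        smul_zero, zero_add, Pi.zero_apply] at this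
      exact one_ne_zero this
    obtain ⟨c, hc⟩ := key _ hu
    have hτu : (fun l => τ ((a • (Pi.single i (1 : F) : Fin (k + 3) → F) + Pi.single j 1 :
        Fin (k + 3) → F) l)) =
        τ a • (Pi.single i (1 : F) : Fin (k + 3) → F) + Pi.single j 1 := by
      funext l
      have h1 := congrFun (hsingle i) l
      have h2 := congrFun (hsingle j) l
      beta_reduce at h1 h2
      rw [Pi.add_apply, Pi.smul_apply, Pi.add_apply, Pi.smul_apply, smul_eq_mul, smul_eq_mul,
        map_add, map_mul, h1, h2]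
    rw [hτu, Matrix.mulVec_add, Matrix.mulVec_smul, Matrix.mulVec_single_one,
      Matrix.mulVec_single_one] at hc
    have hj := congrFun hc j
    have hi := congrFun hc i
    simp only [Pi.add_apply, Pi.smul_apply, Matrix.col_apply, smul_eq_mul] at hj hi
    rw [hd i j, hd j j, if_neg hij.symm, if_pos rfl, Pi.single_eq_of_ne hij.symm,
      Pi.single_eq_same, mul_zero, mul_zero, zero_add, zero_add, mul_one] at hj
    rw [hd i i, hd j i, if_pos rfl, if_neg hij, Pi.single_eq_same, Pi.single_eq_of_ne hij,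
      add_zero, mul_one, add_zero] at hi
    rw [hi, hj]
  have h01 : (0 : Fin (k + 3)) ≠ 1 := by
    intro h
    have := congrArg Fin.val h
    simp at this
  have hdeq : ∀ i j : Fin (k + 3), d i = d j := by
    intro i j
    by_cases hij : i = j
    · rw [hij]
    · have := hrel i j hij 1
      rw [map_one, one_mul, mul_one] at this
      exact this
  have hd0 : d 0 ≠ 0 := by
    intro h0
    have hz : (g : Matrix (Fin (k + 3)) (Fin (k + 3)) F) *ᵥ Pi.single 0 1 = 0 := by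
      rw [Matrix.mulVec_single_one]
      funext j
      rw [Matrix.col_apply, hd 0 j, h0]
      simp
    have h1 := congrArg (fun v => ((g⁻¹ : GL (Fin (k + 3)) F) :
      Matrix (Fin (k + 3)) (Fin (k + 3)) F) *ᵥ v) hz
    simp only [Matrix.mulVec_mulVec, GL_coe_inv_mul, Matrix.one_mulVec, Matrix.mulVec_zero] at h1
    have := congrFun h1 0
    rw [Pi.single_eq_same, Pi.zero_apply] at this
    exact one_ne_zero this
  constructor
  · rw [Matrix.GeneralLinearGroup.center_eq_range_scalar]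
    refine ⟨Units.mk0 (d 0) hd0, ?_⟩
    apply Units.ext
    ext a b
    rw [Matrix.GeneralLinearGroup.coe_scalar, Units.val_mk0, Matrix.scalar_apply,
      Matrix.diagonal_apply, hd b a, hdeq b 0]
  · apply RingEquiv.ext
    intro a
    have := hrel 0 1 h01 a
    rw [hdeq 1 0, mul_comm (d 0) a] at this
    exact mul_right_cancel₀ hd0 this

end main

/-- **LBal P8** -/
theorem lbal_h4_symp [Fintype F] (r : ℕ) [Fact r.Prime] [CharP F r] (hr2 : r ≠ 2) {n : ℕ}
    (h3 : 3 ≤ n) (A : GL (Fin n) F)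
    (hA : (A : Matrix (Fin n) (Fin n) F).transpose = -(A : Matrix (Fin n) (Fin n) F))
    (α : MulAut (ProjectiveSpecialLinearGroup (Fin n) F)) (hcop : (orderOf α).Coprime 2)
    (hfix : ∀ k : ProjectiveSpecialLinearGroup (Fin n) F,
      (graphAut A : MulAut (ProjectiveSpecialLinearGroup (Fin n) F)) k = k → α k = k) :
    α = 1 := by
  obtain ⟨k, rfl⟩ : ∃ k, n = k + 3 := ⟨n - 3, by omega⟩
  obtain ⟨g, τ, hα⟩ := mem_stdSub.mp (lbal_mem_stdSub_of_odd r h3 α hcop)
  have h2 : (2 : F) ≠ 0 := by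
    intro h
    have h' : ((2 : ℕ) : F) = 0 := by exact_mod_cast h
    rw [CharP.cast_eq_zero_iff F r 2] at h'
    have hr : r.Prime := Fact.out
    exact hr2 ((Nat.prime_dvd_prime_iff_eq hr Nat.prime_two).mp h')
  have hB := lbal_inv_transpose_neg A hA
  have key : ∀ u : Fin (k + 3) → F, u ≠ 0 →
      ∃ c : F, (g : Matrix (Fin (k + 3)) (Fin (k + 3)) F) *ᵥ (fun i => τ (u i)) = c • u := by
    intro u hu
    have hBu : ((A⁻¹ : GL (Fin (k + 3)) F) : Matrix (Fin (k + 3)) (Fin (k + 3)) F) *ᵥ u ≠ 0 := by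
      intro h0
      apply hu
      have h1 := congrArg (fun v => (A : Matrix (Fin (k + 3)) (Fin (k + 3)) F) *ᵥ v) h0
      simp only [Matrix.mulVec_mulVec, GL_coe_mul_inv, Matrix.one_mulVec, Matrix.mulVec_zero] at h1
      exact h1
    refine lbal_line_of_fix g τ u _ (lbal_alt_dot h2 _ hB u) hu hBu ?_
    rw [← hα]
    exact hfix _ (lbal_symp_fixed h2 A hA u)
  obtain ⟨hg, hτ⟩ := lbal_scalar_of_lines g τ key
  have hg' : pslConj g = (1 : MulAut (ProjectiveSpecialLinearGroup (Fin (k + 3)) F)) := by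
    rw [← MonoidHom.mem_ker, ker_pslConj]
    exact hg
  rw [hα, hg', hτ, pslField_one, mul_one]

end Cfsg.Agent.LBal
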