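import Mathlib
import Cfsg.Agent.Helper8.AutOzq

set_option autoImplicit false
set_option linter.unusedSectionVars false
set_option linter.style.haveILetI false

/-!
# LBal, S2733 piece MG4, part A (helper5): semilinear similarities fixing the classes of the
Siegel transformations of a nondegenerate subspace

For a quadratic space `(V, Q)` over a finite field, a subspace `U` of dimension at least five on
which `Q` is nondegenerate, and a semilinear similarity `γ` whose automorphism `Psi γ` of the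
projective Siegel group fixes the classes of all Siegel transformations `sgT Q u w` with
`u, w ∈ U`: `γ` is linear and acts on `U` as a scalar.  Also the squaring trick: if `Psi γ` fixes
the class of `s` then `γ * γ` commutes with `s` exactly.
-/

namespace Cfsg.Agent.LBal

open Module Matrix Cfsg.Agent.Helper8.QuadForm Cfsg.Agent.Helper8.WittQuad
  Cfsg.Agent.Helper8.OrthOrder
  Cfsg.Agent.Helper8.Siegel Cfsg.Agent.Helper8.SiegelGeom Cfsg.Agent.Helper8.SiegelGroup
  Cfsg.Agent.Helper8.SiegelPrim Cfsg.Agent.Helper8.SiegelSimple Cfsg.Agent.Helper8.AutO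

variable {F : Type*} [Field F] [Fintype F] {V : Type*} [AddCommGroup V] [Module F V]
  [FiniteDimensional F V] {Q : QuadraticForm F V}

/-- a field automorphism fixes a square root of one. -/
theorem lbal_m_g4_sigma_fix (σ : F ≃+* F) {c : F} (hc : c * c = 1) : σ c = c := by
  rcases mul_self_eq_one_iff.mp hc with h | h
  · rw [h, map_one]
  · rw [h, map_neg, map_one]

/-- a semilinear similarity centralises the centre of the Siegel group. -/
theorem lbal_m_g4_conj_center (hQ : Nondeg Q) (h5 : 5 ≤ finrank F V) (γ : ↥(GammaO Q))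
    {z : ↥(SG Q)} (hz : z ∈ Subgroup.center ↥(SG Q)) : conjS γ z = z := by
  obtain ⟨c, hc, hzc⟩ := center_scalar hQ h5 hz
  apply ext_ap
  intro x
  obtain ⟨y, rfl⟩ : ∃ y, gap γ y = x := ⟨gap γ⁻¹ x, gap_gap_inv γ x⟩
  rw [ap_conjS_gap, hzc, hzc, (semiSim_gap γ).smul, lbal_m_g4_sigma_fix _ hc]

/-- a central element of the Siegel group has square one. -/
theorem lbal_m_g4_center_sq (hQ : Nondeg Q) (h5 : 5 ≤ finrank F V)
    {z : ↥(SG Q)} (hz : z ∈ Subgroup.center ↥(SG Q)) : z * z = 1 := by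
  obtain ⟨c, hc, hzc⟩ := center_scalar hQ h5 hz
  apply ext_ap
  intro x
  rw [ap_mul, hzc, hzc, smul_smul, hc, one_smul, ap_one]

/-- **the squaring trick**: if the automorphism attached to `γ` fixes the class of `s`, then
`γ * γ` commutes with `s` exactly. -/
theorem lbal_m_g4_exact (hQ : Nondeg Q) (h5 : 5 ≤ finrank F V) (γ : ↥(GammaO Q))
    {s : ↥(SG Q)} (hfix : Psi γ (pr s) = pr s) : conjS (γ * γ) s = s := by
  rw [Psi_pr] at hfix
  have hz : s⁻¹ * conjS γ s ∈ Subgroup.center ↥(SG Q) := pr_eq_iff.mp hfix.symm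
  obtain ⟨z, hzdef⟩ : ∃ z, z = s⁻¹ * conjS γ s := ⟨_, rfl⟩
  rw [← hzdef] at hz
  have h1 : conjS γ s = s * z := by rw [hzdef, mul_inv_cancel_left]
  have h2 := lbal_m_g4_conj_center hQ h5 γ hz
  have h3 := lbal_m_g4_center_sq hQ h5 hz
  rw [conjS_mul_left, h1, conjS_mul, h1, h2, mul_assoc, h3, mul_one]

/-- the same for the action on vectors. -/
theorem lbal_m_g4_exact_ap (hQ : Nondeg Q) (h5 : 5 ≤ finrank F V) (γ : ↥(GammaO Q))
    {s : ↥(SG Q)} (hfix : Psi γ (pr s) = pr s) (x : V) :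
    ap s (gap (γ * γ) x) = gap (γ * γ) (ap s x) := by
  have h := ap_conjS_gap (γ * γ) s x
  rw [lbal_m_g4_exact hQ h5 γ hfix] at h
  exact h

/-- for a Siegel transformation no squaring is needed. -/
theorem lbal_m_g4_sgT_exact (hQ : Nondeg Q) (h5 : 5 ≤ finrank F V) (γ : ↥(GammaO Q))
    {u w : V} (huw : QuadraticMap.polar Q u w = 0)
    (hfix : Psi γ (pr (sgT Q u w)) = pr (sgT Q u w)) :
    conjS γ (sgT Q u w) = sgT Q u w := by
  obtain ⟨pc, hpc, hc⟩ := exists_char F
  rw [Psi_pr] at hfix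
  have h4 : (sgT Q u w) ^ (pc ^ 1) = 1 := by
    rw [pow_one]
    exact sgT_pow_char pc huw
  have h5' : (conjS γ (sgT Q u w)) ^ (pc ^ 1) = 1 := by
    rw [← conjSG_apply, ← map_pow, h4, map_one]
  exact eq_of_pr_eq hQ h5 pc h5' h4 hfix

/-- transfer of a totally singular pair from a subspace. -/
theorem lbal_m_g4_isTS_sub (U : Submodule F V) {a b : ↥U} (h : IsTS (Q.comp U.subtype) a b) :
    IsTS Q (a : V) (b : V) := by
  refine ⟨h.qa, h.qb, h.ab, ?_⟩
  have h1 := h.li.map' U.subtype (Submodule.ker_subtype U)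
  have h2 : (⇑U.subtype ∘ ![a, b]) = ![(a : V), (b : V)] := by
    funext i
    fin_cases i <;> rfl
  rw [h2] at h1
  exact h1

/-- a semilinear similarity commuting with the Siegel transformations of a nondegenerate
subspace `U` of dimension at least five preserves every singular point of `U`. -/
theorem lbal_m_g4_sing_fix (hQ : Nondeg Q) (U : Submodule F V) (hU : NondegOn Q U)
    (hU5 : 5 ≤ finrank F ↥U) (γ : ↥(GammaO Q))
    (hγ : ∀ u w, u ∈ U → w ∈ U → Q u = 0 → QuadraticMap.polar Q u w = 0 →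
      conjS γ (sgT Q u w) = sgT Q u w)
    {u : V} (huU : u ∈ U) (hu0 : u ≠ 0) (hu : Q u = 0) :
    gap γ u ∈ Submodule.span F {u} := by
  have hg := semiSim_gap γ
  have hQU : Nondeg (Q.comp U.subtype) := (nondeg_comp_subtype_iff Q U).mpr hU
  obtain ⟨e, f, h1, h2, hef⟩ := exists_two_ts hQU hU5 (u := ⟨u, huU⟩)
    (fun h => hu0 (congrArg Subtype.val h)) hu
  have t1 := lbal_m_g4_isTS_sub U h1
  have t2 := lbal_m_g4_isTS_sub U h2
  have key : ∀ w, w ∈ U → IsTS Q u w → gap γ u ∈ Submodule.span F {u, w} := by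
    intro w hwU hw
    have h6 := hγ u w huU hwU hw.qa hw.ab
    rw [conjS_sgT γ hw.qa hw.ab] at h6
    exact mem_span_of_sgT_eq hQ hw (hg.ne_zero hu0) (hg.sing hw.qa)
      (by rw [QuadraticMap.polar_smul_right, hg.polar, hw.ab, _root_.map_zero, mul_zero,
        smul_zero]) h6.symm
  exact mem_span_of_two hu0 t1.ab t2.ab t1.qb t2.qb hef (key e e.2 t1) (key f f.2 t2)

/-- such a semilinear similarity is linear. -/
theorem lbal_m_g4_sigma_eq (U : Submodule F V) (hU : NondegOn Q U)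
    (hU5 : 5 ≤ finrank F ↥U) (γ : ↥(GammaO Q))
    (hpt : ∀ u, u ∈ U → u ≠ 0 → Q u = 0 → gap γ u ∈ Submodule.span F {u}) (c : F) :
    sigmaOf γ c = c := by
  have hg := semiSim_gap γ
  have hQU : Nondeg (Q.comp U.subtype) := (nondeg_comp_subtype_iff Q U).mpr hU
  obtain ⟨u₀, hu₀0, hu₀⟩ := exists_singular (Q.comp U.subtype)
    (show 3 ≤ finrank F ↥U by omega)
  obtain ⟨e₀, f₀, h1, -, -⟩ := exists_two_ts hQU hU5 hu₀0 hu₀
  have t1 := lbal_m_g4_isTS_sub U h1
  have hpt' : ∀ u, u ∈ U → u ≠ 0 → Q u = 0 → ∃ t : F, gap γ u = t • u := by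
    intro u huU hu0 hu
    obtain ⟨t, ht⟩ := Submodule.mem_span_singleton.mp (hpt u huU hu0 hu)
    exact ⟨t, ht.symm⟩
  obtain ⟨a, ha⟩ := hpt' _ u₀.2 t1.a_ne t1.qa
  obtain ⟨b, hb⟩ := hpt' _ e₀.2 t1.b_ne t1.qb
  have key : ∀ c : F, sigmaOf γ c * b = a * c := by
    intro c
    have hne : (u₀ : V) + c • (e₀ : V) ≠ 0 := by
      intro h0
      have := t1.eq_zero_of_comb (s := 1) (t := c) (by rw [one_smul]; exact h0)
      exact one_ne_zero this.1
    have hq : Q ((u₀ : V) + c • (e₀ : V)) = 0 := by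
      have := t1.Q_comb 1 c
      rwa [one_smul] at this
    obtain ⟨t, ht⟩ := hpt' _ (U.add_mem u₀.2 (U.smul_mem c e₀.2)) hne hq
    rw [hg.add, hg.smul, ha, hb, smul_add, smul_smul, smul_smul] at ht
    have h0 : (a - t) • (u₀ : V) + (sigmaOf γ c * b - t * c) • (e₀ : V) = 0 := by
      rw [sub_smul, sub_smul]
      rw [← sub_eq_zero] at ht
      rw [← ht]
      abel
    obtain ⟨e1, e2⟩ := t1.eq_zero_of_comb h0
    rw [sub_eq_zero] at e1 e2
    rw [e2, e1]
  have k1 := key 1
  rw [map_one, one_mul, mul_one] at k1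
  have ha0 : a ≠ 0 := by
    intro h0
    rw [h0, zero_smul] at ha
    exact hg.ne_zero t1.a_ne ha
  have k2 := key c
  rw [k1, mul_comm] at k2
  exact mul_left_cancel₀ ha0 k2

/-- such a semilinear similarity acts on `U` as a scalar. -/
theorem lbal_m_g4_scalar (U : Submodule F V) (hU : NondegOn Q U)
    (hU5 : 5 ≤ finrank F ↥U) (γ : ↥(GammaO Q))
    (hpt : ∀ u, u ∈ U → u ≠ 0 → Q u = 0 → gap γ u ∈ Submodule.span F {u}) :
    ∃ l : F, l ≠ 0 ∧ ∀ x ∈ U, gap γ x = l • x := by
  have hg := semiSim_gap γ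
  have hσ := lbal_m_g4_sigma_eq U hU hU5 γ hpt
  have hQU : Nondeg (Q.comp U.subtype) := (nondeg_comp_subtype_iff Q U).mpr hU
  obtain ⟨u₀, hu₀0, hu₀⟩ := exists_singular (Q.comp U.subtype)
    (show 3 ≤ finrank F ↥U by omega)
  obtain ⟨f₀, hf₀, huf₀⟩ := exists_hyperbolic_pair (Q.comp U.subtype) hQU hu₀0 hu₀
  -- the linear map
  obtain ⟨L, hL⟩ : ∃ L : V →ₗ[F] V, ∀ x, L x = gap γ x :=
    ⟨{ toFun := gap γ
       map_add' := hg.add
       map_smul' := fun c x => by rw [hg.smul, hσ]; rfl }, fun x => rfl⟩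
  have hinv : ∀ x ∈ U, L x ∈ U := by
    intro x hx
    have hx' : x ∈ Submodule.span F {c | c ∈ U ∧ Q c = 0} :=
      mem_span_singular Q U (e := (u₀ : V)) (f := (f₀ : V)) u₀.2 f₀.2 hu₀ hf₀ huf₀ hx
    have hle : Submodule.span F {c | c ∈ U ∧ Q c = 0} ≤ U.comap L := by
      rw [Submodule.span_le]
      rintro c ⟨hcU, hc⟩
      rw [SetLike.mem_coe, Submodule.mem_comap, hL]
      by_cases hc0 : c = 0
      · rw [hc0, hg.map_zero]
        exact U.zero_mem
      · obtain ⟨t, ht⟩ := Submodule.mem_span_singleton.mp (hpt c hcU hc0 hc)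
        rw [← ht]
        exact U.smul_mem t hcU
    exact hle hx'
  have hinj : Function.Injective (L.restrict hinv) := by
    intro x y hxy
    apply Subtype.ext
    apply hg.bij.1
    have := congrArg Subtype.val hxy
    rw [LinearMap.coe_restrict_apply, LinearMap.coe_restrict_apply, hL, hL] at this
    exact this
  obtain ⟨l, hl⟩ := exists_scalar_of_fix (Q.comp U.subtype) hQU hU5
    (LinearEquiv.ofInjectiveEndo (L.restrict hinv) hinj) (by
      intro u hu0 hu
      obtain ⟨t, ht⟩ := Submodule.mem_span_singleton.mp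
        (hpt (u : V) u.2 (fun h => hu0 (Subtype.ext h)) hu)
      refine ⟨t, ?_⟩
      apply Subtype.ext
      rw [LinearEquiv.coe_ofInjectiveEndo, LinearMap.coe_restrict_apply, hL, ← ht]
      rfl)
  have hl' : ∀ x ∈ U, gap γ x = l • x := by
    intro x hx
    have := congrArg Subtype.val (hl ⟨x, hx⟩)
    rw [LinearEquiv.coe_ofInjectiveEndo, LinearMap.coe_restrict_apply, hL] at this
    exact this
  refine ⟨l, ?_, hl'⟩
  intro h0
  have h1 := hl' (u₀ : V) u₀.2
  rw [h0, zero_smul] at h1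
  exact hg.ne_zero (fun h => hu₀0 (Subtype.ext h)) h1

end Cfsg.Agent.LBal
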