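import Mathlib
import Cfsg.Agent.LBal.AbsB

set_option autoImplicit false

/-!
`lbal_NoCore p G`: the group `G` has no nontrivial normal subgroup of order prime to `p`
(an isomorphism invariant); bridges to `HasCore` (helper8).
-/

namespace Cfsg.Agent.LBal

open Cfsg Cfsg.Agent.Helper8.AutSp

/-- no nontrivial normal `p'`-subgroup -/
def lbal_NoCore (p : ℕ) (G : Type*) [Group G] : Prop :=
  ∀ N : Subgroup G, N.Normal → (Nat.card N).Coprime p → N = ⊥

/-- invariance under isomorphism -/
theorem lbal_noCore_congr {G G' : Type*} [Group G] [Group G'] (e : G ≃* G') {p : ℕ}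
    (h : lbal_NoCore p G') : lbal_NoCore p G := by
  intro N hN hcop
  have h1 : N.map e.toMonoidHom = ⊥ := by
    apply h
    · exact hN.map _ e.surjective
    · rw [Nat.card_congr (N.equivMapOfInjective e.toMonoidHom e.injective).symm.toEquiv]
      exact hcop
  rw [Subgroup.eq_bot_iff_forall] at h1 ⊢
  intro x hx
  have h2 := h1 (e x) ⟨x, hx, rfl⟩
  exact e.injective (h2.trans (map_one e).symm)

theorem lbal_noCore_of_nonempty {G G' : Type*} [Group G] [Group G'] (e : Nonempty (G ≃* G'))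
    {p : ℕ} (h : lbal_NoCore p G') : lbal_NoCore p G :=
  lbal_noCore_congr e.some h

/-- bridge to `HasCore` -/
theorem lbal_not_hasCore_of_noCore {G : Type*} [Group G] {p : ℕ} (H : Subgroup G)
    (h : lbal_NoCore p ↥H) : ¬ HasCore p H := by
  intro hc
  obtain ⟨N, h1, h2, h3⟩ := (pPrimeCore_ne_bot_iff p).mp
    ((pPrimeCore_ne_bot_iff_hasCore p H).mpr hc)
  exact h3 (h N h1 h2)

theorem lbal_noCore_of_not_hasCore {G : Type*} [Group G] {p : ℕ} (H : Subgroup G)
    (h : ¬ HasCore p H) : lbal_NoCore p ↥H := by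
  intro N h1 h2
  by_contra h3
  exact h ((pPrimeCore_ne_bot_iff_hasCore p H).mp ((pPrimeCore_ne_bot_iff p).mpr ⟨N, h1, h2, h3⟩))

/-- (Q0) a normal subgroup `S` with trivial centraliser, such that every normal `p'`-subgroup of
`G` inside `S` is trivial -/
theorem lbal_noCore_of_socle {G : Type*} [Group G] {p : ℕ} (S : Subgroup G) [hS : S.Normal]
    (hcent : ∀ g : G, (∀ s ∈ S, g * s = s * g) → g = 1)
    (hSM : ∀ M : Subgroup G, M.Normal → M ≤ S → (Nat.card M).Coprime p → M = ⊥) :
    lbal_NoCore p G := by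
  intro N hN hcop
  have h1 : N ⊓ S = ⊥ := by
    apply hSM
    · exact Subgroup.normal_inf_normal N S
    · exact inf_le_right
    · exact Nat.Coprime.coprime_dvd_left (Subgroup.card_dvd_of_le inf_le_left) hcop
  rw [Subgroup.eq_bot_iff_forall]
  intro g hg
  apply hcent
  intro s hs
  have h2 : g * s * g⁻¹ * s⁻¹ ∈ N ⊓ S := by
    refine ⟨?_, ?_⟩
    · have := hN.conj_mem g⁻¹ (N.inv_mem hg) s
      have h3 : g * s * g⁻¹ * s⁻¹ = g * (s * g⁻¹ * s⁻¹) := by group
      rw [h3]
      exact N.mul_mem hg this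
    · exact S.mul_mem (hS.conj_mem s hs g) (S.inv_mem hs)
  rw [h1, Subgroup.mem_bot] at h2
  have h3 : g * s = g * s * g⁻¹ * s⁻¹ * (s * g) := by group
  rw [h3, h2, one_mul]

end Cfsg.Agent.LBal
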