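import Mathlib

/-!
# LBal P6, abstract group theory (helper9)

* a normal subgroup of a perfect group with simple central quotient is everything or central;
* the version for the range of an injective homomorphism (the shape `lbal_quot_noCore` wants);
* perfectness transfers along a group isomorphism.
-/

set_option autoImplicit false

namespace Cfsg.Agent.LBal

/-- in a perfect group with simple central quotient a normal subgroup is the whole group or
central. -/
theorem lbal_qs_normal {A : Type*} [Group A] (hs : IsSimpleGroup (A ⧸ Subgroup.center A))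
    (hperf : commutator A = ⊤) (M : Subgroup A) [hM : M.Normal] :
    M = ⊤ ∨ M ≤ Subgroup.center A := by
  have hn : (M.map (QuotientGroup.mk' (Subgroup.center A))).Normal :=
    hM.map _ (QuotientGroup.mk'_surjective _)
  rcases hs.eq_bot_or_eq_top_of_normal _ hn with h | h
  · right
    have := (Subgroup.map_eq_bot_iff _).mp h
    rwa [QuotientGroup.ker_mk'] at this
  · left
    rw [eq_top_iff, ← hperf, commutator_def, Subgroup.commutator_le]
    intro a _ b _
    have ha : QuotientGroup.mk' (Subgroup.center A) a ∈
        M.map (QuotientGroup.mk' (Subgroup.center A)) := by rw [h]; trivial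
    obtain ⟨m, hm, hma⟩ := ha
    obtain ⟨z, hz, hmz⟩ := (QuotientGroup.mk'_eq_mk' _).mp hma
    have hzb : z * b = b * z := ((Subgroup.mem_center_iff.mp hz) b).symm
    rw [commutatorElement_def, ← hmz]
    have : m * z * b * (m * z)⁻¹ * b⁻¹ = m * (b * m⁻¹ * b⁻¹) := by
      rw [mul_inv_rev]
      calc m * z * b * (z⁻¹ * m⁻¹) * b⁻¹ = m * (z * b) * z⁻¹ * m⁻¹ * b⁻¹ := by group
        _ = m * (b * z) * z⁻¹ * m⁻¹ * b⁻¹ := by rw [hzb]
        _ = m * (b * m⁻¹ * b⁻¹) := by group
    rw [this]
    exact M.mul_mem hm (hM.conj_mem _ (M.inv_mem hm) b)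

/-- the same for the range of an injective homomorphism, in the shape used by
`lbal_quot_noCore`. -/
theorem lbal_qs_range {Γ A : Type*} [Group Γ] [Group A] (f : A →* Γ)
    (hs : IsSimpleGroup (A ⧸ Subgroup.center A))
    (hperf : commutator A = ⊤) (M : Subgroup Γ) (hM : M ≤ f.range)
    (hnorm : ∀ s ∈ f.range, ∀ m ∈ M, s * m * s⁻¹ ∈ M) :
    f.range ≤ M ∨ ∀ m ∈ M, ∀ s ∈ f.range, m * s = s * m := by
  have hn : (M.comap f).Normal := by
    refine ⟨fun m hm a => ?_⟩
    rw [Subgroup.mem_comap, map_mul, map_mul, map_inv]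
    exact hnorm _ ⟨a, rfl⟩ _ hm
  rcases lbal_qs_normal hs hperf (M.comap f) with h | h
  · left
    rintro _ ⟨a, rfl⟩
    have : a ∈ M.comap f := by rw [h]; trivial
    exact this
  · right
    rintro m hm _ ⟨a, rfl⟩
    obtain ⟨a₀, rfl⟩ := hM hm
    have h0 : a₀ ∈ Subgroup.center A := h hm
    rw [← map_mul, ← map_mul, (Subgroup.mem_center_iff.mp h0) a]

/-- perfectness transfers along an isomorphism. -/
theorem lbal_perfect_of_equiv {A B : Type*} [Group A] [Group B] (e : A ≃* B)
    (h : commutator B = ⊤) : commutator A = ⊤ := by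
  have h1 : (commutator A).map e.toMonoidHom = commutator B := by
    rw [commutator_def, Subgroup.map_commutator, ← MonoidHom.range_eq_map,
      MonoidHom.range_eq_top.mpr e.surjective, ← commutator_def]
  rw [h] at h1
  apply Subgroup.map_injective (f := e.toMonoidHom) e.injective
  rw [h1, ← MonoidHom.range_eq_map]
  exact (MonoidHom.range_eq_top.mpr e.surjective).symm

end Cfsg.Agent.LBal
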