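import Mathlib
import Cfsg.Agent.Helper8.OmegaCenter

/-!
# LBal P6, linear algebra: a linear map commuting with all `r_u r_w` is a scalar (helper9)

Generalises `Helper8.OmegaCenter.eq_one_or_neg_one` from isometries to arbitrary invertible linear
maps (in particular similarities): if `z` commutes with every product of two reflections
`r_u r_w` (`u ⊥ w`, `Q u = Q w ≠ 0`) of a nondegenerate quadratic space of dimension at least four
over a finite field of odd characteristic, then `z` is a scalar.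
-/

set_option autoImplicit false

namespace Cfsg.Agent.LBal

open Module Cfsg.Agent.Helper8.QuadForm Cfsg.Agent.Helper8.OrthOrder
  Cfsg.Agent.Helper8.Reflections Cfsg.Agent.Helper8.OmegaCenter

section lin

variable {F : Type*} [Field F] {V : Type*} [AddCommGroup V] [Module F V]
variable [Fintype F] [FiniteDimensional F V] (h2 : (2 : F) ≠ 0) (Q : QuadraticForm F V)
  (hQ : Nondeg Q) (hdim : 4 ≤ finrank F V) (z : V ≃ₗ[F] V)
  (hcomm : ∀ u w, Q u ≠ 0 → Q w = Q u → QuadraticMap.polar Q u w = 0 →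
    ∀ x, z (refl Q u (refl Q w x)) = refl Q u (refl Q w (z x)))

include h2 hQ hdim hcomm in
/-- every nonsingular vector is an eigenvector. -/
theorem lbal_pgo_eigen {u : V} (hu : Q u ≠ 0) : ∃ a : F, z u = a • u := by
  obtain ⟨w₁, hw₁u, hw₁⟩ := exists_perp_repr Q hQ h2 hu (by omega) (Q u)
  obtain ⟨w₂, hw₂u, hw₂w, hw₂⟩ := exists_perp_perp_repr Q hQ h2 hdim hu (by rw [hw₁]; exact hu)
    hw₁u (Q u)
  obtain ⟨a, b, hab⟩ := eigenplane h2 Q z hu hw₁u (hcomm u w₁ hu hw₁ hw₁u u)
  obtain ⟨a', b', hab'⟩ := eigenplane h2 Q z hu hw₂u (hcomm u w₂ hu hw₂ hw₂u u)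
  have hb : b = 0 := by
    have h1 : QuadraticMap.polar Q w₁ (z u) = b * (2 * Q w₁) := by
      rw [hab, QuadraticMap.polar_add_right, QuadraticMap.polar_smul_right,
        QuadraticMap.polar_smul_right, polar_self', QuadraticMap.polar_comm Q w₁ u, hw₁u]
      simp
    have h1' : QuadraticMap.polar Q w₁ (z u) = 0 := by
      rw [hab', QuadraticMap.polar_add_right, QuadraticMap.polar_smul_right,
        QuadraticMap.polar_smul_right, hw₂w, QuadraticMap.polar_comm Q w₁ u, hw₁u]
      simp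
    rw [h1'] at h1
    rcases mul_eq_zero.1 h1.symm with h | h
    · exact h
    · exfalso
      rw [hw₁] at h
      exact mul_ne_zero h2 hu h
  rw [hb, zero_smul, add_zero] at hab
  exact ⟨a, hab⟩

include h2 hQ hdim hcomm in
/-- two orthogonal nonsingular eigenvectors with nonsingular sum have the same eigenvalue. -/
theorem lbal_pgo_eigen_eq2 {x y : V} {α β : F} (hx : Q x ≠ 0) (hxy : QuadraticMap.polar Q x y = 0)
    (hzx : z x = α • x) (hzy : z y = β • y) (hs : Q (x + y) ≠ 0) (hy : Q y ≠ 0) : α = β := by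
  obtain ⟨γ, hγ⟩ := lbal_pgo_eigen h2 Q hQ hdim z hcomm hs
  rw [map_add, hzx, hzy] at hγ
  have hyx : QuadraticMap.polar Q y x = 0 := by rw [QuadraticMap.polar_comm]; exact hxy
  have e1 := congrArg (fun v => QuadraticMap.polar Q x v) hγ
  have e2 := congrArg (fun v => QuadraticMap.polar Q y v) hγ
  simp only [QuadraticMap.polar_add_right, QuadraticMap.polar_smul_right, polar_self', hxy, hyx,
    smul_eq_mul, mul_zero, add_zero, zero_add] at e1 e2
  have hx2 : (2 : F) * Q x ≠ 0 := mul_ne_zero h2 hx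
  have hy2 : (2 : F) * Q y ≠ 0 := mul_ne_zero h2 hy
  have h1 : α = γ := mul_right_cancel₀ hx2 e1
  have h3 : β = γ := mul_right_cancel₀ hy2 e2
  rw [h1, h3]

include h2 hQ hdim hcomm in
/-- three pairwise orthogonal nonsingular eigenvectors with nonsingular sum: the first two
eigenvalues agree. -/
theorem lbal_pgo_eigen_eq3 {x y w : V} {α β γ : F} (hx : Q x ≠ 0) (hy : Q y ≠ 0)
    (hxy : QuadraticMap.polar Q x y = 0) (hxw : QuadraticMap.polar Q x w = 0)
    (hyw : QuadraticMap.polar Q y w = 0)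
    (hzx : z x = α • x) (hzy : z y = β • y) (hzw : z w = γ • w) (hs : Q (x + y + w) ≠ 0) :
    α = β := by
  obtain ⟨δ, hδ⟩ := lbal_pgo_eigen h2 Q hQ hdim z hcomm hs
  rw [map_add, map_add, hzx, hzy, hzw] at hδ
  have hyx : QuadraticMap.polar Q y x = 0 := by rw [QuadraticMap.polar_comm]; exact hxy
  have e1 := congrArg (fun v => QuadraticMap.polar Q x v) hδ
  have e2 := congrArg (fun v => QuadraticMap.polar Q y v) hδ
  simp only [QuadraticMap.polar_add_right, QuadraticMap.polar_smul_right, polar_self', hxy, hyx,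
    hxw, hyw, smul_eq_mul, mul_zero, add_zero, zero_add] at e1 e2
  have hx2 : (2 : F) * Q x ≠ 0 := mul_ne_zero h2 hx
  have hy2 : (2 : F) * Q y ≠ 0 := mul_ne_zero h2 hy
  have h1 : α = δ := mul_right_cancel₀ hx2 e1
  have h3 : β = δ := mul_right_cancel₀ hy2 e2
  rw [h1, h3]

include h2 hQ hdim hcomm in
/-- **a linear automorphism commuting with all `r_u r_w` is a scalar.** -/
theorem lbal_pgo_scalar_of_comm : ∃ a : F, ∀ v, z v = a • v := by
  obtain ⟨n, hn⟩ : ∃ n, finrank F V = n + 1 := ⟨finrank F V - 1, by omega⟩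
  obtain ⟨b, hb1, hb2, hb3⟩ := exists_orthogonal_family h2 n Q hQ hn
  have hbQ : ∀ i, Q (b i) ≠ 0 := by
    intro i
    by_cases hi : i = 0
    · rw [hi]; exact hb2
    · rw [hb3 i hi]; exact one_ne_zero
  obtain ⟨b', hb'⟩ := exists_basis_of_orthogonal h2 Q hn hb1 hbQ
  have hev : ∀ i, ∃ a : F, z (b i) = a • b i := fun i =>
    lbal_pgo_eigen h2 Q hQ hdim z hcomm (hbQ i)
  choose a ha using hev
  have hn3 : 3 ≤ n := by omega
  -- indices 1 and 2
  let i1 : Fin (n + 1) := ⟨1, by omega⟩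
  let i2 : Fin (n + 1) := ⟨2, by omega⟩
  have hi10 : i1 ≠ 0 := by
    intro h
    have := congrArg Fin.val h
    simp [i1] at this
  have hi20 : i2 ≠ 0 := by
    intro h
    have := congrArg Fin.val h
    simp [i2] at this
  have hi12 : i1 ≠ i2 := by
    intro h
    have := congrArg Fin.val h
    simp [i1, i2] at this
  -- all nonzero indices have the eigenvalue of `i1`
  have hnz : ∀ i, i ≠ 0 → a i = a i1 := by
    intro i hi
    by_cases hii : i = i1
    · rw [hii]
    · apply lbal_pgo_eigen_eq2 h2 Q hQ hdim z hcomm (hbQ i) (hb1 i i1 hii) (ha i) (ha i1) ?_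
        (hbQ i1)
      rw [QuadraticMap.map_add Q, hb1 i i1 hii, hb3 i hi, hb3 i1 hi10, add_zero]
      have : (1 : F) + 1 = 2 := by norm_num
      rw [this]
      exact h2
  have h0 : a 0 = a i1 := by
    by_cases hc : Q (b 0) + 1 = 0
    · apply lbal_pgo_eigen_eq3 h2 Q hQ hdim z hcomm (hbQ 0) (hbQ i1) (hb1 0 i1 (Ne.symm hi10))
        (hb1 0 i2 (Ne.symm hi20)) (hb1 i1 i2 hi12) (ha 0) (ha i1) (ha i2)
      rw [QuadraticMap.map_add Q, QuadraticMap.map_add Q, hb1 0 i1 (Ne.symm hi10),
        QuadraticMap.polar_add_left, hb1 0 i2 (Ne.symm hi20), hb1 i1 i2 hi12, hb3 i1 hi10,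
        hb3 i2 hi20, add_zero, add_zero, add_zero, hc, zero_add]
      exact one_ne_zero
    · apply lbal_pgo_eigen_eq2 h2 Q hQ hdim z hcomm (hbQ 0) (hb1 0 i1 (Ne.symm hi10)) (ha 0)
        (ha i1) ?_ (hbQ i1)
      rw [QuadraticMap.map_add Q, hb1 0 i1 (Ne.symm hi10), hb3 i1 hi10, add_zero]
      exact hc
  have hall : ∀ i, a i = a i1 := by
    intro i
    by_cases hi : i = 0
    · rw [hi]; exact h0
    · exact hnz i hi
  refine ⟨a i1, ?_⟩
  have : (z : V →ₗ[F] V) = a i1 • LinearMap.id := by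
    apply b'.ext
    intro i
    rw [hb', LinearEquiv.coe_coe, ha i, hall i, LinearMap.smul_apply, LinearMap.id_apply]
  intro v
  have := congrArg (fun f : V →ₗ[F] V => f v) this
  exact this

end lin

end Cfsg.Agent.LBal
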