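import Mathlib

set_option autoImplicit false

/-! Abstract lemma for the local-balance swarm (helper7): a quotient `Γ ⧸ Z` has no nontrivial
normal `p'`-subgroup as soon as `Γ` has a normal perfect "quasisimple" subgroup `S` with
`C_Γ(S) ≤ Z` whose image in `Γ ⧸ Z` has order divisible by `p`. -/

namespace Cfsg.Agent.LBal

open Subgroup

/-- If `g` commutes with `S` modulo a subgroup `M ≤ S` consisting of elements commuting with `S`,
then `s ↦ g s g⁻¹ s⁻¹` is multiplicative on `S`. -/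
theorem lbal_comm_mul {Γ : Type*} [Group Γ] (S M : Subgroup Γ)
    (hMc : ∀ m ∈ M, ∀ s ∈ S, m * s = s * m) (g : Γ)
    (hg : ∀ s ∈ S, g * s * g⁻¹ * s⁻¹ ∈ M) (s t : Γ) (hs : s ∈ S) (ht : t ∈ S) :
    g * (s * t) * g⁻¹ * (s * t)⁻¹ = (g * s * g⁻¹ * s⁻¹) * (g * t * g⁻¹ * t⁻¹) := by
  have h1 := hMc _ (hg t ht) s⁻¹ (S.inv_mem hs)
  have : g * (s * t) * g⁻¹ * (s * t)⁻¹
      = (g * s * g⁻¹) * ((g * t * g⁻¹ * t⁻¹) * s⁻¹) := by
    group
  rw [this, h1]
  group

/-- an element normalising a perfect subgroup `S` and centralising it modulo a subgroup of `S`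
that commutes with `S` centralises `S`. -/
theorem lbal_centralizes_of_perfect {Γ : Type*} [Group Γ] (S M : Subgroup Γ) (hMS : M ≤ S)
    (hperf : commutator ↥S = ⊤)
    (hMc : ∀ m ∈ M, ∀ s ∈ S, m * s = s * m) (g : Γ)
    (hg : ∀ s ∈ S, g * s * g⁻¹ * s⁻¹ ∈ M) (s : Γ) (hs : s ∈ S) : g * s = s * g := by
  -- the homomorphism `S → center S`
  let c : ↥S →* ↥(Subgroup.center ↥S) :=
    { toFun := fun x => ⟨⟨g * x * g⁻¹ * (x : Γ)⁻¹, hMS (hg x x.2)⟩, by
        rw [Subgroup.mem_center_iff]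
        intro y
        apply Subtype.ext
        exact (hMc _ (hg x x.2) y y.2).symm⟩
      map_one' := by
        apply Subtype.ext
        apply Subtype.ext
        simp
      map_mul' := by
        intro x y
        apply Subtype.ext
        apply Subtype.ext
        exact lbal_comm_mul S M hMc g hg x y x.2 y.2 }
  have hker : c.ker = ⊤ := by
    have hle : commutator ↥S ≤ c.ker := by
      rw [commutator_def, Subgroup.commutator_le]
      intro a _ b _
      rw [MonoidHom.mem_ker, map_commutatorElement, commutatorElement_eq_one_iff_commute]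
      have hcb : (c b) ∈ Subgroup.center ↥(Subgroup.center ↥S) := by
        rw [Subgroup.mem_center_iff]
        intro y
        apply Subtype.ext
        have := (Subgroup.mem_center_iff.mp (c b).2) (y : ↥S)
        exact this
      exact ((Subgroup.mem_center_iff.mp hcb) (c a))
    rw [hperf] at hle
    exact top_le_iff.mp hle
  have h1 : c ⟨s, hs⟩ = 1 := by
    rw [← MonoidHom.mem_ker, hker]
    trivial
  have h2 : g * s * g⁻¹ * s⁻¹ = 1 := by
    have := congrArg (fun z : ↥(Subgroup.center ↥S) => ((z : ↥S) : Γ)) h1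
    exact this
  have h3 : g * s * g⁻¹ = s := by
    have := congrArg (· * s) h2
    simpa [mul_assoc] using this
  calc g * s = g * s * g⁻¹ * g := by group
    _ = s * g := by rw [h3]

/-- **No `p'`-core in a projective quotient.** `Γ` a group with normal subgroups `Z`, `S`;
`S` perfect, every subgroup of `S` normalised by `S` contains `S` or commutes with `S`,
`C_Γ(S) ≤ Z`, and `p` divides the order of the image of `S` in `Γ ⧸ Z`.  Then `Γ ⧸ Z` has no
nontrivial normal subgroup of order prime to `p`. -/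
theorem lbal_quot_noCore {Γ : Type*} [Group Γ] [Finite Γ] (Z S : Subgroup Γ) [hZn : Z.Normal]
    [hSn : S.Normal] (p : ℕ)
    (hcent : ∀ g : Γ, (∀ s ∈ S, g * s = s * g) → g ∈ Z)
    (hperf : commutator ↥S = ⊤)
    (hqs : ∀ M : Subgroup Γ, M ≤ S → (∀ s ∈ S, ∀ m ∈ M, s * m * s⁻¹ ∈ M) →
      S ≤ M ∨ ∀ m ∈ M, ∀ s ∈ S, m * s = s * m)
    (hp : ¬ (Nat.card ↥(S.map (QuotientGroup.mk' Z))).Coprime p)
    (N : Subgroup (Γ ⧸ Z)) [hN : N.Normal] (hNp : (Nat.card ↥N).Coprime p) : N = ⊥ := by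
  set Nt : Subgroup Γ := N.comap (QuotientGroup.mk' Z) with hNt
  have hNtn : Nt.Normal := hN.comap _
  rcases hqs (Nt ⊓ S) inf_le_right (by
      intro s hs m hm
      exact ⟨hNtn.conj_mem m hm.1 s, hSn.conj_mem m hm.2 s⟩) with h | h
  · exfalso
    apply hp
    have hle : S.map (QuotientGroup.mk' Z) ≤ N := by
      rintro _ ⟨s, hs, rfl⟩
      exact (h hs).1
    exact Nat.Coprime.coprime_dvd_left (Subgroup.card_dvd_of_le hle) hNp
  · rw [Subgroup.eq_bot_iff_forall]
    intro x hx
    obtain ⟨g, rfl⟩ := QuotientGroup.mk'_surjective Z x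
    have hgN : g ∈ Nt := hx
    have hgS : ∀ s ∈ S, g * s * g⁻¹ * s⁻¹ ∈ Nt ⊓ S := by
      intro s hs
      refine ⟨?_, ?_⟩
      · have h1 : s * g⁻¹ * s⁻¹ ∈ Nt := hNtn.conj_mem _ (Nt.inv_mem hgN) s
        have h2 := Nt.mul_mem hgN h1
        have : g * (s * g⁻¹ * s⁻¹) = g * s * g⁻¹ * s⁻¹ := by group
        rwa [this] at h2
      · exact S.mul_mem (hSn.conj_mem s hs g) (S.inv_mem hs)
    have hgc : ∀ s ∈ S, g * s = s * g :=
      fun s hs => lbal_centralizes_of_perfect S (Nt ⊓ S) inf_le_right hperf h g hgS s hs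
    have := hcent g hgc
    exact (QuotientGroup.eq_one_iff g).mpr this

end Cfsg.Agent.LBal
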