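import Mathlib
import Cfsg.Prelude.Def_LieTypeDatum
import Cfsg.Agent.Helper8.OmegaCenterMat
import Cfsg.Agent.Helper8.OmegaSimple
import Cfsg.Agent.LBal.QuotCore
import Cfsg.Agent.LBal.NoCore
import Cfsg.Agent.LBal.PGOCoreLin
import Cfsg.Agent.LBal.PGOCoreAbs

/-!
# LBal P6, generic core (helper9)

`PGO(Q)` has no nontrivial normal subgroup of odd order, for a quadratic form `Q` with
nondegenerate polar form in at least five variables over a finite field of odd characteristic.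
-/

set_option autoImplicit false

namespace Cfsg.Agent.LBal

open Module Cfsg Cfsg.Agent.Helper8.QuadForm Cfsg.Agent.Helper8.OrthOrder
  Cfsg.Agent.Helper8.Reflections Cfsg.Agent.Helper8.ReflMatrix Cfsg.Agent.Helper8.OmegaCrit
  Cfsg.Agent.Helper8.OmegaSimple Cfsg.Agent.Helper8.SiegelGroup Cfsg.Agent.Helper8.OmegaCenter
  Cfsg.Agent.Helper8.OmegaOdd

variable {F : Type*} [Field F] [Fintype F] {ι : Type} [Fintype ι] [DecidableEq ι]
  (Q : QuadraticForm F (ι → F))

theorem lbal_pgo_isom_le :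
    Cfsg.isometryGroup F ⇑Q ≤ Geo.quadSimilarityGroup (F := F) ⇑Q := by
  intro g hg
  refine ⟨1, fun v => ?_⟩
  rw [Units.val_one, one_mul]
  exact hg v v

/-- the inclusion of the isometry group into the similarity group. -/
noncomputable def lbal_pgo_incl :
    ↥(Cfsg.isometryGroup F ⇑Q) →* ↥(Geo.quadSimilarityGroup (F := F) ⇑Q) :=
  Subgroup.inclusion (lbal_pgo_isom_le Q)

theorem lbal_pgo_incl_val (g : ↥(Cfsg.isometryGroup F ⇑Q)) :
    ((lbal_pgo_incl Q g : ↥(Geo.quadSimilarityGroup (F := F) ⇑Q)) : GL ι F) = (g : GL ι F) := rfl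

/-- the isometry group is normal in the similarity group. -/
theorem lbal_pgo_isom_normal :
    ((Cfsg.isometryGroup F ⇑Q).subgroupOf (Geo.quadSimilarityGroup (F := F) ⇑Q)).Normal := by
  refine ⟨fun n hn g => ?_⟩
  rw [Subgroup.mem_subgroupOf] at hn ⊢
  obtain ⟨c, hc⟩ := g.2
  have hn' : ∀ w, Q (((n : GL ι F) : Matrix ι ι F).mulVec w) = Q w := fun w => hn w w
  have key : ∀ w, Q w = c * Q ((((g : GL ι F)⁻¹ : GL ι F) : Matrix ι ι F).mulVec w) := by
    intro w
    rw [← hc, Matrix.mulVec_mulVec, ← Units.val_mul, mul_inv_cancel, Units.val_one,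
      Matrix.one_mulVec]
  intro u _
  show Q ((((g * n * g⁻¹ : ↥(Geo.quadSimilarityGroup (F := F) ⇑Q)) : GL ι F) :
    Matrix ι ι F).mulVec u) = Q u
  have e : (((g * n * g⁻¹ : ↥(Geo.quadSimilarityGroup (F := F) ⇑Q)) : GL ι F) : Matrix ι ι F)
      = ((g : GL ι F) : Matrix ι ι F) * ((n : GL ι F) : Matrix ι ι F)
        * (((g : GL ι F)⁻¹ : GL ι F) : Matrix ι ι F) := rfl
  rw [e, ← Matrix.mulVec_mulVec, ← Matrix.mulVec_mulVec, hc, hn', ← key]

/-- the homomorphism `Ω(Q) → GO(Q)`. -/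
noncomputable def lbal_pgo_f :
    ↥(Cfsg.Omega F ⇑Q) →* ↥(Geo.quadSimilarityGroup (F := F) ⇑Q) :=
  (lbal_pgo_incl Q).comp (Cfsg.Omega F ⇑Q).subtype

theorem lbal_pgo_f_injective : Function.Injective (lbal_pgo_f Q) := by
  unfold lbal_pgo_f lbal_pgo_incl
  rw [MonoidHom.coe_comp]
  exact (Subgroup.inclusion_injective _).comp (Subgroup.subtype_injective _)

/-- the image of `Ω(Q)` in the similarity group. -/
noncomputable def lbal_pgo_S : Subgroup ↥(Geo.quadSimilarityGroup (F := F) ⇑Q) :=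
  (lbal_pgo_f Q).range

theorem lbal_pgo_S_eq : lbal_pgo_S Q =
    ⁅(Cfsg.isometryGroup F ⇑Q).subgroupOf (Geo.quadSimilarityGroup (F := F) ⇑Q),
      (Cfsg.isometryGroup F ⇑Q).subgroupOf (Geo.quadSimilarityGroup (F := F) ⇑Q)⁆ := by
  unfold lbal_pgo_S lbal_pgo_f
  rw [MonoidHom.range_comp, Subgroup.range_subtype]
  show (commutator ↥(Cfsg.isometryGroup F ⇑Q)).map (lbal_pgo_incl Q) = _
  rw [commutator_def, Subgroup.map_commutator, ← MonoidHom.range_eq_map]
  unfold lbal_pgo_incl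
  rw [Subgroup.inclusion_range]

theorem lbal_pgo_S_normal : (lbal_pgo_S Q).Normal := by
  rw [lbal_pgo_S_eq]
  have := lbal_pgo_isom_normal Q
  exact Subgroup.commutator_normal _ _

/-- `r_u r_w ∈ Ω(Q)` for `Q u = Q w ≠ 0`. -/
theorem lbal_pgo_rr_mem (h2 : (2 : F) ≠ 0) (hQ : (QuadraticMap.polarBilin Q).Nondegenerate)
    (hn : 2 ≤ Fintype.card ι) {u w : ι → F} (hu : Q u ≠ 0) (hw : Q w = Q u) :
    reflElt Q u * reflElt Q w ∈ Cfsg.Omega F ⇑Q := by
  have hmem : ([u, w].map (reflElt Q)).prod ∈ commutator ↥(Cfsg.isometryGroup F ⇑Q) := by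
    rw [prod_reflElt_mem_iff Q h2 hQ hn [u, w] (by
      intro y hy
      simp only [List.mem_cons, List.not_mem_nil, or_false] at hy
      rcases hy with rfl | rfl
      · exact hu
      · rw [hw]; exact hu)]
    refine ⟨⟨1, rfl⟩, ?_⟩
    simp only [List.map_cons, List.map_nil, List.prod_cons, List.prod_nil, mul_one]
    rw [hw]
    exact ⟨Q u, rfl⟩
  simpa only [List.map_cons, List.map_nil, List.prod_cons, List.prod_nil, mul_one] using hmem

/-- the action of the image of `r_u r_w`. -/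
theorem lbal_pgo_rr_apply (u w x : ι → F) :
    (((reflElt Q u * reflElt Q w : ↥(Cfsg.isometryGroup F ⇑Q)) : GL ι F) : Matrix ι ι F).mulVec x
      = refl Q u (refl Q w x) := by
  rw [← isomEquiv_apply, map_mul, isomEquiv_reflElt, isomEquiv_reflElt]
  rfl

/-- `(r_u r_w)² = 1` for `u ⊥ w`. -/
theorem lbal_pgo_rr_sq {u w : ι → F} (huw : QuadraticMap.polar Q u w = 0) :
    (reflElt Q u * reflElt Q w) * (reflElt Q u * reflElt Q w) = 1 := by
  have hwu : QuadraticMap.polar Q w u = 0 := by rw [QuadraticMap.polar_comm]; exact huw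
  have h1 : refl Q w * refl Q u * refl Q w = refl Q u := by
    have := refl_conj Q (refl Q w) (fun x => Q_refl Q w x) u
    rw [refl_inv, refl_of_perp Q hwu] at this
    exact this
  apply (isomEquiv Q).injective
  rw [map_mul, map_mul, isomEquiv_reflElt, isomEquiv_reflElt, map_one]
  apply Subtype.ext
  show refl Q u * refl Q w * (refl Q u * refl Q w) = 1
  calc refl Q u * refl Q w * (refl Q u * refl Q w)
      = refl Q u * (refl Q w * refl Q u * refl Q w) := by group
    _ = 1 := by rw [h1, refl_mul_self]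

/-- an element of the similarity group centralising the image of `Ω(Q)` is a scalar. -/
theorem lbal_pgo_cent (h2 : (2 : F) ≠ 0) (hQ : (QuadraticMap.polarBilin Q).Nondegenerate)
    (h4 : 4 ≤ Fintype.card ι) (g : ↥(Geo.quadSimilarityGroup (F := F) ⇑Q))
    (hg : ∀ s ∈ lbal_pgo_S Q, g * s = s * g) :
    g ∈ (Geo.scalars ι F).subgroupOf (Geo.quadSimilarityGroup (F := F) ⇑Q) := by
  have hnd := (nondeg_iff Q).mp hQ
  have hdim : 4 ≤ finrank F (ι → F) := by rw [Module.finrank_fintype_fun_eq_card]; exact h4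
  have hcomm : ∀ u w, Q u ≠ 0 → Q w = Q u → QuadraticMap.polar Q u w = 0 →
      ∀ x, glEquiv (g : GL ι F) (refl Q u (refl Q w x))
        = refl Q u (refl Q w (glEquiv (g : GL ι F) x)) := by
    intro u w hu hw _ x
    have hmem := lbal_pgo_rr_mem Q h2 hQ (by omega) hu hw
    have hc := hg (lbal_pgo_f Q ⟨_, hmem⟩) ⟨_, rfl⟩
    have hc' := congrArg (fun γ : ↥(Geo.quadSimilarityGroup (F := F) ⇑Q) =>
      (((γ : GL ι F) : Matrix ι ι F)).mulVec x) hc
    simp only [Subgroup.coe_mul, Units.val_mul, ← Matrix.mulVec_mulVec] at hc'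
    have e : ((lbal_pgo_f Q ⟨_, hmem⟩ : ↥(Geo.quadSimilarityGroup (F := F) ⇑Q)) : GL ι F)
        = ((reflElt Q u * reflElt Q w : ↥(Cfsg.isometryGroup F ⇑Q)) : GL ι F) := rfl
    rw [e, lbal_pgo_rr_apply, lbal_pgo_rr_apply] at hc'
    rw [glEquiv_apply, glEquiv_apply]
    exact hc'
  obtain ⟨a, ha⟩ := lbal_pgo_scalar_of_comm h2 Q hnd hdim (glEquiv (g : GL ι F)) hcomm
  obtain ⟨v, hv⟩ := exists_repr Q hnd (by omega) 1
  have ha0 : a ≠ 0 := by
    intro h0
    have h1 := ha v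
    rw [h0, zero_smul] at h1
    have hv0 : v = 0 := by
      have := (glEquiv (g : GL ι F)).injective (h1.trans (map_zero _).symm)
      exact this
    rw [hv0, map_zero] at hv
    exact zero_ne_one hv
  rw [Subgroup.mem_subgroupOf, Geo.mem_scalars_iff]
  refine ⟨Units.mk0 a ha0, ?_⟩
  apply matrix_ext
  intro x
  rw [← glEquiv_apply, ha x, Units.val_mk0, Matrix.smul_mulVec, Matrix.one_mulVec]

/-- **generic core**: `PGO(Q)` has no nontrivial normal subgroup of odd order (dimension at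
least five, odd characteristic). -/
theorem lbal_noCore_pgo_gen (h2 : (2 : F) ≠ 0) (hQ : (QuadraticMap.polarBilin Q).Nondegenerate)
    (h5 : 5 ≤ Fintype.card ι) : lbal_NoCore 2 (Cfsg.PGO F ⇑Q) := by
  intro N hN hNp
  have hnd := (nondeg_iff Q).mp hQ
  have hdim : 5 ≤ finrank F (ι → F) := by rw [Module.finrank_fintype_fun_eq_card]; exact h5
  have := lbal_pgo_S_normal Q
  have hperfΩ : commutator ↥(Cfsg.Omega F ⇑Q) = ⊤ :=
    lbal_perfect_of_equiv (omegaEquiv Q hQ h5) (commutator_SG_eq_top Q hnd hdim)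
  have hperf : commutator ↥(lbal_pgo_S Q) = ⊤ :=
    lbal_perfect_of_equiv (MonoidHom.ofInjective (lbal_pgo_f_injective Q)).symm hperfΩ
  have hsimple : IsSimpleGroup (↥(Cfsg.Omega F ⇑Q) ⧸ Subgroup.center ↥(Cfsg.Omega F ⇑Q)) :=
    isSimpleGroup_POmega Q hQ h5
  refine lbal_quot_noCore
    ((Geo.scalars ι F).subgroupOf (Geo.quadSimilarityGroup (F := F) ⇑Q)) (lbal_pgo_S Q) 2
    (lbal_pgo_cent Q h2 hQ (by omega)) hperf
    (fun M hM hnorm => lbal_qs_range (lbal_pgo_f Q) hsimple hperfΩ M hM hnorm) ?_ N hNp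
  -- the involution
  obtain ⟨u, hu1⟩ := exists_repr Q hnd (by omega) 1
  have hu : Q u ≠ 0 := by rw [hu1]; exact one_ne_zero
  obtain ⟨w, huw, hw⟩ := exists_perp_repr Q hnd h2 hu (by omega) (Q u)
  obtain ⟨x, hux, hwx, hx⟩ := exists_perp_perp_repr Q hnd h2 (by omega) hu (by rw [hw]; exact hu)
    huw (Q u)
  have hmem := lbal_pgo_rr_mem Q h2 hQ (by omega) hu hw
  set s : ↥(Geo.quadSimilarityGroup (F := F) ⇑Q) := lbal_pgo_f Q ⟨_, hmem⟩ with hs
  have hsS : s ∈ lbal_pgo_S Q := ⟨_, rfl⟩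
  have hss : s * s = 1 := by
    rw [hs, ← map_mul]
    have : (⟨_, hmem⟩ : ↥(Cfsg.Omega F ⇑Q)) * ⟨_, hmem⟩ = 1 := by
      apply Subtype.ext
      exact lbal_pgo_rr_sq Q huw
    rw [this, map_one]
  have hsval : ∀ y, (((s : GL ι F) : Matrix ι ι F)).mulVec y = refl Q u (refl Q w y) := by
    intro y
    have e : (s : GL ι F) = ((reflElt Q u * reflElt Q w : ↥(Cfsg.isometryGroup F ⇑Q)) : GL ι F) :=
      rfl
    rw [e, lbal_pgo_rr_apply]
  have hsZ : s ∉ (Geo.scalars ι F).subgroupOf (Geo.quadSimilarityGroup (F := F) ⇑Q) := by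
    intro hmemZ
    rw [Subgroup.mem_subgroupOf, Geo.mem_scalars_iff] at hmemZ
    obtain ⟨c, hc⟩ := hmemZ
    have hwu : QuadraticMap.polar Q w u = 0 := by rw [QuadraticMap.polar_comm]; exact huw
    have e1 := hsval u
    rw [hc, Matrix.smul_mulVec, Matrix.one_mulVec, refl_of_perp Q hwu, refl_self Q hu] at e1
    have e2 := hsval x
    rw [hc, Matrix.smul_mulVec, Matrix.one_mulVec, refl_of_perp Q hwx, refl_of_perp Q hux] at e2
    have hx0 : x ≠ 0 := by
      rintro rfl
      rw [map_zero] at hx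
      exact hu hx.symm
    have hu0 : u ≠ 0 := by
      rintro rfl
      rw [map_zero] at hu
      exact hu rfl
    have hc1 : (c : F) = 1 := by
      have : ((c : F) - 1) • x = 0 := by rw [sub_smul, one_smul, e2, sub_self]
      rcases smul_eq_zero.mp this with h | h
      · exact sub_eq_zero.mp h
      · exact absurd h hx0
    have hc2 : (c : F) = -1 := by
      have : ((c : F) + 1) • u = 0 := by rw [add_smul, one_smul, e1, neg_add_cancel]
      rcases smul_eq_zero.mp this with h | h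
      · exact eq_neg_of_add_eq_zero_left h
      · exact absurd h hu0
    apply h2
    have : (2 : F) = 1 - (-1) := by norm_num
    rw [this, ← hc2, hc1, sub_self]
  -- the image has order two
  set Z := (Geo.scalars ι F).subgroupOf (Geo.quadSimilarityGroup (F := F) ⇑Q) with hZ
  let y : ↥((lbal_pgo_S Q).map (QuotientGroup.mk' Z)) :=
    ⟨QuotientGroup.mk' Z s, ⟨s, hsS, rfl⟩⟩
  have hy1 : y ≠ 1 := by
    intro h
    have := congrArg Subtype.val h
    simp only [y, Subgroup.coe_one] at this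
    exact hsZ ((QuotientGroup.eq_one_iff s).mp this)
  have hy2 : y ^ 2 = 1 := by
    apply Subtype.ext
    simp only [y, Subgroup.coe_pow, Subgroup.coe_one]
    rw [← map_pow, pow_two, hss, map_one]
  have hord : orderOf y = 2 := orderOf_eq_prime hy2 hy1
  have hdvd : 2 ∣ Nat.card ↥((lbal_pgo_S Q).map (QuotientGroup.mk' Z)) := by
    rw [← hord]
    exact orderOf_dvd_natCard y
  intro hcop
  have := Nat.Coprime.eq_one_of_dvd hcop.symm hdvd
  omega

end Cfsg.Agent.LBal
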