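import Mathlib
import Cfsg.Agent.LBal.MG4A
import Cfsg.Agent.LBal.PGOCoreGen

set_option autoImplicit false
set_option linter.unusedSectionVars false
set_option linter.style.haveILetI false

/-!
# LBal, S2733 piece MG4, part B (helper5): products of two reflections, and the action of a
semilinear similarity on the orthogonal complement of `U`
-/

namespace Cfsg.Agent.LBal

open Module Matrix Cfsg.Agent.Helper8.QuadForm Cfsg.Agent.Helper8.WittQuad
  Cfsg.Agent.Helper8.OrthOrder
  Cfsg.Agent.Helper8.Siegel Cfsg.Agent.Helper8.SiegelGeom Cfsg.Agent.Helper8.SiegelGroup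
  Cfsg.Agent.Helper8.SiegelPrim Cfsg.Agent.Helper8.SiegelSimple Cfsg.Agent.Helper8.AutO
  Cfsg.Agent.Helper8.Reflections Cfsg.Agent.Helper8.ReflMatrix Cfsg.Agent.Helper8.OmegaSimple

section Abstract

variable {F : Type*} [Field F] {V : Type*} [AddCommGroup V] [Module F V]
  (Q : QuadraticForm F V)

/-- the `-1`-eigenvectors of a product of two reflections lie in the plane of the two vectors. -/
theorem lbal_m_g4_eigen (h2 : (2 : F) ≠ 0) (u v y : V)
    (hy : refl Q u (refl Q v y) = -y) : y ∈ Submodule.span F {u, v} := by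
  rw [refl_apply, refl_apply] at hy
  obtain ⟨a, ha⟩ : ∃ a : F, a = QuadraticMap.polar Q v y / Q v := ⟨_, rfl⟩
  obtain ⟨b, hb⟩ : ∃ b : F, b = QuadraticMap.polar Q u (y - a • v) / Q u := ⟨_, rfl⟩
  rw [← ha, ← hb] at hy
  have h1 : (2 : F) • y = b • u + a • v := by
    rw [two_smul]
    have : y + y = (y - a • v - b • u) - (-y) + (b • u + a • v) := by abel
    rw [this, hy, sub_self, zero_add]
  have h3 : y = (2 : F)⁻¹ • ((2 : F) • y) := by rw [smul_smul, inv_mul_cancel₀ h2, one_smul]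
  rw [h3, h1]
  exact Submodule.smul_mem _ _ (Submodule.add_mem _
    (Submodule.smul_mem _ _ (Submodule.subset_span (Set.mem_insert _ _)))
    (Submodule.smul_mem _ _ (Submodule.subset_span (Set.mem_insert_of_mem _ rfl))))

/-- a singular vector of a subspace which is not in the radical is a combination of two
nonsingular vectors of the subspace. -/
theorem lbal_m_g4_span_nonsing (h2 : (2 : F) ≠ 0) (W : Submodule F V) {z y : V} (hz : z ∈ W)
    (hy : y ∈ W) (hzQ : Q z = 0) (hzy : QuadraticMap.polar Q y z ≠ 0) :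
    z ∈ Submodule.span F {c | c ∈ W ∧ Q c ≠ 0} := by
  have hQ1 : ∀ t : F, Q (y + t • z) = Q y + t * QuadraticMap.polar Q y z := by
    intro t
    rw [QuadraticMap.map_add Q, QuadraticMap.map_smul, hzQ, QuadraticMap.polar_smul_right,
      smul_zero, add_zero, smul_eq_mul]
  have hmem : ∀ t : F, Q (y + t • z) ≠ 0 →
      y + t • z ∈ Submodule.span F {c | c ∈ W ∧ Q c ≠ 0} := fun t ht =>
    Submodule.subset_span ⟨W.add_mem hy (W.smul_mem t hz), ht⟩
  by_cases hyQ : Q y = 0
  · have e1 : Q (y + (1 : F) • z) ≠ 0 := by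
      rw [hQ1, hyQ, zero_add, one_mul]; exact hzy
    have e2 : Q (y + (-1 : F) • z) ≠ 0 := by
      rw [hQ1, hyQ, zero_add, neg_one_mul]; exact neg_ne_zero.mpr hzy
    have h3 : z = (2 : F)⁻¹ • ((y + (1 : F) • z) - (y + (-1 : F) • z)) := by
      have : (y + (1 : F) • z) - (y + (-1 : F) • z) = (2 : F) • z := by
        rw [two_smul, one_smul, neg_smul, one_smul]; abel
      rw [this, smul_smul, inv_mul_cancel₀ h2, one_smul]
    rw [h3]
    exact Submodule.smul_mem _ _ (Submodule.sub_mem _ (hmem 1 e1) (hmem (-1) e2))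
  · have e0 : Q (y + (0 : F) • z) ≠ 0 := by
      rw [hQ1, zero_mul, add_zero]; exact hyQ
    by_cases h1 : Q (y + (1 : F) • z) = 0
    · have e2 : Q (y + (-1 : F) • z) ≠ 0 := by
        intro h3
        rw [hQ1] at h1 h3
        apply hyQ
        have h4 : (2 : F) * Q y = 0 := by linear_combination h1 + h3
        rcases mul_eq_zero.mp h4 with h5 | h5
        · exact absurd h5 h2
        · exact h5
      have h3 : z = (y + (0 : F) • z) - (y + (-1 : F) • z) := by
        rw [zero_smul, neg_smul, one_smul]; abel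
      rw [h3]
      exact Submodule.sub_mem _ (hmem 0 e0) (hmem (-1) e2)
    · have h3 : z = (y + (1 : F) • z) - (y + (0 : F) • z) := by
        rw [zero_smul, one_smul]; abel
      rw [h3]
      exact Submodule.sub_mem _ (hmem 1 h1) (hmem 0 e0)

end Abstract

section Mat

variable {F : Type*} [Field F] [Fintype F] {ι : Type} [Fintype ι] [DecidableEq ι]
  (Q : QuadraticForm F (ι → F))

/-- the product of the reflections in two vectors of the same norm, in the Siegel group. -/
noncomputable def lbal_m_g4_rr (h2 : (2 : F) ≠ 0)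
    (hQ : (QuadraticMap.polarBilin Q).Nondegenerate) (h5 : 5 ≤ Fintype.card ι)
    {u v : ι → F} (hu : Q u ≠ 0) (hv : Q v = Q u) : ↥(SG Q) :=
  omegaEquiv Q hQ h5 ⟨reflElt Q u * reflElt Q v, lbal_pgo_rr_mem Q h2 hQ (by omega) hu hv⟩

theorem lbal_m_g4_ap_rr (h2 : (2 : F) ≠ 0)
    (hQ : (QuadraticMap.polarBilin Q).Nondegenerate) (h5 : 5 ≤ Fintype.card ι)
    {u v : ι → F} (hu : Q u ≠ 0) (hv : Q v = Q u) (x : ι → F) :
    ap (lbal_m_g4_rr Q h2 hQ h5 hu hv) x = refl Q u (refl Q v x) := by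
  unfold lbal_m_g4_rr
  rw [ap_omegaEquiv]
  exact lbal_pgo_rr_apply Q u v x

/-- a linear similarity `δ` which is the scalar `l` on `U` and commutes with `r_u r_v`, for `u`
orthogonal to `U` and `v ∈ U` of the same norm, maps `u` to `± l u`. -/
theorem lbal_m_g4_perp (h2 : (2 : F) ≠ 0)
    (hQ : (QuadraticMap.polarBilin Q).Nondegenerate) (h5 : 5 ≤ Fintype.card ι)
    (U : Submodule F (ι → F)) (δ : ↥(GammaO Q)) {lam : F}
    (hδ : SemiSim Q (gap δ) (1 : F ≃+* F) lam) {l : F} (hl0 : l ≠ 0)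
    (hl : ∀ x ∈ U, gap δ x = l • x)
    {u v : ι → F} (hu : Q u ≠ 0) (hv : Q v = Q u)
    (huU : ∀ w ∈ U, QuadraticMap.polar Q u w = 0) (hvU : v ∈ U)
    (hcomm : ∀ x, ap (lbal_m_g4_rr Q h2 hQ h5 hu hv) (gap δ x)
      = gap δ (ap (lbal_m_g4_rr Q h2 hQ h5 hu hv) x)) :
    ∃ a : F, a * a = l * l ∧ gap δ u = a • u := by
  have huv : QuadraticMap.polar Q u v = 0 := huU v hvU
  have hvu : QuadraticMap.polar Q v u = 0 := by rw [QuadraticMap.polar_comm]; exact huv
  have hvQ : Q v ≠ 0 := by rw [hv]; exact hu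
  have h1 : ap (lbal_m_g4_rr Q h2 hQ h5 hu hv) u = -u := by
    rw [lbal_m_g4_ap_rr, refl_of_perp Q hvu, refl_self Q hu]
  have h3 : ap (lbal_m_g4_rr Q h2 hQ h5 hu hv) (gap δ u) = -gap δ u := by
    rw [hcomm, h1, hδ.map_neg]
  rw [lbal_m_g4_ap_rr] at h3
  obtain ⟨a, b, hab⟩ := Submodule.mem_span_pair.mp (lbal_m_g4_eigen Q h2 u v _ h3)
  -- `b = 0`
  have h4 : QuadraticMap.polar Q (gap δ u) (gap δ v) = 0 := by
    rw [hδ.polar, huv, _root_.map_zero, mul_zero]
  rw [hl v hvU, QuadraticMap.polar_smul_right, smul_eq_mul] at h4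
  have h5' : QuadraticMap.polar Q (gap δ u) v = 0 := by
    rcases mul_eq_zero.mp h4 with h | h
    · exact absurd h hl0
    · exact h
  rw [← hab, QuadraticMap.polar_add_left, QuadraticMap.polar_smul_left,
    QuadraticMap.polar_smul_left, huv, polar_self', smul_zero, zero_add, smul_eq_mul] at h5'
  have hb : b = 0 := by
    rcases mul_eq_zero.mp h5' with h | h
    · exact h
    · exfalso
      rcases mul_eq_zero.mp h with h' | h'
      · exact h2 h'
      · exact hvQ h'
  rw [hb, zero_smul, add_zero] at hab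
  -- the multiplier
  have hlam : lam = l * l := by
    have h6 := hδ.map_Q v
    rw [hl v hvU, QuadraticMap.map_smul, RingAut.one_apply, smul_eq_mul] at h6
    exact (mul_right_cancel₀ hvQ h6).symm
  refine ⟨a, ?_, hab.symm⟩
  have h7 := hδ.map_Q u
  rw [← hab, QuadraticMap.map_smul, RingAut.one_apply, smul_eq_mul, hlam] at h7
  exact mul_right_cancel₀ hu h7

/-- under the conclusion of `lbal_m_g4_perp`, the square of `δ` is a scalar. -/
theorem lbal_m_g4_sq_scalar (h2 : (2 : F) ≠ 0) (hQ : Nondeg Q)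
    (U : Submodule F (ι → F))
    (hdec : ∀ x : ι → F, ∃ y ∈ U, ∃ z : ι → F,
      (∀ w ∈ U, QuadraticMap.polar Q z w = 0) ∧ x = y + z)
    (δ : ↥(GammaO Q)) {lam : F}
    (hδ : SemiSim Q (gap δ) (1 : F ≃+* F) lam) {l : F}
    (hl : ∀ x ∈ U, gap δ x = l • x)
    (hperp : ∀ u : ι → F, Q u ≠ 0 → (∀ w ∈ U, QuadraticMap.polar Q u w = 0) →
      ∃ a : F, a * a = l * l ∧ gap δ u = a • u) (x : ι → F) :
    gap (δ * δ) x = (l * l) • x := by
  obtain ⟨L, hL⟩ : ∃ L : (ι → F) →ₗ[F] (ι → F), ∀ x, L x = gap δ x :=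
    ⟨{ toFun := gap δ
       map_add' := hδ.add
       map_smul' := fun c x => by rw [hδ.smul, RingAut.one_apply]; rfl }, fun x => rfl⟩
  obtain ⟨S, hS⟩ : ∃ S : Submodule F (ι → F), S = LinearMap.eqLocus (L ∘ₗ L)
      ((l * l) • (LinearMap.id : (ι → F) →ₗ[F] (ι → F))) := ⟨_, rfl⟩
  have hmemS : ∀ x, x ∈ S ↔ gap δ (gap δ x) = (l * l) • x := by
    intro x
    rw [hS, LinearMap.mem_eqLocus, LinearMap.comp_apply, hL, hL, LinearMap.smul_apply,
      LinearMap.id_apply]
  obtain ⟨W, hW⟩ : ∃ W : Submodule F (ι → F),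
      ∀ z, z ∈ W ↔ ∀ w ∈ U, QuadraticMap.polar Q z w = 0 := by
    refine ⟨{ carrier := {z | ∀ w ∈ U, QuadraticMap.polar Q z w = 0}
              add_mem' := ?_
              zero_mem' := ?_
              smul_mem' := ?_ }, fun z => Iff.rfl⟩
    · intro a b ha hb w hw
      rw [QuadraticMap.polar_add_left, ha w hw, hb w hw, add_zero]
    · intro w _
      exact QuadraticMap.polar_zero_left Q w
    · intro c a ha w hw
      rw [QuadraticMap.polar_smul_left, ha w hw, smul_zero]
  have hUS : U ≤ S := by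
    intro y hy
    rw [hmemS, hl y hy, hδ.smul, RingAut.one_apply, hl y hy, smul_smul]
  have hNS : ∀ u : ι → F, Q u ≠ 0 → u ∈ W → u ∈ S := by
    intro u hu huW
    obtain ⟨a, ha, hau⟩ := hperp u hu ((hW u).mp huW)
    rw [hmemS, hau, hδ.smul, RingAut.one_apply, hau, smul_smul, ha]
  have hWS : W ≤ S := by
    intro z hz
    by_cases hzQ : Q z = 0
    swap
    · exact hNS z hzQ hz
    by_cases hz0 : z = 0
    · rw [hz0]; exact S.zero_mem
    have hex : ∃ y', QuadraticMap.polar Q z y' ≠ 0 := by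
      by_contra h
      push Not at h
      exact hz0 (hQ z h)
    obtain ⟨y', hy'⟩ := hex
    obtain ⟨y₁, hy₁, y₂, hy₂, hdec'⟩ := hdec y'
    have hy₂W : y₂ ∈ W := (hW y₂).mpr hy₂
    have hne : QuadraticMap.polar Q y₂ z ≠ 0 := by
      rw [hdec', QuadraticMap.polar_add_right, (hW z).mp hz y₁ hy₁, zero_add] at hy'
      rw [QuadraticMap.polar_comm]
      exact hy'
    have hspan := lbal_m_g4_span_nonsing Q h2 W hz hy₂W hzQ hne
    have hle : Submodule.span F {c | c ∈ W ∧ Q c ≠ 0} ≤ S := by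
      rw [Submodule.span_le]
      rintro c ⟨hcW, hc⟩
      exact hNS c hc hcW
    exact hle hspan
  obtain ⟨y, hy, z, hz, rfl⟩ := hdec x
  rw [gap_mul, ← hmemS]
  exact S.add_mem (hUS hy) (hWS ((hW z).mpr hz))

end Mat

end Cfsg.Agent.LBal
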