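import Mathlib
import Cfsg.Agent.LBal.MG4B
import Cfsg.Agent.Helper8.AutImageIdx

set_option autoImplicit false
set_option linter.unusedSectionVars false
set_option linter.style.haveILetI false

/-!
# LBal, S2733 piece MG4 (helper5): hypothesis (h4) for the class `(G_k)` of graph involutions of
`PΩ(Q)`, even dimension

`Q` is a quadratic form with nondegenerate polar form on `ι → F`, `|ι| ≥ 7`, `F` finite of odd
characteristic; `g` is an involutive isometry whose fixed space `U` has dimension at least five.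
An automorphism `α` of `PΩ(Q)` of odd order which fixes every fixed point of `PhiO g` is trivial
(`lbal_m_g4`).  The version `lbal_m_g4_core` only uses an orthogonal decomposition
`V = U + U^⊥` and the two families of fixed points which are needed: the classes of the Siegel
transformations of `U`, and of the products `r_u r_v`, `u ⊥ U`, `v ∈ U`, `Q u = Q v ≠ 0`.
-/

namespace Cfsg.Agent.LBal

open Module Matrix Cfsg.Agent.Helper8.QuadForm Cfsg.Agent.Helper8.WittQuad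
  Cfsg.Agent.Helper8.OrthOrder
  Cfsg.Agent.Helper8.Siegel Cfsg.Agent.Helper8.SiegelGeom Cfsg.Agent.Helper8.SiegelGroup
  Cfsg.Agent.Helper8.SiegelPrim Cfsg.Agent.Helper8.SiegelSimple Cfsg.Agent.Helper8.AutO
  Cfsg.Agent.Helper8.Reflections Cfsg.Agent.Helper8.ReflMatrix Cfsg.Agent.Helper8.OmegaSimple
  Cfsg.Agent.Helper8.AutImageOrth Cfsg.Agent.Helper8.AutImageIdx Cfsg.Agent.Helper8.AutImagePsi
  Cfsg.Agent.Helper8.AutImage

variable {F : Type*} [Field F] [Fintype F] {ι : Type} [Fintype ι] [DecidableEq ι]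
  (Q : QuadraticForm F (ι → F))

/-- a nondegenerate subspace of dimension at least three represents every scalar. -/
theorem lbal_m_g4_universal (U : Submodule F (ι → F)) (hU : NondegOn Q U)
    (hU3 : 3 ≤ finrank F ↥U) (c : F) : ∃ v ∈ U, Q v = c := by
  have hQU : Nondeg (Q.comp U.subtype) := (nondeg_comp_subtype_iff Q U).mpr hU
  obtain ⟨e, he0, he⟩ := exists_singular (Q.comp U.subtype) hU3
  obtain ⟨f, hf, hef⟩ := exists_hyperbolic_pair (Q.comp U.subtype) hQU he0 he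
  have he' : Q (e : ι → F) = 0 := he
  have hf' : Q (f : ι → F) = 0 := hf
  have hef' : QuadraticMap.polar Q (e : ι → F) (f : ι → F) = 1 := hef
  refine ⟨(e : ι → F) + c • (f : ι → F), U.add_mem e.2 (U.smul_mem c f.2), ?_⟩
  rw [QuadraticMap.map_add Q, QuadraticMap.map_smul, he', hf', QuadraticMap.polar_smul_right, hef']
  simp

/-- **the statement for the projective Siegel group**: the fourth power of `γ` acts trivially. -/
theorem lbal_m_g4_psi (h2 : (2 : F) ≠ 0) (hQ : (QuadraticMap.polarBilin Q).Nondegenerate)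
    (h5 : 5 ≤ Fintype.card ι) (U : Submodule F (ι → F))
    (hdec : ∀ x : ι → F, ∃ y ∈ U, ∃ z : ι → F,
      (∀ w ∈ U, QuadraticMap.polar Q z w = 0) ∧ x = y + z)
    (hU5 : 5 ≤ finrank F ↥U) (γ : ↥(GammaO Q))
    (hL2 : ∀ u w, u ∈ U → w ∈ U → Q u = 0 → QuadraticMap.polar Q u w = 0 →
      Psi γ (pr (sgT Q u w)) = pr (sgT Q u w))
    (hL12 : ∀ (u v : ι → F) (hu : Q u ≠ 0) (hv : Q v = Q u),
      (∀ w ∈ U, QuadraticMap.polar Q u w = 0) → v ∈ U →
      Psi γ (pr (lbal_m_g4_rr Q h2 hQ h5 hu hv)) = pr (lbal_m_g4_rr Q h2 hQ h5 hu hv)) :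
    Psi (γ * γ * (γ * γ)) = 1 := by
  have hnd : Nondeg Q := (nondeg_iff Q).mp hQ
  have hdim : finrank F (ι → F) = Fintype.card ι := Module.finrank_fintype_fun_eq_card F
  have h5' : 5 ≤ finrank F (ι → F) := by rw [hdim]; exact h5
  have hUnd : NondegOn Q U := by
    intro y hy hyy
    apply hnd
    intro x
    obtain ⟨y₁, hy₁, z, hz, rfl⟩ := hdec x
    rw [QuadraticMap.polar_add_right, hyy y₁ hy₁, QuadraticMap.polar_comm, hz y hy, add_zero]
  have hγ : ∀ u w, u ∈ U → w ∈ U → Q u = 0 → QuadraticMap.polar Q u w = 0 →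
      conjS γ (sgT Q u w) = sgT Q u w := fun u w huU hwU hu huw =>
    lbal_m_g4_sgT_exact hnd h5' γ huw (hL2 u w huU hwU hu huw)
  have hpt : ∀ u, u ∈ U → u ≠ 0 → Q u = 0 → gap γ u ∈ Submodule.span F {u} :=
    fun u huU hu0 hu => lbal_m_g4_sing_fix hnd U hUnd hU5 γ hγ huU hu0 hu
  have hσ := lbal_m_g4_sigma_eq U hUnd hU5 γ hpt
  obtain ⟨l, hl0, hl⟩ := lbal_m_g4_scalar U hUnd hU5 γ hpt
  have hσ1 : sigmaOf γ = 1 := RingEquiv.ext hσ
  have hg1 : SemiSim Q (gap γ) (1 : F ≃+* F) (lamOf γ) := by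
    have := semiSim_gap γ
    rw [hσ1] at this
    exact this
  have hδ : SemiSim Q (gap (γ * γ)) (1 : F ≃+* F) (lamOf γ * lamOf γ) := by
    have := hg1.comp hg1
    rw [one_mul, RingAut.one_apply] at this
    exact this
  have hlδ : ∀ x ∈ U, gap (γ * γ) x = (l * l) • x := by
    intro x hx
    rw [gap_mul, hl x hx, hg1.smul, RingAut.one_apply, hl x hx, smul_smul]
  have hll0 : l * l ≠ 0 := mul_ne_zero hl0 hl0
  have hperp : ∀ u : ι → F, Q u ≠ 0 → (∀ w ∈ U, QuadraticMap.polar Q u w = 0) →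
      ∃ a : F, a * a = (l * l) * (l * l) ∧ gap (γ * γ) u = a • u := by
    intro u hu huU
    obtain ⟨v, hvU, hv⟩ := lbal_m_g4_universal Q U hUnd (by omega) (Q u)
    exact lbal_m_g4_perp Q h2 hQ h5 U (γ * γ) hδ hll0 hlδ hu hv huU hvU
      (fun x => lbal_m_g4_exact_ap hnd h5' γ (hL12 u v hu hv huU hvU) x)
  have hsq := lbal_m_g4_sq_scalar Q h2 hnd U hdec (γ * γ) hδ hlδ hperp
  have h4 : γ * γ * (γ * γ) = scalarGamma (Units.mk0 (l * l * (l * l)) (mul_ne_zero hll0 hll0)) := by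
    apply ext_gap
    intro x
    rw [hsq x, gap_scalarGamma, Units.val_mk0]
  have h6 : γ * γ * (γ * γ) ∈ (Psi (Q := Q)).ker := by
    rw [h4]
    exact scalarGamma_le_ker ⟨_, rfl⟩
  exact h6

theorem lbal_m_g4_pow_fix {G : Type*} [Group G] (α : MulAut G) (x : G) (h : α x = x) (k : ℕ) :
    (α ^ k) x = x := by
  induction k with
  | zero => rfl
  | succ k ih => rw [pow_succ, MulAut.mul_apply, h, ih]

/-- **(h4) for the class `(G_k)`, core version.** -/
theorem lbal_m_g4_core (h2 : (2 : F) ≠ 0) (hQ : (QuadraticMap.polarBilin Q).Nondegenerate)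
    (h7 : 7 ≤ Fintype.card ι) (h5 : 5 ≤ Fintype.card ι) (hB2 : 9 ≤ Fintype.card ι ∨ NoB2 Q)
    (U : Submodule F (ι → F))
    (hdec : ∀ x : ι → F, ∃ y ∈ U, ∃ z : ι → F,
      (∀ w ∈ U, QuadraticMap.polar Q z w = 0) ∧ x = y + z)
    (hU5 : 5 ≤ finrank F ↥U) (α : MulAut (Cfsg.POmega F ⇑Q))
    (hodd : (orderOf α).Coprime 2)
    (hL2 : ∀ u w, u ∈ U → w ∈ U → Q u = 0 → QuadraticMap.polar Q u w = 0 →
      α ((EPG Q hQ h5).symm (pr (sgT Q u w))) = (EPG Q hQ h5).symm (pr (sgT Q u w)))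
    (hL12 : ∀ (u v : ι → F) (hu : Q u ≠ 0) (hv : Q v = Q u),
      (∀ w ∈ U, QuadraticMap.polar Q u w = 0) → v ∈ U →
      α ((EPG Q hQ h5).symm (pr (lbal_m_g4_rr Q h2 hQ h5 hu hv)))
        = (EPG Q hQ h5).symm (pr (lbal_m_g4_rr Q h2 hQ h5 hu hv))) :
    α = 1 := by
  obtain ⟨pc, hpc, hc⟩ := exists_char F
  have hnd : Nondeg Q := (nondeg_iff Q).mp hQ
  have hdim : finrank F (ι → F) = Fintype.card ι := Module.finrank_fintype_fun_eq_card F
  have hsurj : Function.Surjective (Psi (Q := Q)) :=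
    Psi_surjective hnd (by rw [hdim]; exact h7) pc (by rw [hdim]; exact hB2)
  have hodd' : Odd (orderOf α) := Nat.coprime_two_right.mp hodd
  obtain ⟨k, hk⟩ := hodd'
  obtain ⟨β, hβ⟩ : ∃ β, β = α ^ (k + 1) := ⟨_, rfl⟩
  have hββ : β * β = α := by
    rw [hβ, ← pow_add]
    have : k + 1 + (k + 1) = orderOf α + 1 := by omega
    rw [this, pow_succ, pow_orderOf_eq_one, one_mul]
  obtain ⟨γ, hγ⟩ := PsiM_surjective Q hQ h5 hsurj β
  have htr : ∀ s : ↥(SG Q), α ((EPG Q hQ h5).symm (pr s)) = (EPG Q hQ h5).symm (pr s) →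
      Psi γ (pr s) = pr s := by
    intro s hs
    have h1 : β ((EPG Q hQ h5).symm (pr s)) = (EPG Q hQ h5).symm (pr s) := by
      rw [hβ]
      exact lbal_m_g4_pow_fix α _ hs _
    rw [← hγ, PsiM_apply, MulEquiv.apply_symm_apply] at h1
    exact (EPG Q hQ h5).symm.injective h1
  have h4 := lbal_m_g4_psi Q h2 hQ h5 U hdec hU5 γ
    (fun u w huU hwU hu huw => htr _ (hL2 u w huU hwU hu huw))
    (fun u v hu hv huU hvU => htr _ (hL12 u v hu hv huU hvU))
  have h6 : α * α = 1 := by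
    rw [← hββ, ← hγ, ← map_mul, ← map_mul]
    have h8 : γ * γ * (γ * γ) ∈ (PsiM Q hQ h5).ker := by
      rw [ker_PsiM]
      exact h4
    exact h8
  have h9 : orderOf α ∣ 2 := orderOf_dvd_of_pow_eq_one (by rw [pow_two]; exact h6)
  have h10 : orderOf α = 1 := hodd.eq_one_of_dvd h9
  exact orderOf_eq_one_iff.mp h10

/-- an element of the Siegel group commuting with the isometry `g` gives a fixed point of
`PhiO g`. -/
theorem lbal_m_g4_PhiO_fix (hQ : (QuadraticMap.polarBilin Q).Nondegenerate)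
    (h5 : 5 ≤ Fintype.card ι) (g : ↥(Cfsg.isometryGroup F ⇑Q)) (s : ↥(SG Q))
    (hs : ∀ x, ap s (((g : GL ι F) : Matrix ι ι F) *ᵥ x)
      = ((g : GL ι F) : Matrix ι ι F) *ᵥ ap s x) :
    PhiO ⇑Q g ((EPG Q hQ h5).symm (pr s)) = (EPG Q hQ h5).symm (pr s) := by
  have h1 : PhiO ⇑Q g
      = PsiM Q hQ h5 (simGamma Q (Subgroup.inclusion (isometry_le_similarity ⇑Q) g)) := by
    rw [PsiM_simGamma]
    rfl
  rw [h1, PsiM_apply, MulEquiv.apply_symm_apply, Psi_pr]
  congr 2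
  apply ext_ap
  intro x
  obtain ⟨y, rfl⟩ : ∃ y, gap (simGamma Q (Subgroup.inclusion (isometry_le_similarity ⇑Q) g)) y
      = x := ⟨gap (simGamma Q (Subgroup.inclusion (isometry_le_similarity ⇑Q) g))⁻¹ x,
    gap_gap_inv _ x⟩
  rw [ap_conjS_gap, gap_simGamma]
  exact (hs y).symm

/-- a matrix preserving the polar form and mapping `u` to `± u` commutes with the reflection
in `u`. -/
theorem lbal_m_g4_refl_comm (M : Matrix ι ι F)
    (hMp : ∀ x y, QuadraticMap.polar Q (M *ᵥ x) (M *ᵥ y) = QuadraticMap.polar Q x y)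
    {u : ι → F} {ε : F} (hε : ε * ε = 1) (hMu : M *ᵥ u = ε • u) (x : ι → F) :
    M *ᵥ (refl Q u x) = refl Q u (M *ᵥ x) := by
  have h1 : QuadraticMap.polar Q u (M *ᵥ x) = ε * QuadraticMap.polar Q u x := by
    have h3 : M *ᵥ (ε • u) = u := by rw [mulVec_smul, hMu, smul_smul, hε, one_smul]
    have h4 := hMp (ε • u) x
    rw [h3, QuadraticMap.polar_smul_left, smul_eq_mul] at h4
    exact h4
  rw [refl_apply, refl_apply, mulVec_sub, mulVec_smul, hMu, h1, smul_smul]
  congr 2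
  ring

/-- **(h4) for the class `(G_k)`**: `g` an involutive isometry whose fixed space `U` has
dimension at least five; an automorphism of odd order fixing the fixed points of `PhiO g` is
trivial. -/
theorem lbal_m_g4 (h2 : (2 : F) ≠ 0) (hQ : (QuadraticMap.polarBilin Q).Nondegenerate)
    (h7 : 7 ≤ Fintype.card ι) (hB2 : 9 ≤ Fintype.card ι ∨ NoB2 Q)
    (g : ↥(Cfsg.isometryGroup F ⇑Q)) (hg : g * g = 1)
    (U : Submodule F (ι → F))
    (hU : ∀ x, x ∈ U ↔ ((g : GL ι F) : Matrix ι ι F) *ᵥ x = x)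
    (hU5 : 5 ≤ finrank F ↥U) (α : MulAut (Cfsg.POmega F ⇑Q))
    (hodd : (orderOf α).Coprime 2)
    (hα : ∀ k, PhiO ⇑Q g k = k → α k = k) : α = 1 := by
  have h5 : 5 ≤ Fintype.card ι := by omega
  have hnd : Nondeg Q := (nondeg_iff Q).mp hQ
  obtain ⟨M, hM⟩ : ∃ M : Matrix ι ι F, M = ((g : GL ι F) : Matrix ι ι F) := ⟨_, rfl⟩
  rw [← hM] at hU
  have hMM : ∀ x, M *ᵥ (M *ᵥ x) = x := by
    intro x
    have h1 : M * M = 1 := by
      rw [hM, ← Units.val_mul, ← Subgroup.coe_mul, hg, Subgroup.coe_one, Units.val_one]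
    rw [mulVec_mulVec, h1, one_mulVec]
  have hiso := (mem_isometryGroup_iff Q g.1).mp g.2
  have hMp : ∀ x y, QuadraticMap.polar Q (M *ᵥ x) (M *ᵥ y) = QuadraticMap.polar Q x y := by
    intro x y
    rw [hM]
    exact polar_isometry Q (glEquiv g.1) hiso x y
  have hdec : ∀ x : ι → F, ∃ y ∈ U, ∃ z : ι → F,
      (∀ w ∈ U, QuadraticMap.polar Q z w = 0) ∧ x = y + z := by
    intro x
    refine ⟨(2 : F)⁻¹ • (x + M *ᵥ x), ?_, (2 : F)⁻¹ • (x - M *ᵥ x), ?_, ?_⟩
    · rw [hU, mulVec_smul, mulVec_add, hMM, add_comm]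
    · intro w hw
      have hz : M *ᵥ ((2 : F)⁻¹ • (x - M *ᵥ x)) = -((2 : F)⁻¹ • (x - M *ᵥ x)) := by
        rw [mulVec_smul, mulVec_sub, hMM, ← smul_neg, neg_sub]
      have h1 := hMp ((2 : F)⁻¹ • (x - M *ᵥ x)) w
      rw [hz, (hU w).mp hw, QuadraticMap.polar_neg_left] at h1
      have h3 : (2 : F) * QuadraticMap.polar Q ((2 : F)⁻¹ • (x - M *ᵥ x)) w = 0 := by
        linear_combination -h1
      rcases mul_eq_zero.mp h3 with h | h
      · exact absurd h h2
      · exact h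
    · rw [← smul_add]
      have : x + M *ᵥ x + (x - M *ᵥ x) = (2 : F) • x := by rw [two_smul]; abel
      rw [this, smul_smul, inv_mul_cancel₀ h2, one_smul]
  have hperpM : ∀ u : ι → F, (∀ w ∈ U, QuadraticMap.polar Q u w = 0) →
      M *ᵥ u = (-1 : F) • u := by
    intro u huU
    have hmem : u + M *ᵥ u ∈ U := by rw [hU, mulVec_add, hMM, add_comm]
    have hperp : ∀ w ∈ U, QuadraticMap.polar Q (u + M *ᵥ u) w = 0 := by
      intro w hw
      have h1 := hMp u w
      rw [(hU w).mp hw] at h1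
      rw [QuadraticMap.polar_add_left, h1, huU w hw, add_zero]
    have h0 : u + M *ᵥ u = 0 := by
      apply hnd
      intro x
      obtain ⟨y, hy, z, hz, rfl⟩ := hdec x
      rw [QuadraticMap.polar_add_right, hperp y hy, QuadraticMap.polar_comm, hz _ hmem, add_zero]
    rw [neg_smul, one_smul]
    exact (eq_neg_of_add_eq_zero_right h0)
  apply lbal_m_g4_core Q h2 hQ h7 h5 hB2 U hdec hU5 α hodd
  · intro u w huU hwU hu huw
    apply hα
    apply lbal_m_g4_PhiO_fix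
    intro x
    rw [← hM, ap_sgT hu huw, ap_sgT hu huw]
    have e1 : QuadraticMap.polar Q (M *ᵥ x) w = QuadraticMap.polar Q x w := by
      have := hMp x w
      rwa [(hU w).mp hwU] at this
    have e2 : QuadraticMap.polar Q (M *ᵥ x) u = QuadraticMap.polar Q x u := by
      have := hMp x u
      rwa [(hU u).mp huU] at this
    rw [e1, e2, mulVec_sub, mulVec_sub, mulVec_add, mulVec_smul, mulVec_smul, mulVec_smul,
      (hU u).mp huU, (hU w).mp hwU]
  · intro u v hu hv huU hvU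
    apply hα
    apply lbal_m_g4_PhiO_fix
    intro x
    rw [← hM, lbal_m_g4_ap_rr, lbal_m_g4_ap_rr]
    have hMv : M *ᵥ v = (1 : F) • v := by rw [one_smul]; exact (hU v).mp hvU
    rw [lbal_m_g4_refl_comm Q M hMp (by ring : (-1 : F) * -1 = 1) (hperpM u huU),
      lbal_m_g4_refl_comm Q M hMp (by ring : (1 : F) * 1 = 1) hMv]

end Cfsg.Agent.LBal
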