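import Mathlib
import Cfsg.Agent.Helper8.OrthOrder

set_option autoImplicit false

/-!
# LBal (S2733), piece MQ0: the quadratic extension attached to a self-adjoint operator (helper4)

Let `Q` be a quadratic form on an `F`-space `V` (`2 ≠ 0` in `F`) and `g : V →ₗ[F] V` a self-adjoint
operator with `g ∘ g = lam` (in the application `lam` is a nonsquare).  Then `V` is a module over
`K' = QuadraticAlgebra F lam 0 = F(√lam)` (`√lam` acting as `g`), and
`Q'(v) = Q(v) + √lam · B(g v, v) / (2 lam)` is a `K'`-quadratic form on it with `re ∘ Q' = Q`.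

* `lbal_mq_V lam g hsq` : the type synonym of `V` carrying the `K'`-module structure;
* `lbal_mq_Q'` : the `K'`-quadratic form, `lbal_mq_Q'_re : (Q' v).re = Q v`;
* `lbal_mq_nondeg`, `lbal_mq_finrank`;
* `lbal_mq_res` : `Isom Q' →* Isom Q` (injective, image commutes with `g`), `lbal_mq_lift`;
* `lbal_mq_scalar_sq` : a `K'`-scalar that is an `F`-similarity of `Q` has its square in `F`.
-/

namespace Cfsg.Agent.LBal

open Module Cfsg.Agent.Helper8.QuadForm Cfsg.Agent.Helper8.OrthOrder

universe u v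

variable {F : Type u} [Field F] {V : Type v} [AddCommGroup V] [Module F V]

/-- the field `F(√lam)` (a field when `lam` is not a square). -/
abbrev lbal_mq_K (lam : F) : Type u := QuadraticAlgebra F lam 0

/-- `V` as a vector space over `F(√lam)`, `√lam` acting as `g`. -/
def lbal_mq_V (lam : F) (g : V →ₗ[F] V) (_hsq : ∀ v, g (g v) = lam • v) : Type v := V

section Synonym

variable (lam : F) (g : V →ₗ[F] V) (hsq : ∀ v, g (g v) = lam • v)

/-- the module structure over `F(√lam)` on `V` itself (not an instance). -/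
@[reducible] def lbal_mq_moduleV : Module (lbal_mq_K lam) V where
  smul z v := z.re • v + z.im • g v
  one_smul v := by
    show (1 : lbal_mq_K lam).re • v + (1 : lbal_mq_K lam).im • g v = v
    rw [QuadraticAlgebra.re_one, QuadraticAlgebra.im_one, one_smul, zero_smul, add_zero]
  mul_smul z w v := by
    show (z * w).re • v + (z * w).im • g v =
      z.re • (w.re • v + w.im • g v) + z.im • g (w.re • v + w.im • g v)
    rw [map_add, map_smul, map_smul, hsq, QuadraticAlgebra.re_mul, QuadraticAlgebra.im_mul]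
    module
  smul_zero z := by
    show z.re • (0 : V) + z.im • g 0 = 0
    rw [map_zero, smul_zero, smul_zero, add_zero]
  smul_add z v w := by
    show z.re • (v + w) + z.im • g (v + w) = (z.re • v + z.im • g v) + (z.re • w + z.im • g w)
    rw [map_add]
    module
  add_smul z w v := by
    show (z + w).re • v + (z + w).im • g v = (z.re • v + z.im • g v) + (w.re • v + w.im • g v)
    rw [QuadraticAlgebra.re_add, QuadraticAlgebra.im_add]
    module
  zero_smul v := by
    show (0 : lbal_mq_K lam).re • v + (0 : lbal_mq_K lam).im • g v = 0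
    rw [QuadraticAlgebra.re_zero, QuadraticAlgebra.im_zero, zero_smul, zero_smul, add_zero]

instance lbal_mq_instAddCommGroup : AddCommGroup (lbal_mq_V lam g hsq) :=
  inferInstanceAs (AddCommGroup V)

instance lbal_mq_instModuleF : Module F (lbal_mq_V lam g hsq) :=
  inferInstanceAs (Module F V)

instance lbal_mq_instModuleK : Module (lbal_mq_K lam) (lbal_mq_V lam g hsq) :=
  lbal_mq_moduleV lam g hsq

/-- the identity, as an `F`-linear equivalence onto the synonym. -/
def lbal_mq_of : V ≃ₗ[F] lbal_mq_V lam g hsq := LinearEquiv.refl F V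

theorem lbal_mq_smul_def (z : lbal_mq_K lam) (v : V) :
    z • lbal_mq_of lam g hsq v = lbal_mq_of lam g hsq (z.re • v + z.im • g v) := rfl

instance lbal_mq_instTower : IsScalarTower F (lbal_mq_K lam) (lbal_mq_V lam g hsq) where
  smul_assoc a z v := by
    obtain ⟨v, rfl⟩ := (lbal_mq_of lam g hsq).surjective v
    rw [lbal_mq_smul_def, lbal_mq_smul_def]
    show lbal_mq_of lam g hsq ((a • z.re) • v + (a • z.im) • g v) =
      lbal_mq_of lam g hsq (a • (z.re • v + z.im • g v))
    refine congrArg (lbal_mq_of lam g hsq) ?_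
    module

end Synonym

section Form

variable (lam : F) (g : V →ₗ[F] V) (hsq : ∀ v, g (g v) = lam • v) (Q : QuadraticForm F V)

theorem lbal_mq_symm_smul (z : lbal_mq_K lam) (v : lbal_mq_V lam g hsq) :
    (lbal_mq_of lam g hsq).symm (z • v) = z.re • (lbal_mq_of lam g hsq).symm v +
      z.im • g ((lbal_mq_of lam g hsq).symm v) := rfl

theorem lbal_mq_symm_add (v w : lbal_mq_V lam g hsq) :
    (lbal_mq_of lam g hsq).symm (v + w) = (lbal_mq_of lam g hsq).symm v +
      (lbal_mq_of lam g hsq).symm w := rfl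

variable (hadj : ∀ x y, QuadraticMap.polar Q (g x) y = QuadraticMap.polar Q x (g y))
  (hlam : lam ≠ 0)

include hsq hadj in
theorem lbal_mq_polar_gg (x y : V) :
    QuadraticMap.polar Q (g x) (g y) = lam * QuadraticMap.polar Q x y := by
  rw [hadj, hsq, QuadraticMap.polar_smul_right, smul_eq_mul]

/-- the `K'`-valued bilinear form `B'(u,v) = B(u,v) + √lam · B(g u, v) / lam`. -/
noncomputable def lbal_mq_B' :
    LinearMap.BilinMap (lbal_mq_K lam) (lbal_mq_V lam g hsq) (lbal_mq_K lam) :=
  LinearMap.mk₂ (lbal_mq_K lam)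
    (fun u v => (⟨QuadraticMap.polar Q ((lbal_mq_of lam g hsq).symm u)
        ((lbal_mq_of lam g hsq).symm v),
      QuadraticMap.polar Q (g ((lbal_mq_of lam g hsq).symm u))
        ((lbal_mq_of lam g hsq).symm v) / lam⟩ : lbal_mq_K lam))
    (by
      intro u u' v
      ext
      · show QuadraticMap.polar Q ((lbal_mq_of lam g hsq).symm (u + u')) _ = _ + _
        rw [lbal_mq_symm_add, QuadraticMap.polar_add_left]
      · show QuadraticMap.polar Q (g ((lbal_mq_of lam g hsq).symm (u + u'))) _ / lam = _ + _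
        rw [lbal_mq_symm_add, map_add, QuadraticMap.polar_add_left, add_div])
    (by
      intro z u v
      ext
      · show QuadraticMap.polar Q ((lbal_mq_of lam g hsq).symm (z • u)) _ = (z * _).re
        rw [lbal_mq_symm_smul, QuadraticMap.polar_add_left, QuadraticMap.polar_smul_left,
          QuadraticMap.polar_smul_left, QuadraticAlgebra.re_mul]
        simp only [smul_eq_mul]
        field_simp
      · show QuadraticMap.polar Q (g ((lbal_mq_of lam g hsq).symm (z • u))) _ / lam = (z * _).im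
        rw [lbal_mq_symm_smul, map_add, map_smul, map_smul, hsq, QuadraticMap.polar_add_left,
          QuadraticMap.polar_smul_left, QuadraticMap.polar_smul_left,
          QuadraticMap.polar_smul_left, QuadraticAlgebra.im_mul]
        simp only [smul_eq_mul]
        field_simp
        ring)
    (by
      intro u v v'
      ext
      · show QuadraticMap.polar Q _ ((lbal_mq_of lam g hsq).symm (v + v')) = _ + _
        rw [lbal_mq_symm_add, QuadraticMap.polar_add_right]
      · show QuadraticMap.polar Q _ ((lbal_mq_of lam g hsq).symm (v + v')) / lam = _ + _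
        rw [lbal_mq_symm_add, QuadraticMap.polar_add_right, add_div])
    (by
      intro z u v
      ext
      · show QuadraticMap.polar Q _ ((lbal_mq_of lam g hsq).symm (z • v)) = (z * _).re
        rw [lbal_mq_symm_smul, QuadraticMap.polar_add_right, QuadraticMap.polar_smul_right,
          QuadraticMap.polar_smul_right, QuadraticAlgebra.re_mul, ← hadj]
        simp only [smul_eq_mul]
        field_simp
      · show QuadraticMap.polar Q _ ((lbal_mq_of lam g hsq).symm (z • v)) / lam = (z * _).im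
        rw [lbal_mq_symm_smul, QuadraticMap.polar_add_right, QuadraticMap.polar_smul_right,
          QuadraticMap.polar_smul_right, QuadraticAlgebra.im_mul,
          lbal_mq_polar_gg lam g hsq Q hadj]
        simp only [smul_eq_mul]
        field_simp
        ring)

theorem lbal_mq_B'_apply (u v : lbal_mq_V lam g hsq) :
    lbal_mq_B' lam g hsq Q hadj hlam u v =
      ⟨QuadraticMap.polar Q ((lbal_mq_of lam g hsq).symm u) ((lbal_mq_of lam g hsq).symm v),
        QuadraticMap.polar Q (g ((lbal_mq_of lam g hsq).symm u))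
          ((lbal_mq_of lam g hsq).symm v) / lam⟩ := rfl

variable (h2 : (2 : F) ≠ 0)

include hsq hadj h2 in
theorem lbal_mq_Q_g (x : V) : Q (g x) = lam * Q x := by
  have h := lbal_mq_polar_gg lam g hsq Q hadj x x
  rw [polar_self', polar_self'] at h
  apply mul_left_cancel₀ h2
  rw [h]
  ring

/-- the `K'`-quadratic form `Q'(v) = Q(v) + √lam · B(g v, v) / (2 lam)`. -/
noncomputable def lbal_mq_Q' : QuadraticForm (lbal_mq_K lam) (lbal_mq_V lam g hsq) where
  toFun v := (⟨Q ((lbal_mq_of lam g hsq).symm v),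
    QuadraticMap.polar Q (g ((lbal_mq_of lam g hsq).symm v)) ((lbal_mq_of lam g hsq).symm v)
      / (2 * lam)⟩ : lbal_mq_K lam)
  toFun_smul z v := by
    ext
    · show Q ((lbal_mq_of lam g hsq).symm (z • v)) = ((z * z) * (_ : lbal_mq_K lam)).re
      rw [lbal_mq_symm_smul, QuadraticMap.map_add (⇑Q), QuadraticMap.map_smul, QuadraticMap.map_smul,
        QuadraticMap.polar_smul_left, QuadraticMap.polar_smul_right,
        lbal_mq_Q_g lam g hsq Q hadj h2, QuadraticAlgebra.re_mul,
        QuadraticAlgebra.re_mul, QuadraticAlgebra.im_mul, ← hadj]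
      simp only [smul_eq_mul]
      field_simp
      ring
    · show QuadraticMap.polar Q (g ((lbal_mq_of lam g hsq).symm (z • v)))
        ((lbal_mq_of lam g hsq).symm (z • v)) / (2 * lam) = ((z * z) * (_ : lbal_mq_K lam)).im
      rw [lbal_mq_symm_smul, map_add, map_smul, map_smul, hsq,
        QuadraticAlgebra.im_mul, QuadraticAlgebra.re_mul, QuadraticAlgebra.im_mul]
      simp only [QuadraticMap.polar_add_left, QuadraticMap.polar_add_right,
        QuadraticMap.polar_smul_left, QuadraticMap.polar_smul_right, smul_eq_mul]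
      rw [polar_self', lbal_mq_polar_gg lam g hsq Q hadj, polar_self', ← hadj]
      field_simp
      ring
  exists_companion' := ⟨lbal_mq_B' lam g hsq Q hadj hlam, by
    intro x y
    ext
    · show Q ((lbal_mq_of lam g hsq).symm (x + y)) = _ + _ + _
      rw [lbal_mq_symm_add, QuadraticMap.map_add (⇑Q)]
      rfl
    · show QuadraticMap.polar Q (g ((lbal_mq_of lam g hsq).symm (x + y)))
        ((lbal_mq_of lam g hsq).symm (x + y)) / (2 * lam) = _ + _ + _ / lam
      rw [lbal_mq_symm_add, map_add]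
      simp only [QuadraticMap.polar_add_left, QuadraticMap.polar_add_right]
      rw [hadj ((lbal_mq_of lam g hsq).symm y) ((lbal_mq_of lam g hsq).symm x),
        QuadraticMap.polar_comm Q ((lbal_mq_of lam g hsq).symm y)
          (g ((lbal_mq_of lam g hsq).symm x))]
      field_simp
      ring⟩

theorem lbal_mq_Q'_apply (v : lbal_mq_V lam g hsq) :
    lbal_mq_Q' lam g hsq Q hadj hlam h2 v = ⟨Q ((lbal_mq_of lam g hsq).symm v),
      QuadraticMap.polar Q (g ((lbal_mq_of lam g hsq).symm v)) ((lbal_mq_of lam g hsq).symm v)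
        / (2 * lam)⟩ := rfl

/-- `re ∘ Q' = Q`. -/
theorem lbal_mq_Q'_re (v : V) :
    (lbal_mq_Q' lam g hsq Q hadj hlam h2 (lbal_mq_of lam g hsq v)).re = Q v := rfl

theorem lbal_mq_Q'_im (v : V) :
    (lbal_mq_Q' lam g hsq Q hadj hlam h2 (lbal_mq_of lam g hsq v)).im =
      QuadraticMap.polar Q (g v) v / (2 * lam) := rfl

/-- the polar form of `Q'` is `B'`. -/
theorem lbal_mq_polar_Q' (u v : lbal_mq_V lam g hsq) :
    QuadraticMap.polar (lbal_mq_Q' lam g hsq Q hadj hlam h2) u v =
      lbal_mq_B' lam g hsq Q hadj hlam u v := by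
  unfold QuadraticMap.polar
  rw [lbal_mq_Q'_apply, lbal_mq_Q'_apply, lbal_mq_Q'_apply, lbal_mq_B'_apply, lbal_mq_symm_add,
    LinearMap.map_add]
  ext
  · simp only [QuadraticAlgebra.re_sub]
    rfl
  · simp only [QuadraticAlgebra.im_sub, QuadraticMap.polar_add_left, QuadraticMap.polar_add_right]
    rw [hadj ((lbal_mq_of lam g hsq).symm v) ((lbal_mq_of lam g hsq).symm u),
      QuadraticMap.polar_comm Q ((lbal_mq_of lam g hsq).symm v)
        (g ((lbal_mq_of lam g hsq).symm u))]
    field_simp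
    ring

theorem lbal_mq_polar_Q'_re (u v : V) :
    (QuadraticMap.polar (lbal_mq_Q' lam g hsq Q hadj hlam h2) (lbal_mq_of lam g hsq u)
      (lbal_mq_of lam g hsq v)).re = QuadraticMap.polar Q u v := by
  rw [lbal_mq_polar_Q']
  rfl

theorem lbal_mq_polar_Q'_im (u v : V) :
    (QuadraticMap.polar (lbal_mq_Q' lam g hsq Q hadj hlam h2) (lbal_mq_of lam g hsq u)
      (lbal_mq_of lam g hsq v)).im = QuadraticMap.polar Q (g u) v / lam := by
  rw [lbal_mq_polar_Q']
  rfl

end Form

section FieldK

variable (lam : F) [hF : Fact (∀ r : F, r ^ 2 ≠ lam + 0 * r)]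
  (g : V →ₗ[F] V) (hsq : ∀ v, g (g v) = lam • v) (Q : QuadraticForm F V)
  (hadj : ∀ x y, QuadraticMap.polar Q (g x) y = QuadraticMap.polar Q x (g y))
  (hlam : lam ≠ 0) (h2 : (2 : F) ≠ 0)

theorem lbal_mq_fact_of_not_isSquare {lam : F} (h : ¬ IsSquare lam) :
    Fact (∀ r : F, r ^ 2 ≠ lam + 0 * r) := by
  refine ⟨fun r hr => h ⟨r, ?_⟩⟩
  rw [zero_mul, add_zero] at hr
  rw [← hr, pow_two]

instance lbal_mq_instFinite [Finite F] : Finite (lbal_mq_K lam) :=
  Finite.of_equiv _ (QuadraticAlgebra.equivProd lam 0).symm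

/-- `Q'` is nondegenerate when `Q` is. -/
theorem lbal_mq_nondeg (hQ : Nondeg Q) : Nondeg (lbal_mq_Q' lam g hsq Q hadj hlam h2) := by
  intro v hv
  obtain ⟨v, rfl⟩ := (lbal_mq_of lam g hsq).surjective v
  have h0 : v = 0 := by
    apply hQ
    intro w
    have := congrArg QuadraticAlgebra.re (hv (lbal_mq_of lam g hsq w))
    rw [lbal_mq_polar_Q'_re] at this
    exact this
  rw [h0, map_zero]

instance lbal_mq_instFiniteDimensional [FiniteDimensional F V] :
    FiniteDimensional (lbal_mq_K lam) (lbal_mq_V lam g hsq) := by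
  have : FiniteDimensional F (lbal_mq_V lam g hsq) :=
    Module.Finite.equiv (lbal_mq_of lam g hsq)
  exact Module.Finite.of_restrictScalars_finite F (lbal_mq_K lam) (lbal_mq_V lam g hsq)

/-- the dimension over `F(√lam)` is half the dimension over `F`. -/
theorem lbal_mq_finrank :
    2 * finrank (lbal_mq_K lam) (lbal_mq_V lam g hsq) = finrank F V := by
  have h1 := Module.finrank_mul_finrank F (lbal_mq_K lam) (lbal_mq_V lam g hsq)
  rw [QuadraticAlgebra.finrank_eq_two] at h1
  rw [h1]
  exact (LinearEquiv.finrank_eq (lbal_mq_of lam g hsq)).symm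

/-- the `F`-linear map underlying a `K'`-linear automorphism. -/
noncomputable def lbal_mq_resLin (s : lbal_mq_V lam g hsq ≃ₗ[lbal_mq_K lam] lbal_mq_V lam g hsq) :
    V ≃ₗ[F] V :=
  ((lbal_mq_of lam g hsq).trans (s.restrictScalars F)).trans (lbal_mq_of lam g hsq).symm

theorem lbal_mq_resLin_apply
    (s : lbal_mq_V lam g hsq ≃ₗ[lbal_mq_K lam] lbal_mq_V lam g hsq) (v : V) :
    lbal_mq_resLin lam g hsq s v = (lbal_mq_of lam g hsq).symm (s (lbal_mq_of lam g hsq v)) := rfl

/-- `√lam` acts as `g`. -/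
theorem lbal_mq_root_smul (v : V) :
    (⟨0, 1⟩ : lbal_mq_K lam) • lbal_mq_of lam g hsq v = lbal_mq_of lam g hsq (g v) := by
  rw [lbal_mq_smul_def]
  congr 1
  show (0 : F) • v + (1 : F) • g v = g v
  rw [zero_smul, one_smul, zero_add]

/-- the underlying `F`-linear map commutes with `g`. -/
theorem lbal_mq_resLin_g
    (s : lbal_mq_V lam g hsq ≃ₗ[lbal_mq_K lam] lbal_mq_V lam g hsq) (v : V) :
    lbal_mq_resLin lam g hsq s (g v) = g (lbal_mq_resLin lam g hsq s v) := by
  rw [lbal_mq_resLin_apply, lbal_mq_resLin_apply, ← lbal_mq_root_smul, map_smul]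
  obtain ⟨w, hw⟩ := (lbal_mq_of lam g hsq).surjective (s (lbal_mq_of lam g hsq v))
  rw [← hw, lbal_mq_root_smul, LinearEquiv.symm_apply_apply, LinearEquiv.symm_apply_apply]

/-- restriction of scalars: `Isom Q' →* Isom Q`. -/
noncomputable def lbal_mq_res :
    ↥(Isom (lbal_mq_Q' lam g hsq Q hadj hlam h2)) →* ↥(Isom Q) where
  toFun s := ⟨lbal_mq_resLin lam g hsq (s : lbal_mq_V lam g hsq ≃ₗ[lbal_mq_K lam] _), by
    intro v
    have h := s.2 (lbal_mq_of lam g hsq v)
    have h' := congrArg QuadraticAlgebra.re h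
    rw [lbal_mq_Q'_re] at h'
    rw [← h', lbal_mq_resLin_apply]
    obtain ⟨w, hw⟩ := (lbal_mq_of lam g hsq).surjective
      ((s : lbal_mq_V lam g hsq ≃ₗ[lbal_mq_K lam] _) (lbal_mq_of lam g hsq v))
    rw [← hw, LinearEquiv.symm_apply_apply, lbal_mq_Q'_re]⟩
  map_one' := by
    apply Subtype.ext
    apply LinearEquiv.ext
    intro v
    rfl
  map_mul' s t := by
    apply Subtype.ext
    apply LinearEquiv.ext
    intro v
    rfl

theorem lbal_mq_res_apply (s : ↥(Isom (lbal_mq_Q' lam g hsq Q hadj hlam h2))) (v : V) :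
    ((lbal_mq_res lam g hsq Q hadj hlam h2 s : ↥(Isom Q)) : V ≃ₗ[F] V) v =
      (lbal_mq_of lam g hsq).symm
        ((s : lbal_mq_V lam g hsq ≃ₗ[lbal_mq_K lam] _) (lbal_mq_of lam g hsq v)) := rfl

theorem lbal_mq_res_g (s : ↥(Isom (lbal_mq_Q' lam g hsq Q hadj hlam h2))) (v : V) :
    ((lbal_mq_res lam g hsq Q hadj hlam h2 s : ↥(Isom Q)) : V ≃ₗ[F] V) (g v) =
      g (((lbal_mq_res lam g hsq Q hadj hlam h2 s : ↥(Isom Q)) : V ≃ₗ[F] V) v) :=
  lbal_mq_resLin_g lam g hsq _ v

theorem lbal_mq_res_injective :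
    Function.Injective (lbal_mq_res lam g hsq Q hadj hlam h2) := by
  intro s t hst
  apply Subtype.ext
  apply LinearEquiv.ext
  intro v
  obtain ⟨v, rfl⟩ := (lbal_mq_of lam g hsq).surjective v
  have h := congrArg (fun x : ↥(Isom Q) => (x : V ≃ₗ[F] V) v) hst
  simp only [lbal_mq_res_apply] at h
  exact (lbal_mq_of lam g hsq).symm.injective h

include hsq in
/-- an isometry of `Q` commuting with `g` is `K'`-linear. -/
theorem lbal_mq_lift (h : ↥(Isom Q)) (hg : ∀ v, (h : V ≃ₗ[F] V) (g v) = g ((h : V ≃ₗ[F] V) v)) :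
    ∃ s : ↥(Isom (lbal_mq_Q' lam g hsq Q hadj hlam h2)),
      lbal_mq_res lam g hsq Q hadj hlam h2 s = h := by
  have hpol : ∀ x y, QuadraticMap.polar Q ((h : V ≃ₗ[F] V) x) ((h : V ≃ₗ[F] V) y) =
      QuadraticMap.polar Q x y := by
    intro x y
    unfold QuadraticMap.polar
    rw [← map_add, h.2, h.2, h.2]
  let s₀ : lbal_mq_V lam g hsq ≃ₗ[lbal_mq_K lam] lbal_mq_V lam g hsq :=
    { toFun := fun v => lbal_mq_of lam g hsq ((h : V ≃ₗ[F] V) ((lbal_mq_of lam g hsq).symm v))
      invFun := fun v => lbal_mq_of lam g hsq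
        ((h : V ≃ₗ[F] V).symm ((lbal_mq_of lam g hsq).symm v))
      map_add' := by
        intro v w
        rw [lbal_mq_symm_add, map_add, map_add]
      map_smul' := by
        intro z v
        rw [lbal_mq_symm_smul, map_add, map_smul, map_smul, hg, RingHom.id_apply]
        obtain ⟨v, rfl⟩ := (lbal_mq_of lam g hsq).surjective v
        rw [LinearEquiv.symm_apply_apply, lbal_mq_smul_def]
      left_inv := by
        intro v
        show lbal_mq_of lam g hsq ((h : V ≃ₗ[F] V).symm ((lbal_mq_of lam g hsq).symm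
          (lbal_mq_of lam g hsq ((h : V ≃ₗ[F] V) ((lbal_mq_of lam g hsq).symm v))))) = v
        rw [LinearEquiv.symm_apply_apply, LinearEquiv.symm_apply_apply,
          LinearEquiv.apply_symm_apply]
      right_inv := by
        intro v
        show lbal_mq_of lam g hsq ((h : V ≃ₗ[F] V) ((lbal_mq_of lam g hsq).symm
          (lbal_mq_of lam g hsq ((h : V ≃ₗ[F] V).symm ((lbal_mq_of lam g hsq).symm v))))) = v
        rw [LinearEquiv.symm_apply_apply, LinearEquiv.apply_symm_apply,
          LinearEquiv.apply_symm_apply] }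
  refine ⟨⟨s₀, ?_⟩, ?_⟩
  · intro v
    obtain ⟨v, rfl⟩ := (lbal_mq_of lam g hsq).surjective v
    show lbal_mq_Q' lam g hsq Q hadj hlam h2 (lbal_mq_of lam g hsq ((h : V ≃ₗ[F] V)
      ((lbal_mq_of lam g hsq).symm (lbal_mq_of lam g hsq v)))) = _
    rw [LinearEquiv.symm_apply_apply]
    ext
    · rw [lbal_mq_Q'_re, lbal_mq_Q'_re]
      exact h.2 v
    · rw [lbal_mq_Q'_im, lbal_mq_Q'_im, ← hg, hpol]
  · apply Subtype.ext
    apply LinearEquiv.ext
    intro v
    rfl

include hsq hadj hlam h2 in
/-- a scalar of `F(√lam)` which is an `F`-similarity of `Q` has its square in `F`. -/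
theorem lbal_mq_scalar_sq (hne : ∃ v, Q v ≠ 0) (c : lbal_mq_K lam) (μ : F)
    (h : ∀ v : V, Q ((lbal_mq_of lam g hsq).symm (c • lbal_mq_of lam g hsq v)) = μ * Q v) :
    c * c = algebraMap F (lbal_mq_K lam) μ := by
  obtain ⟨v₀, hv₀⟩ := hne
  obtain ⟨y, hy⟩ : ∃ y, y = lbal_mq_Q' lam g hsq Q hadj hlam h2 (lbal_mq_of lam g hsq v₀) :=
    ⟨_, rfl⟩
  have hy0 : y ≠ 0 := by
    intro h0
    apply hv₀
    have := congrArg QuadraticAlgebra.re h0
    rw [hy, lbal_mq_Q'_re] at this
    exact this
  obtain ⟨w, hw⟩ : ∃ w, w = (c * c - algebraMap F (lbal_mq_K lam) μ) * y := ⟨_, rfl⟩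
  have key : ∀ z : lbal_mq_K lam, ((z * z) * w).re = 0 := by
    intro z
    obtain ⟨u, hu⟩ := (lbal_mq_of lam g hsq).surjective (z • lbal_mq_of lam g hsq v₀)
    have h1 := h u
    rw [hu, ← lbal_mq_Q'_re lam g hsq Q hadj hlam h2 u, hu, ← mul_smul,
      ← lbal_mq_Q'_re lam g hsq Q hadj hlam h2
        ((lbal_mq_of lam g hsq).symm ((c * z) • lbal_mq_of lam g hsq v₀)),
      LinearEquiv.apply_symm_apply, QuadraticMap.map_smul, QuadraticMap.map_smul, ← hy,
      smul_eq_mul, smul_eq_mul] at h1
    have h3 : (z * z) * w = (c * z) * (c * z) * y - algebraMap F (lbal_mq_K lam) μ * ((z * z) * y) := by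
      rw [hw]
      ring
    have hre : ∀ (a : F) (A : lbal_mq_K lam),
        (algebraMap F (lbal_mq_K lam) a * A).re = a * A.re := by
      intro a A
      rw [QuadraticAlgebra.re_mul, QuadraticAlgebra.algebraMap_re, QuadraticAlgebra.algebraMap_im]
      ring
    rw [h3, QuadraticAlgebra.re_sub, h1, hre, sub_self]
  have hre : w.re = 0 := by
    have := key 1
    rw [one_mul, one_mul] at this
    exact this
  have him : w.im = 0 := by
    have := key ⟨1, 1⟩
    rw [QuadraticAlgebra.re_mul, QuadraticAlgebra.re_mul, QuadraticAlgebra.im_mul, hre] at this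
    simp only [mul_one, mul_zero, add_zero] at this
    have h4 : (2 * lam) * w.im = 0 := by linear_combination this
    rcases mul_eq_zero.mp h4 with h5 | h5
    · exact absurd h5 (mul_ne_zero h2 hlam)
    · exact h5
  have hw0 : w = 0 := QuadraticAlgebra.ext hre him
  rw [hw] at hw0
  rcases mul_eq_zero.mp hw0 with h5 | h5
  · exact sub_eq_zero.mp h5
  · exact absurd h5 hy0

end FieldK

end Cfsg.Agent.LBal
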