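import Mathlib
import Cfsg.Agent.LBal.NoCore
import Cfsg.Agent.Helper8.AutSLnO
import Cfsg.Agent.Helper7.PSLSimple
import Cfsg.Agent.Helper8.DkSolv
import Cfsg.Agent.Helper7.LinearCard

set_option autoImplicit false

/-!
LBal piece P3 (helper3): `PGL_n(F₀)` has no nontrivial normal `p'`-subgroup when `p ≠ char F₀`
divides its order (`lbal_noCore_pgl`).  Route: `lbal_noCore_of_socle` with `S` = the image of
`PSL_n(F₀)`; `C_{PGL}(S) = 1` from `pslConjBar_injective`; `PSL` simple (`n ≥ 3` or `|F₀| ≥ 4`);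
`p ∣ |PSL|` by arithmetic on the order formulas; `(n, |F₀|) = (2, 2), (2, 3)` by hand.
-/

namespace Cfsg.Agent.LBal

open Matrix Cfsg.Agent.Helper8.AutSLn

section General

variable {n : ℕ} {F₀ : Type*} [Field F₀]

/-- conjugation in `PGL` restricted to the image of `PSL` is `pslConjBar` -/
theorem lbal_pgl_conj_toPGL [Nontrivial (Fin n)] (x : Matrix.ProjGenLinGroup (Fin n) F₀)
    (t : Matrix.ProjectiveSpecialLinearGroup (Fin n) F₀) :
    Matrix.ProjectiveSpecialLinearGroup.toPGL (pslConjBar x t) =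
      x * Matrix.ProjectiveSpecialLinearGroup.toPGL t * x⁻¹ := by
  induction x using Matrix.ProjGenLinGroup.induction_on with
  | mk g =>
    induction t using QuotientGroup.induction_on with
    | H s =>
      rw [pslConjBar_mk, pslConj_mk]
      show Matrix.ProjGenLinGroup.mk (Matrix.SpecialLinearGroup.toGL (slConj g s)) =
        Matrix.ProjGenLinGroup.mk g * Matrix.ProjGenLinGroup.mk (Matrix.SpecialLinearGroup.toGL s) *
          (Matrix.ProjGenLinGroup.mk g)⁻¹
      rw [← map_inv, ← map_mul, ← map_mul]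
      congr 1
      apply Units.ext
      rw [Matrix.SpecialLinearGroup.coe_GL_coe_matrix, slConj_coe, Units.val_mul, Units.val_mul,
        Matrix.SpecialLinearGroup.coe_GL_coe_matrix]

/-- the image of `PSL` in `PGL` is normal -/
theorem lbal_range_toPGL_normal [Nontrivial (Fin n)] :
    (Matrix.ProjectiveSpecialLinearGroup.toPGL (n := Fin n) (R := F₀)).range.Normal := by
  constructor
  rintro _ ⟨t, rfl⟩ x
  exact ⟨pslConjBar x t, lbal_pgl_conj_toPGL x t⟩

/-- the centraliser in `PGL` of the image of `PSL` is trivial -/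
theorem lbal_pgl_cent_toPGL [Nontrivial (Fin n)] (x : Matrix.ProjGenLinGroup (Fin n) F₀)
    (hx : ∀ s ∈ (Matrix.ProjectiveSpecialLinearGroup.toPGL (n := Fin n) (R := F₀)).range,
      x * s = s * x) : x = 1 := by
  apply pslConjBar_injective
  rw [map_one]
  ext t
  apply Matrix.ProjectiveSpecialLinearGroup.toPGL_injective
  rw [lbal_pgl_conj_toPGL, hx _ ⟨t, rfl⟩, mul_assoc, mul_inv_cancel, mul_one]
  rfl

end General


/-- arithmetic: from the order formulas, a prime dividing `|PGL_n(q)|` divides `|PSL_n(q)|` -/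
theorem lbal_arith_dvd {n q G S P L d p : ℕ} (hn : 2 ≤ n) (hq : 2 ≤ q) (hp : p.Prime)
    (hG : (q - 1) ^ n ∣ G) (hS : (q - 1) * S = G) (hP : (q - 1) * P = G)
    (hd : d = Nat.gcd n (q - 1)) (hL : d * L = S)
    (h2 : n = 2 → S = (q ^ 2 - 1) * q)
    (hpP : p ∣ P) : p ∣ L := by
  by_contra hpL
  have hq1 : 0 < q - 1 := by omega
  have hPS : P = S := Nat.eq_of_mul_eq_mul_left hq1 (hP.trans hS.symm)
  rw [hPS, ← hL] at hpP
  have hpd : p ∣ d := (hp.dvd_mul.mp hpP).resolve_right hpL
  have hdn : d ∣ n := hd ▸ Nat.gcd_dvd_left _ _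
  have hdq : d ∣ q - 1 := hd ▸ Nat.gcd_dvd_right _ _
  have hpn : p ∣ n := hpd.trans hdn
  have hpq : p ∣ q - 1 := hpd.trans hdq
  -- `(q-1)^(n-1) ∣ S`
  have hS' : (q - 1) ^ (n - 1) ∣ S := by
    have h1 : (q - 1) * (q - 1) ^ (n - 1) ∣ (q - 1) * S := by
      rw [hS, ← pow_succ', Nat.sub_add_cancel (by omega)]
      exact hG
    exact (Nat.mul_dvd_mul_iff_left hq1).mp h1
  have hS0 : S ≠ 0 := by
    intro h0
    rw [h0, mul_zero] at hS
    rw [← hS] at hG
    -- G = 0, fine, no contradiction; use L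
    rw [h0] at hL
    rcases Nat.mul_eq_zero.mp hL with h | h
    · rw [h] at hdn
      have := Nat.eq_zero_of_zero_dvd hdn
      omega
    · exact hpL (h ▸ dvd_zero p)
  have hd0 : d ≠ 0 := by
    intro h
    rw [h, zero_mul] at hL
    exact hS0 hL.symm
  have hL0 : L ≠ 0 := by
    intro h
    rw [h, mul_zero] at hL
    exact hS0 hL.symm
  set a := (q - 1).factorization p with ha
  have ha1 : 1 ≤ a := (hp.dvd_iff_one_le_factorization hq1.ne').mp hpq
  -- valuations
  have h1 : a * (n - 1) ≤ S.factorization p := by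
    have := (Nat.factorization_le_iff_dvd (pow_ne_zero _ hq1.ne') hS0).mpr hS' p
    rwa [Nat.factorization_pow, Finsupp.smul_apply, smul_eq_mul, mul_comm] at this
  have h2' : S.factorization p = d.factorization p := by
    rw [← hL, Nat.factorization_mul hd0 hL0, Finsupp.add_apply,
      Nat.factorization_eq_zero_of_not_dvd hpL, add_zero]
  have h3 : d.factorization p ≤ a :=
    (Nat.factorization_le_iff_dvd hd0 hq1.ne').mpr hdq p
  have h4 : a * (n - 1) ≤ a := by omega
  have hn2 : n = 2 := by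
    have : n - 1 ≤ 1 := by
      by_contra hc
      have hc' : 2 ≤ n - 1 := by omega
      have : a * 2 ≤ a * (n - 1) := Nat.mul_le_mul_left a hc'
      omega
    omega
  -- now `n = 2`, `p = 2`, `q` odd
  have hp2 : p = 2 := by
    rw [hn2] at hpn
    exact (Nat.prime_dvd_prime_iff_eq hp Nat.prime_two).mp hpn
  subst hp2
  obtain ⟨k, hk⟩ := hpq
  have hqk : q = 2 * k + 1 := by omega
  have hSq := h2 hn2
  have hd2 : d ∣ 2 := hn2 ▸ hdn
  have hS8 : 8 ∣ S := by
    rw [hSq, hqk]
    have : (2 * k + 1) ^ 2 - 1 = 4 * (k * (k + 1)) := by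
      have : (2 * k + 1) ^ 2 = 4 * (k * (k + 1)) + 1 := by ring
      omega
    rw [this]
    have hev : 2 ∣ k * (k + 1) := (Nat.even_mul_succ_self k).two_dvd
    obtain ⟨m, hm⟩ := hev
    rw [hm]
    exact ⟨m * (2 * k + 1), by ring⟩
  have hdle : d ≤ 2 := Nat.le_of_dvd (by norm_num) hd2
  apply hpL
  rw [← hL] at hS8
  interval_cases d
  · exact absurd rfl hd0
  · rw [one_mul] at hS8
    exact (by norm_num : (2 : ℕ) ∣ 8).trans hS8
  · have : 4 ∣ L := by
      have h : 2 * 4 ∣ 2 * L := by simpa using hS8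
      exact (Nat.mul_dvd_mul_iff_left (by norm_num)).mp h
    exact (by norm_num : (2 : ℕ) ∣ 4).trans this


/-- a normal subgroup of order 2 is central -/
theorem lbal_cent_of_card_two {G : Type*} [Group G] (M : Subgroup G) [hM : M.Normal]
    (hc : Nat.card M = 2) (x z : G) (hz : z ∈ M) : x * z = z * x := by
  by_cases hz1 : z = 1
  · rw [hz1, mul_one, one_mul]
  obtain ⟨w, -, hw⟩ := (Nat.card_eq_two_iff' (1 : M)).mp hc
  have hy : x * z * x⁻¹ ∈ M := hM.conj_mem z hz x
  have h1 : (⟨z, hz⟩ : M) = w := hw _ (fun h => hz1 (congrArg Subtype.val h))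
  have h2 : (⟨x * z * x⁻¹, hy⟩ : M) = w := hw _ (fun h => by
    have h3 : x * z * x⁻¹ = 1 := congrArg Subtype.val h
    apply hz1
    have : z = x⁻¹ * (x * z * x⁻¹) * x := by group
    rw [this, h3]; group)
  have h3 : x * z * x⁻¹ = z := congrArg Subtype.val (h2.trans h1.symm)
  calc x * z = x * z * x⁻¹ * x := by group
    _ = z * x := by rw [h3]

/-- an element of order dividing 3 centralises a normal subgroup of order 3 -/
theorem lbal_cent_of_card_three {G : Type*} [Group G] (M : Subgroup G) [hM : M.Normal]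
    (hc : Nat.card M = 3) (x : G) (hx : x ^ 3 = 1) (z : G) (hz : z ∈ M) : x * z = z * x := by
  by_cases hz1 : z = 1
  · rw [hz1, mul_one, one_mul]
  have : Fact (Nat.Prime 3) := ⟨Nat.prime_three⟩
  have hy : x * z * x⁻¹ ∈ M := hM.conj_mem z hz x
  have hz3 : z ^ 3 = 1 := by
    have h := pow_card_eq_one' (G := M) (x := ⟨z, hz⟩)
    rw [hc] at h
    exact congrArg Subtype.val h
  have hzne : (⟨z, hz⟩ : M) ≠ 1 := fun h => hz1 (congrArg Subtype.val h)
  obtain ⟨k, hk⟩ := mem_powers_of_prime_card (g' := (⟨x * z * x⁻¹, hy⟩ : M)) hc hzne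
  have hk' : z ^ k = x * z * x⁻¹ := by
    have := congrArg Subtype.val hk
    simpa using this
  have hk3 : z ^ (k % 3) = x * z * x⁻¹ := by
    rw [← hk']
    conv_rhs => rw [← Nat.mod_add_div k 3]
    rw [pow_add, pow_mul, hz3, one_pow, mul_one]
  have hlt : k % 3 < 3 := Nat.mod_lt _ (by norm_num)
  have key : x * z * x⁻¹ = z := by
    interval_cases h : k % 3
    · exfalso
      apply hz1
      rw [pow_zero] at hk3
      have : z = x⁻¹ * (x * z * x⁻¹) * x := by group
      rw [this, ← hk3]; group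
    · rw [pow_one] at hk3
      exact hk3.symm
    · exfalso
      apply hz1
      -- `x z x⁻¹ = z²`, so `x² z x⁻² = z⁴ = z`, `x³ z x⁻³ = z²`
      have e1 : x * z ^ 2 * x⁻¹ = z := by
        rw [← conj_pow, ← hk3, ← pow_mul]
        have : z ^ (2 * 2) = z ^ 3 * z := by rw [← pow_succ]
        rw [this, hz3, one_mul]
      have e2 : x ^ 3 * z * (x ^ 3)⁻¹ = z ^ 2 := by
        have hx3 : x ^ 3 = x * x * x := by rw [pow_succ, pow_two]
        have : x ^ 3 * z * (x ^ 3)⁻¹ = x * (x * (x * z * x⁻¹) * x⁻¹) * x⁻¹ := by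
          rw [hx3]; group
        rw [this, ← hk3, e1, ← hk3]
      rw [hx, one_mul, inv_one, mul_one] at e2
      -- `z = z²`
      have : z * z = z * 1 := by rw [mul_one, ← pow_two]; exact e2.symm
      exact mul_left_cancel this
  calc x * z = x * z * x⁻¹ * x := by group
    _ = z * x := by rw [key]


/-- the two small cases together -/
theorem lbal_cent_small {G : Type*} [Group G] {r : ℕ} (hr : r = 2 ∨ r = 3) (M : Subgroup G)
    [hM : M.Normal] (hc : Nat.card M = r) (x : G) (hx : x ^ r = 1) (z : G) (hz : z ∈ M) :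
    x * z = z * x := by
  rcases hr with rfl | rfl
  · exact lbal_cent_of_card_two M hc x z hz
  · exact lbal_cent_of_card_three M hc x hx z hz

section Cards

variable {n : ℕ} {F₀ : Type*} [Field F₀] [Fintype F₀]

omit [Fintype F₀] in
/-- powers of an elementary transvection -/
theorem lbal_transvection_pow {ι : Type*} [DecidableEq ι] [Fintype ι] {i j : ι} (hij : i ≠ j)
    (a : F₀) (k : ℕ) :
    Matrix.SpecialLinearGroup.transvection hij a ^ k =
      Matrix.SpecialLinearGroup.transvection hij (k • a) := by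
  induction k with
  | zero => rw [pow_zero, zero_smul, Matrix.SpecialLinearGroup.transvection_coeff_zero]
  | succ k ih => rw [pow_succ, ih, ← Matrix.SpecialLinearGroup.transvection_add, succ_nsmul]

omit [Fintype F₀] in
/-- in characteristic `r`, an elementary transvection has order dividing `r` -/
theorem lbal_transvection_pow_char {ι : Type*} [DecidableEq ι] [Fintype ι] (r : ℕ) [CharP F₀ r]
    {i j : ι} (hij : i ≠ j) (a : F₀) :
    Matrix.SpecialLinearGroup.transvection hij a ^ r = 1 := by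
  rw [lbal_transvection_pow, nsmul_eq_mul, CharP.cast_eq_zero, zero_mul,
    Matrix.SpecialLinearGroup.transvection_coeff_zero]

/-- `(q - 1) ^ n` divides `|GL_n(q)|` -/
theorem lbal_pow_dvd_card_GL :
    (Fintype.card F₀ - 1) ^ n ∣ Nat.card (GL (Fin n) F₀) := by
  rw [Matrix.card_GL_field]
  have h1 : (Fintype.card F₀ - 1) ^ n = ∏ _i : Fin n, (Fintype.card F₀ - 1) := by
    rw [Finset.prod_const, Finset.card_univ, Fintype.card_fin]
  rw [h1]
  apply Finset.prod_dvd_prod_of_dvd
  intro i _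
  have hi : (i : ℕ) ≤ n := i.2.le
  have h2 : Fintype.card F₀ ^ n - Fintype.card F₀ ^ (i : ℕ) =
      Fintype.card F₀ ^ (i : ℕ) * (Fintype.card F₀ ^ (n - i) - 1) := by
    rw [Nat.mul_sub, mul_one, ← pow_add, Nat.add_sub_cancel' hi]
  rw [h2]
  apply Dvd.dvd.mul_left
  exact Nat.sub_one_dvd_pow_sub_one _ _

/-- `|SL_2(q)| = (q² - 1) q` -/
theorem lbal_card_SL_two :
    Nat.card (Matrix.SpecialLinearGroup (Fin 2) F₀) =
      (Fintype.card F₀ ^ 2 - 1) * Fintype.card F₀ := by
  have hq : 2 ≤ Fintype.card F₀ := Fintype.one_lt_card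
  have h1 := Cfsg.Agent.Helper7.card_units_mul_card_SL (n := Fin 2) (F := F₀)
  rw [Matrix.card_GL_field, Fin.prod_univ_two] at h1
  simp only [Fin.val_zero, Fin.val_one, pow_zero, pow_one] at h1
  have h2 : Fintype.card F₀ ^ 2 - Fintype.card F₀ =
      (Fintype.card F₀ - 1) * Fintype.card F₀ := by
    rw [Nat.sub_mul, one_mul, pow_two]
  rw [h2] at h1
  have h3 : (Fintype.card F₀ - 1) * Nat.card (Matrix.SpecialLinearGroup (Fin 2) F₀) =
      (Fintype.card F₀ - 1) * ((Fintype.card F₀ ^ 2 - 1) * Fintype.card F₀) := by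
    rw [h1]; ring
  exact Nat.eq_of_mul_eq_mul_left (by omega) h3

/-- a prime dividing `|PGL_n(q)|` divides `|PSL_n(q)|` -/
theorem lbal_dvd_card_PSL (hn : 2 ≤ n) {p : ℕ} (hp : p.Prime)
    (hpP : p ∣ Nat.card (Matrix.ProjGenLinGroup (Fin n) F₀)) :
    p ∣ Nat.card (Matrix.ProjectiveSpecialLinearGroup (Fin n) F₀) := by
  have : Nonempty (Fin n) := ⟨⟨0, by omega⟩⟩
  refine lbal_arith_dvd (n := n) (q := Fintype.card F₀) hn Fintype.one_lt_card hp
    lbal_pow_dvd_card_GL Cfsg.Agent.Helper7.card_units_mul_card_SL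
    Cfsg.Agent.Helper7.card_units_mul_card_PGL rfl
    (Cfsg.Agent.Helper7.card_center_mul_card_PSL n (by omega)) ?_ hpP
  intro h2
  subst h2
  exact lbal_card_SL_two

end Cards

section Main

variable {n : ℕ} {F₀ : Type*} [Field F₀] [Fintype F₀]

omit [Fintype F₀] in
/-- small cases: a normal subgroup of `PGL_n(F₀)` of order `r = char F₀ ∈ {2, 3}` is trivial -/
theorem lbal_pgl_small (r : ℕ) [CharP F₀ r] (hr : r = 2 ∨ r = 3) [Nontrivial (Fin n)]
    (M : Subgroup (Matrix.ProjGenLinGroup (Fin n) F₀)) [hM : M.Normal]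
    (hc : Nat.card M = 1 ∨ Nat.card M = r) : M = ⊥ := by
  rcases hc with hc | hc
  · exact Subgroup.card_eq_one.mp hc
  rw [Subgroup.eq_bot_iff_forall]
  intro z hz
  apply lbal_pgl_cent_toPGL
  rintro _ ⟨t, rfl⟩
  induction t using QuotientGroup.induction_on with
  | H s =>
    refine Cfsg.Agent.Helper7.Transv.transvection_induction
      (fun s => z * Matrix.ProjectiveSpecialLinearGroup.toPGL
          (QuotientGroup.mk s : Matrix.ProjectiveSpecialLinearGroup (Fin n) F₀) =
        Matrix.ProjectiveSpecialLinearGroup.toPGL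
          (QuotientGroup.mk s : Matrix.ProjectiveSpecialLinearGroup (Fin n) F₀) * z) ?_ ?_ s
    · intro i j hij a
      symm
      apply lbal_cent_small hr M hc _ _ z hz
      rw [← map_pow, ← QuotientGroup.mk_pow, lbal_transvection_pow_char r hij a,
        QuotientGroup.mk_one, map_one]
    · intro A B hA hB
      rw [QuotientGroup.mk_mul, map_mul, ← mul_assoc, hA, mul_assoc, hB, mul_assoc]

/-- **LBal P3.** `PGL_n(F₀)` has no nontrivial normal `p'`-subgroup when the prime
`p ≠ char F₀` divides its order. -/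
theorem lbal_noCore_pgl (r : ℕ) [Fact r.Prime] [CharP F₀ r] (hn : 2 ≤ n)
    {p : ℕ} [Fact p.Prime] (hpr : p ≠ r)
    (hp : p ∣ Nat.card (Matrix.ProjGenLinGroup (Fin n) F₀)) :
    lbal_NoCore p (Matrix.ProjGenLinGroup (Fin n) F₀) := by
  classical
  have hnt : Nontrivial (Fin n) := Fin.nontrivial_iff_two_le.mpr hn
  have hSn := lbal_range_toPGL_normal (n := n) (F₀ := F₀)
  have hpp : p.Prime := Fact.out
  have hrp : r.Prime := Fact.out
  refine lbal_noCore_of_socle
    (Matrix.ProjectiveSpecialLinearGroup.toPGL (n := Fin n) (R := F₀)).range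
    (fun g hg => lbal_pgl_cent_toPGL g hg) ?_
  intro M hMn hMS hcop
  have hpL := lbal_dvd_card_PSL (F₀ := F₀) hn hpp hp
  by_cases hsimple : 3 ≤ n ∨ 4 ≤ Fintype.card F₀
  · -- `PSL` is simple
    have hsg : IsSimpleGroup (Matrix.ProjectiveSpecialLinearGroup (Fin n) F₀) := by
      by_cases h3 : 3 ≤ n
      · exact Cfsg.Agent.Helper7.Transv.isSimpleGroup_PSL h3
      · have hn2 : n = 2 := by omega
        have h4 : 4 ≤ Fintype.card F₀ := hsimple.resolve_left h3
        subst hn2
        exact Cfsg.Agent.Helper8.Dk.isSimpleGroup_PSL2_of_card h4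
    have hcn : (M.comap (Matrix.ProjectiveSpecialLinearGroup.toPGL (n := Fin n) (R := F₀))).Normal :=
      hMn.comap _
    rcases hcn.eq_bot_or_eq_top with h | h
    · rw [Subgroup.eq_bot_iff_forall]
      intro x hx
      obtain ⟨t, rfl⟩ := hMS hx
      have ht : t ∈ M.comap (Matrix.ProjectiveSpecialLinearGroup.toPGL (n := Fin n) (R := F₀)) := hx
      rw [h, Subgroup.mem_bot] at ht
      rw [ht, map_one]
    · exfalso
      have hle : (Matrix.ProjectiveSpecialLinearGroup.toPGL (n := Fin n) (R := F₀)).range ≤ M := by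
        rintro _ ⟨t, rfl⟩
        have ht : t ∈ M.comap (Matrix.ProjectiveSpecialLinearGroup.toPGL (n := Fin n) (R := F₀)) := by
          rw [h]; trivial
        exact ht
      have hcard : Nat.card (Matrix.ProjectiveSpecialLinearGroup.toPGL (n := Fin n) (R := F₀)).range =
          Nat.card (Matrix.ProjectiveSpecialLinearGroup (Fin n) F₀) :=
        (Nat.card_congr (MonoidHom.ofInjective
          Matrix.ProjectiveSpecialLinearGroup.toPGL_injective).toEquiv).symm
      have hdvd : p ∣ Nat.card M := by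
        refine hpL.trans ?_
        rw [← hcard]
        exact Subgroup.card_dvd_of_le hle
      have := Nat.Coprime.eq_one_of_dvd hcop.symm hdvd
      exact hpp.one_lt.ne' this
  · -- `n = 2` and `|F₀| ≤ 3`
    have hn2 : n = 2 := by
      by_contra hne
      exact hsimple (Or.inl (by omega))
    have hq3 : Fintype.card F₀ < 4 := by
      by_contra hne
      exact hsimple (Or.inr (by omega))
    have hq2 : 2 ≤ Fintype.card F₀ := Fintype.one_lt_card
    subst hn2
    have hPG := Cfsg.Agent.Helper7.card_units_mul_card_PGL (n := Fin 2) (F := F₀)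
    rw [Matrix.card_GL_field, Fin.prod_univ_two] at hPG
    simp only [Fin.val_zero, Fin.val_one, pow_zero, pow_one] at hPG
    have hrq : r ∣ Fintype.card F₀ := by
      rw [← CharP.cast_eq_zero_iff F₀ r]
      exact Nat.cast_card_eq_zero F₀
    have hMdvd : Nat.card M ∣ Nat.card (Matrix.ProjGenLinGroup (Fin 2) F₀) :=
      Subgroup.card_subgroup_dvd_card M
    have hq : Fintype.card F₀ = 2 ∨ Fintype.card F₀ = 3 := by omega
    rcases hq with hq | hq
    · -- `q = 2`, `r = 2`, `|PGL| = 6`, `p = 3`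
      rw [hq] at hPG hrq
      have hr2 : r = 2 := (Nat.prime_dvd_prime_iff_eq hrp Nat.prime_two).mp hrq
      have hP6 : Nat.card (Matrix.ProjGenLinGroup (Fin 2) F₀) = 6 := by omega
      rw [hP6] at hp hMdvd
      have hp3 : p = 3 := by
        have h6 : p ∣ 2 * 3 := by simpa using hp
        rcases hpp.dvd_mul.mp h6 with h | h
        · exact absurd ((Nat.prime_dvd_prime_iff_eq hpp Nat.prime_two).mp h) (hr2 ▸ hpr)
        · exact (Nat.prime_dvd_prime_iff_eq hpp Nat.prime_three).mp h
      subst hp3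
      have hM2 : Nat.card M ∣ 2 :=
        Nat.Coprime.dvd_of_dvd_mul_right hcop (by simpa using hMdvd)
      have hMc : Nat.card M = 1 ∨ Nat.card M = 2 := (Nat.dvd_prime Nat.prime_two).mp hM2
      exact lbal_pgl_small r (Or.inl hr2) M (hr2 ▸ hMc)
    · -- `q = 3`, `r = 3`, `|PGL| = 24`, `p = 2`
      rw [hq] at hPG hrq
      have hr3 : r = 3 := (Nat.prime_dvd_prime_iff_eq hrp Nat.prime_three).mp hrq
      have hP24 : Nat.card (Matrix.ProjGenLinGroup (Fin 2) F₀) = 24 := by omega
      rw [hP24] at hp hMdvd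
      have hp2 : p = 2 := by
        have h24 : p ∣ 2 ^ 3 * 3 := by simpa using hp
        rcases hpp.dvd_mul.mp h24 with h | h
        · exact (Nat.prime_dvd_prime_iff_eq hpp Nat.prime_two).mp (hpp.dvd_of_dvd_pow h)
        · exact absurd ((Nat.prime_dvd_prime_iff_eq hpp Nat.prime_three).mp h) (hr3 ▸ hpr)
      subst hp2
      have hcop8 : (Nat.card M).Coprime (2 ^ 3) := Nat.Coprime.pow_right 3 hcop
      have hM3 : Nat.card M ∣ 3 :=
        Nat.Coprime.dvd_of_dvd_mul_left hcop8 (by simpa using hMdvd)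
      have hMc : Nat.card M = 1 ∨ Nat.card M = 3 := (Nat.dvd_prime Nat.prime_three).mp hM3
      exact lbal_pgl_small r (Or.inr hr3) M (hr3 ▸ hMc)

end Main

end Cfsg.Agent.LBal
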