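import Mathlib
import Cfsg.Agent.Helper8.StdForms
import Cfsg.Agent.Helper8.OmegaStd
import Cfsg.Agent.LBal.PGOCoreGen

/-!
# LBal P6: the three standard forms in dimension at least five (helper9)
-/

set_option autoImplicit false

namespace Cfsg.Agent.LBal

open Module Cfsg Cfsg.Agent.Helper8.StdForms Cfsg.Agent.Helper8.OmegaStd

variable {F : Type*} [Field F] [Fintype F]

/-- `PGO_{2m+1}(q)`, `m ≥ 2`, `q` odd. -/
theorem lbal_noCore_pgo_odd_big (hodd : Odd (Fintype.card F)) {m : ℕ} (hm : 2 ≤ m) :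
    lbal_NoCore 2 (Cfsg.PGO F (Cfsg.quadFormOdd m F)) := by
  classical
  have hQeq : Cfsg.quadFormOdd m F = ⇑(oddForm F m) :=
    funext (fun v => (oddForm_apply F m v).symm)
  have h2 : (2 : F) ≠ 0 := two_ne_zero_of_odd hodd
  rw [hQeq]
  have hcard : Fintype.card (Unit ⊕ (Fin m ⊕ Fin m)) = 2 * m + 1 := by
    simp only [Fintype.card_sum, Fintype.card_unique, Fintype.card_fin]
    ring
  exact lbal_noCore_pgo_gen (oddForm F m) h2 (oddForm_nondeg F m h2) (by rw [hcard]; omega)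

/-- `PGO⁺_{2m}(q)`, `m ≥ 3`, `q` odd. -/
theorem lbal_noCore_pgo_plus_big (hodd : Odd (Fintype.card F)) {m : ℕ} (hm : 3 ≤ m) :
    lbal_NoCore 2 (Cfsg.PGO F (Cfsg.quadFormPlus m F)) := by
  classical
  have hQeq : Cfsg.quadFormPlus m F = ⇑(plusForm F m) :=
    funext (fun v => (plusForm_apply F m v).symm)
  have h2 : (2 : F) ≠ 0 := two_ne_zero_of_odd hodd
  rw [hQeq]
  have hcard : Fintype.card (Fin m ⊕ Fin m) = 2 * m := by
    simp only [Fintype.card_sum, Fintype.card_fin]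
    ring
  exact lbal_noCore_pgo_gen (plusForm F m) h2 (plusForm_nondeg F m) (by rw [hcard]; omega)

/-- `PGO⁻_{2m}(q)`, `m ≥ 3`, `q` odd. -/
theorem lbal_noCore_pgo_minus_big (hodd : Odd (Fintype.card F)) {m : ℕ} (hm : 3 ≤ m) (a b : F)
    (hab : ∀ z₁ z₂ : F, z₁ ^ 2 + a * z₁ * z₂ + b * z₂ ^ 2 = 0 → z₁ = 0 ∧ z₂ = 0) :
    lbal_NoCore 2 (Cfsg.PGO F (Cfsg.quadFormMinus (m - 1) F a b)) := by
  classical
  have hQeq : Cfsg.quadFormMinus (m - 1) F a b = ⇑(minusForm F (m - 1) a b) :=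
    funext (fun v => (minusForm_apply F (m - 1) a b v).symm)
  have h2 : (2 : F) ≠ 0 := two_ne_zero_of_odd hodd
  rw [hQeq]
  have hcard : Fintype.card ((Fin (m - 1) ⊕ Fin (m - 1)) ⊕ Fin 2) = 2 * (m - 1) + 2 := by
    simp only [Fintype.card_sum, Fintype.card_fin]
    ring
  exact lbal_noCore_pgo_gen (minusForm F (m - 1) a b) h2 (minusForm_nondeg F (m - 1) hab)
    (by rw [hcard]; omega)

end Cfsg.Agent.LBal
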