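import Mathlib
import Cfsg.Agent.LBal.NoCore
import Cfsg.Agent.Helper8.SiegelSimple
import Cfsg.Agent.Helper8.ReflMatrix
import Cfsg.Prelude.Def_LieTypeDatum

set_option autoImplicit false
set_option linter.unusedSectionVars false

/-!
The similarity group of a quadratic form acts on the singular points; for a form of Witt index
one this action is 2-transitive (helper8, for the small orthogonal pieces of S2686).
-/

namespace Cfsg.Agent.LBal

open Module Cfsg Cfsg.Agent.Helper8.QuadForm Cfsg.Agent.Helper8.OrthOrder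
  Cfsg.Agent.Helper8.Siegel Cfsg.Agent.Helper8.SiegelGeom Cfsg.Agent.Helper8.SiegelGroup
  Cfsg.Agent.Helper8.SiegelPrim Cfsg.Agent.Helper8.SiegelSimple Cfsg.Agent.Helper8.ReflMatrix

variable {F : Type*} [Field F] {ι : Type} [Fintype ι] [DecidableEq ι]
  (Q : QuadraticForm F (ι → F))

/-- the similarity group of the quadratic form -/
abbrev lbalSim : Subgroup (GL ι F) := Geo.quadSimilarityGroup (F := F) ⇑Q

theorem lbal_sim_singular {g : GL ι F} (hg : g ∈ lbalSim Q) {u : ι → F} (hu : Q u = 0) :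
    Q (glEquiv g u) = 0 := by
  obtain ⟨c, hc⟩ := hg
  rw [glEquiv_apply, hc, hu, mul_zero]

/-- the action of the similarity group on the singular points -/
noncomputable instance lbalSimAct : MulAction ↥(lbalSim Q) (SPt Q) where
  smul g p := ⟨p.1.map ((glEquiv g.1 : (ι → F) ≃ₗ[F] (ι → F)) : (ι → F) →ₗ[F] (ι → F)), by
    obtain ⟨u, hu0, hu, hp⟩ := p.2
    refine ⟨glEquiv g.1 u, ?_, lbal_sim_singular Q g.2 hu, ?_⟩
    · intro h
      exact hu0 ((glEquiv g.1).map_eq_zero_iff.mp h)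
    · rw [hp, Submodule.map_span, Set.image_singleton]
      rfl⟩
  one_smul p := Subtype.ext (by
    show p.1.map ((glEquiv ((1 : ↥(lbalSim Q)) : GL ι F) : (ι → F) ≃ₗ[F] (ι → F)) :
      (ι → F) →ₗ[F] (ι → F)) = p.1
    rw [Subgroup.coe_one, map_one]
    exact Submodule.map_id p.1)
  mul_smul g h p := Subtype.ext (by
    show p.1.map ((glEquiv ((g * h : ↥(lbalSim Q)) : GL ι F) : (ι → F) ≃ₗ[F] (ι → F)) :
        (ι → F) →ₗ[F] (ι → F))
      = (p.1.map ((glEquiv h.1 : (ι → F) ≃ₗ[F] (ι → F)) : (ι → F) →ₗ[F] (ι → F))).map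
          ((glEquiv g.1 : (ι → F) ≃ₗ[F] (ι → F)) : (ι → F) →ₗ[F] (ι → F))
    rw [← Submodule.map_comp, Subgroup.coe_mul, map_mul]
    rfl)

theorem lbal_smul_mkPt (g : ↥(lbalSim Q)) {u : ι → F} (hu0 : u ≠ 0) (hu : Q u = 0) :
    g • mkPt Q u hu0 hu = mkPt Q (glEquiv g.1 u)
      (fun h => hu0 ((glEquiv g.1).map_eq_zero_iff.mp h)) (lbal_sim_singular Q g.2 hu) := by
  apply Subtype.ext
  show (Submodule.span F {u}).map ((glEquiv g.1 : (ι → F) ≃ₗ[F] (ι → F)) : (ι → F) →ₗ[F] (ι → F))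
    = Submodule.span F {glEquiv g.1 u}
  rw [Submodule.map_span, Set.image_singleton]
  rfl

/-- an isometry as an element of the similarity group -/
noncomputable def lbalOfIsom (k : ↥(Isom Q)) : ↥(lbalSim Q) :=
  ⟨glEquiv.symm k.1, 1, fun v => by
    have h1 : glEquiv (glEquiv.symm k.1) v = k.1 v := by rw [MulEquiv.apply_symm_apply]
    rw [glEquiv_apply] at h1
    rw [h1, Units.val_one, one_mul]
    exact k.2 v⟩

theorem lbalOfIsom_smul (k : ↥(Isom Q)) (p : SPt Q) : lbalOfIsom Q k • p = k • p := by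
  apply Subtype.ext
  show p.1.map ((glEquiv (glEquiv.symm k.1) : (ι → F) ≃ₗ[F] (ι → F)) : (ι → F) →ₗ[F] (ι → F))
    = p.1.map ((k.1 : (ι → F) ≃ₗ[F] (ι → F)) : (ι → F) →ₗ[F] (ι → F))
  rw [MulEquiv.apply_symm_apply]

/-- Witt index one: orthogonal singular vectors are proportional -/
def lbal_WittOne : Prop :=
  ∀ u a : ι → F, u ≠ 0 → Q u = 0 → Q a = 0 → QuadraticMap.polar Q u a = 0 →
    a ∈ Submodule.span F {u}

variable [Finite F]

/-- the isometry group is transitive on the singular points -/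
theorem lbal_isom_transitive (hQ : Nondeg Q) (h3 : 3 ≤ finrank F (ι → F)) (p p' : SPt Q) :
    ∃ k : ↥(Isom Q), k • p = p' := by
  obtain ⟨a, ha0, ha, rfl⟩ := exists_rep Q p
  obtain ⟨a', ha'0, ha', rfl⟩ := exists_rep Q p'
  obtain ⟨g, -, t, ht, hga⟩ := exists_SGW_smul Q ⊤ (nondegOn_top Q hQ)
    (by rw [finrank_top]; exact h3) (Submodule.mem_top (x := a)) (Submodule.mem_top (x := a'))
    ha ha' ha0 ha'0
  refine ⟨g, ?_⟩
  rw [smul_mkPt]
  exact (mkPt_eq_of_smul Q ha'0 ha' _ _ hga).symm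

/-- for Witt index one the stabiliser of a singular point is transitive on the other points -/
theorem lbal_stab_transitive (hW : lbal_WittOne Q) (p q q' : SPt Q) (hq : q ≠ p) (hq' : q' ≠ p) :
    ∃ k : ↥(Isom Q), k • p = p ∧ k • q = q' := by
  obtain ⟨u, hu0, hu, rfl⟩ := exists_rep Q p
  obtain ⟨a, ha0, ha, rfl⟩ := exists_rep Q q
  obtain ⟨a', ha'0, ha', rfl⟩ := exists_rep Q q'
  have hua : QuadraticMap.polar Q u a ≠ 0 := by
    intro h
    exact not_mem_span_of_ne Q hu0 hu ha0 ha hq (hW u a hu0 hu ha h)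
  have hua' : QuadraticMap.polar Q u a' ≠ 0 := by
    intro h
    exact not_mem_span_of_ne Q hu0 hu ha'0 ha' hq' (hW u a' hu0 hu ha' h)
  obtain ⟨g, -, hgu, t, ht, hga⟩ := exists_stab_nonperp Q hu ha ha' hua hua'
  refine ⟨g, ?_, ?_⟩
  · rw [smul_mkPt]
    exact (mkPt_eq_of_smul Q hu0 hu _ _ (by rw [hgu, one_smul] : (g : _ ≃ₗ[F] _) u = (1 : F) • u)).symm
  · rw [smul_mkPt]
    exact (mkPt_eq_of_smul Q ha'0 ha' _ _ hga).symm

/-- **2-transitivity** -/
theorem lbal_sim_two_transitive (hQ : Nondeg Q) (h3 : 3 ≤ finrank F (ι → F))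
    (hW : lbal_WittOne Q) : MulAction.IsMultiplyPretransitive ↥(lbalSim Q) (SPt Q) 2 := by
  rw [MulAction.is_two_pretransitive_iff]
  intro a b c d hab hcd
  obtain ⟨k₁, hk₁⟩ := lbal_isom_transitive Q hQ h3 a c
  have h1 : k₁ • b ≠ c := by
    intro h
    rw [← hk₁] at h
    exact hab (MulAction.injective k₁ h).symm
  obtain ⟨k₂, hk₂c, hk₂⟩ := lbal_stab_transitive Q hW c (k₁ • b) d h1 (Ne.symm hcd)
  refine ⟨lbalOfIsom Q (k₂ * k₁), ?_, ?_⟩
  · rw [lbalOfIsom_smul, mul_smul, hk₁, hk₂c]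
  · rw [lbalOfIsom_smul, mul_smul, hk₂]

end Cfsg.Agent.LBal
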