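import Mathlib
import Cfsg.Agent.LBal.WittOneA

set_option autoImplicit false
set_option linter.unusedSectionVars false

/-!
A linear map fixing every singular point of a nondegenerate quadratic space with a hyperbolic
pair is a scalar; the number of singular points of a space of Witt index one (helper8).
-/

namespace Cfsg.Agent.LBal

open Module Cfsg Cfsg.Agent.Helper8.QuadForm Cfsg.Agent.Helper8.OrthOrder
  Cfsg.Agent.Helper8.Siegel Cfsg.Agent.Helper8.SiegelGeom Cfsg.Agent.Helper8.SiegelGroup
  Cfsg.Agent.Helper8.SiegelPrim Cfsg.Agent.Helper8.SiegelSimple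

variable {F : Type*} [Field F] {V : Type*} [AddCommGroup V] [Module F V] (Q : QuadraticForm F V)

/-- the singular vector `e + w - Q(w) f` -/
def lbalU (e f w : V) : V := e + w - Q w • f

section pair

variable {e f : V} (he : Q e = 0) (hf : Q f = 0) (hef : QuadraticMap.polar Q e f = 1)

include he hf hef

theorem lbalU_singular {w : V} (hw : w ∈ perpPair Q e f) : Q (lbalU Q e f w) = 0 := by
  obtain ⟨h1, h2⟩ := (mem_perpPair Q e f w).mp hw
  unfold lbalU
  rw [sub_eq_add_neg, QuadraticMap.map_add Q, QuadraticMap.map_add Q, QuadraticMap.map_neg,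
    QuadraticMap.map_smul, he, hf, QuadraticMap.polar_neg_right, QuadraticMap.polar_smul_right,
    QuadraticMap.polar_add_left, hef, QuadraticMap.polar_comm Q w f, h2, h1]
  simp

theorem lbalU_polar_f (w : V) (hw : w ∈ perpPair Q e f) :
    QuadraticMap.polar Q (lbalU Q e f w) f = 1 := by
  obtain ⟨h1, h2⟩ := (mem_perpPair Q e f w).mp hw
  unfold lbalU
  rw [QuadraticMap.polar_sub_left, QuadraticMap.polar_add_left, QuadraticMap.polar_smul_left,
    polar_self', hf, hef, QuadraticMap.polar_comm Q w f, h2]
  simp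

theorem lbalU_ne_zero (w : V) (hw : w ∈ perpPair Q e f) : lbalU Q e f w ≠ 0 := by
  intro h
  have := lbalU_polar_f Q he hf hef w hw
  rw [h, QuadraticMap.polar_zero_left] at this
  exact zero_ne_one this

/-- decomposition along a hyperbolic pair -/
theorem lbal_decomp (x : V) :
    x - QuadraticMap.polar Q x f • e - QuadraticMap.polar Q x e • f ∈ perpPair Q e f := by
  rw [mem_perpPair]
  have hfe : QuadraticMap.polar Q f e = 1 := by rw [QuadraticMap.polar_comm]; exact hef
  constructor
  · rw [QuadraticMap.polar_sub_right, QuadraticMap.polar_sub_right, QuadraticMap.polar_smul_right,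
      QuadraticMap.polar_smul_right, polar_self', he, hef, QuadraticMap.polar_comm Q x e]
    simp
  · rw [QuadraticMap.polar_sub_right, QuadraticMap.polar_sub_right, QuadraticMap.polar_smul_right,
      QuadraticMap.polar_smul_right, polar_self', hf, hfe, QuadraticMap.polar_comm Q x f]
    simp

/-- comparing coefficients along `e, w, f` -/
theorem lbal_coeff {w : V} (hw : w ∈ perpPair Q e f) (hw0 : w ≠ 0) {a b c a' b' c' : F}
    (h : a • e + b • w + c • f = a' • e + b' • w + c' • f) : a = a' ∧ b = b' ∧ c = c' := by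
  obtain ⟨h1, h2⟩ := (mem_perpPair Q e f w).mp hw
  have hfe : QuadraticMap.polar Q f e = 1 := by rw [QuadraticMap.polar_comm]; exact hef
  have ha : a = a' := by
    have := congrArg (fun x => QuadraticMap.polar Q x f) h
    simp only [QuadraticMap.polar_add_left, QuadraticMap.polar_smul_left, hef, polar_self', hf,
      QuadraticMap.polar_comm Q w f, h2, smul_eq_mul, mul_zero, mul_one, add_zero] at this
    exact this
  have hc : c = c' := by
    have := congrArg (fun x => QuadraticMap.polar Q x e) h
    simp only [QuadraticMap.polar_add_left, QuadraticMap.polar_smul_left, hfe, polar_self', he,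
      QuadraticMap.polar_comm Q w e, h1, smul_eq_mul, mul_zero, mul_one, add_zero, zero_add]
      at this
    exact this
  refine ⟨ha, ?_, hc⟩
  rw [ha, hc] at h
  have h3 : (b - b') • w = 0 := by
    rw [sub_smul]
    have := add_right_cancel h
    have := add_left_cancel this
    rw [this, sub_self]
  rcases smul_eq_zero.mp h3 with h4 | h4
  · exact sub_eq_zero.mp h4
  · exact absurd h4 hw0


/-- the image of a vector of the orthogonal complement of the pair -/
theorem lbal_fix_key (g : V →ₗ[F] V) {s t : F} (hs : g e = s • e) (ht : g f = t • f)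
    (hfix : ∀ u, u ≠ 0 → Q u = 0 → ∃ l : F, g u = l • u) {w : V} (hw : w ∈ perpPair Q e f) :
    ∃ l : F, g w = (l - s) • e + l • w + (Q w * (t - l)) • f := by
  obtain ⟨l, hl⟩ := hfix _ (lbalU_ne_zero Q he hf hef w hw) (lbalU_singular Q he hf hef hw)
  refine ⟨l, ?_⟩
  unfold lbalU at hl
  rw [map_sub, map_add, map_smul, hs, ht] at hl
  have h1 : g w = l • (e + w - Q w • f) - s • e + Q w • t • f := by
    rw [← hl]
    abel
  rw [h1]
  module

theorem lbal_fix_key2 (h2 : (2 : F) ≠ 0) (g : V →ₗ[F] V) {s t : F} (hs : g e = s • e)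
    (ht : g f = t • f) (hfix : ∀ u, u ≠ 0 → Q u = 0 → ∃ l : F, g u = l • u) {w : V}
    (hw : w ∈ perpPair Q e f) (hw0 : w ≠ 0) :
    g w = s • w + (Q w * (t - s)) • f ∧ (Q w = 0 ∨ t = s) := by
  obtain ⟨l, hl⟩ := lbal_fix_key Q he hf hef g hs ht hfix hw
  have hnw : -w ∈ perpPair Q e f := (perpPair Q e f).neg_mem hw
  obtain ⟨l', hl'⟩ := lbal_fix_key Q he hf hef g hs ht hfix hnw
  rw [map_neg, hl, QuadraticMap.map_neg] at hl'
  have h3 : (-(l - s)) • e + (-l) • w + (-(Q w * (t - l))) • f =
      (l' - s) • e + (-l') • w + (Q w * (t - l')) • f := by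
    have h4 : (-(l - s)) • e + (-l) • w + (-(Q w * (t - l))) • f =
        -((l - s) • e + l • w + (Q w * (t - l)) • f) := by module
    have h5 : (l' - s) • e + l' • -w + (Q w * (t - l')) • f =
        (l' - s) • e + (-l') • w + (Q w * (t - l')) • f := by module
    rw [h4, hl', h5]
  obtain ⟨c1, c2, c3⟩ := lbal_coeff Q he hf hef hw hw0 h3
  have hll : l' = l := by
    have := neg_injective c2
    exact this.symm
  rw [hll] at c1 c3
  have hls : l = s := by
    have h4 : (2 : F) * (l - s) = 0 := by linear_combination -c1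
    rcases mul_eq_zero.mp h4 with h5 | h5
    · exact absurd h5 h2
    · exact sub_eq_zero.mp h5
  have h6 : (2 : F) * (Q w * (t - l)) = 0 := by linear_combination -c3
  refine ⟨?_, ?_⟩
  · rw [hl, hls, sub_self, zero_smul, zero_add]
  · rcases mul_eq_zero.mp h6 with h5 | h5
    · exact absurd h5 h2
    · rcases mul_eq_zero.mp h5 with h7 | h7
      · exact Or.inl h7
      · right
        rw [← hls]
        exact sub_eq_zero.mp h7

/-- **a linear map fixing every singular point is a scalar** -/
theorem lbal_scalar_of_fix (h2 : (2 : F) ≠ 0) (hex : ∃ w ∈ perpPair Q e f, Q w ≠ 0)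
    (g : V →ₗ[F] V) (hfix : ∀ u, u ≠ 0 → Q u = 0 → ∃ l : F, g u = l • u) :
    ∃ l : F, ∀ x, g x = l • x := by
  have he0 : e ≠ 0 := by
    rintro rfl
    rw [QuadraticMap.polar_zero_left] at hef
    exact zero_ne_one hef
  have hf0 : f ≠ 0 := by
    rintro rfl
    rw [QuadraticMap.polar_zero_right] at hef
    exact zero_ne_one hef
  obtain ⟨s, hs⟩ := hfix e he0 he
  obtain ⟨t, ht⟩ := hfix f hf0 hf
  obtain ⟨w₀, hw₀, hQw₀⟩ := hex
  have hw₀0 : w₀ ≠ 0 := by
    rintro rfl
    exact hQw₀ (QuadraticMap.map_zero Q)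
  have hts : t = s := by
    rcases (lbal_fix_key2 Q he hf hef h2 g hs ht hfix hw₀ hw₀0).2 with h | h
    · exact absurd h hQw₀
    · exact h
  have hW : ∀ w ∈ perpPair Q e f, g w = s • w := by
    intro w hw
    by_cases hw0 : w = 0
    · rw [hw0, map_zero, smul_zero]
    · rw [(lbal_fix_key2 Q he hf hef h2 g hs ht hfix hw hw0).1, hts, sub_self, mul_zero,
        zero_smul, add_zero]
  refine ⟨s, fun x => ?_⟩
  have hd := lbal_decomp Q he hf hef x
  have h1 : x = (x - QuadraticMap.polar Q x f • e - QuadraticMap.polar Q x e • f) +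
      QuadraticMap.polar Q x f • e + QuadraticMap.polar Q x e • f := by abel
  rw [h1, map_add, map_add, hW _ hd, map_smul, map_smul, hs, ht, hts]
  module

end pair

end Cfsg.Agent.LBal
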