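import Mathlib
import Cfsg.Agent.LBal.WittOneB

set_option autoImplicit false
set_option linter.unusedSectionVars false

/-!
The number of singular points of a quadratic space of Witt index one over a finite field of odd
order is even (helper8).
-/

namespace Cfsg.Agent.LBal

open Module Cfsg Cfsg.Agent.Helper8.QuadForm Cfsg.Agent.Helper8.OrthOrder
  Cfsg.Agent.Helper8.Siegel Cfsg.Agent.Helper8.SiegelGeom Cfsg.Agent.Helper8.SiegelGroup
  Cfsg.Agent.Helper8.SiegelPrim Cfsg.Agent.Helper8.SiegelSimple

variable {F : Type*} [Field F] {V : Type*} [AddCommGroup V] [Module F V] (Q : QuadraticForm F V)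

section pair

variable {e f : V} (he : Q e = 0) (hf : Q f = 0) (hef : QuadraticMap.polar Q e f = 1)

include he hf hef

theorem lbal_f_ne_zero : f ≠ 0 := by
  rintro rfl
  rw [QuadraticMap.polar_zero_right] at hef
  exact zero_ne_one hef

/-- the parametrisation of the singular points -/
noncomputable def lbalPsi : Option ↥(perpPair Q e f) → SPt Q
  | none => mkPt Q f (lbal_f_ne_zero Q he hf hef) hf
  | some w => mkPt Q (lbalU Q e f w) (lbalU_ne_zero Q he hf hef w w.2)
      (lbalU_singular Q he hf hef w.2)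

theorem lbalPsi_injective : Function.Injective (lbalPsi Q he hf hef) := by
  have hff : QuadraticMap.polar Q f f = 0 := by rw [polar_self', hf, mul_zero]
  have hfe : QuadraticMap.polar Q f e = 1 := by rw [QuadraticMap.polar_comm]; exact hef
  have hns : ∀ w : ↥(perpPair Q e f), lbalPsi Q he hf hef none ≠ lbalPsi Q he hf hef (some w) := by
    intro w h
    obtain ⟨t, -, ht⟩ := (mkPt_eq_iff Q (lbal_f_ne_zero Q he hf hef) hf
      (lbalU_ne_zero Q he hf hef w w.2) (lbalU_singular Q he hf hef w.2)).mp h
    have h1 := lbalU_polar_f Q he hf hef w w.2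
    rw [ht, QuadraticMap.polar_smul_left, hff, smul_zero] at h1
    exact zero_ne_one h1
  intro x y hxy
  rcases x with _ | w <;> rcases y with _ | w'
  · rfl
  · exact absurd hxy (hns w')
  · exact absurd hxy.symm (hns w)
  · obtain ⟨t, -, ht⟩ := (mkPt_eq_iff Q (lbalU_ne_zero Q he hf hef w w.2)
      (lbalU_singular Q he hf hef w.2) (lbalU_ne_zero Q he hf hef w' w'.2)
      (lbalU_singular Q he hf hef w'.2)).mp hxy
    have h1 := lbalU_polar_f Q he hf hef w' w'.2
    rw [ht, QuadraticMap.polar_smul_left, lbalU_polar_f Q he hf hef w w.2, smul_eq_mul,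
      mul_one] at h1
    rw [h1, one_smul] at ht
    unfold lbalU at ht
    have h2 : (w' : V) - (w : V) = (Q (w' : V) - Q (w : V)) • f := by
      have : (w' : V) - (w : V) = (e + (w' : V) - Q (w' : V) • f) - (e + (w : V) - Q (w : V) • f)
          + (Q (w' : V) - Q (w : V)) • f := by module
      rw [this, ht, sub_self, zero_add]
    have h3 : QuadraticMap.polar Q ((w' : V) - (w : V)) e = 0 := by
      rw [QuadraticMap.polar_sub_left, QuadraticMap.polar_comm Q (w' : V) e,
        QuadraticMap.polar_comm Q (w : V) e, ((mem_perpPair Q e f _).mp w'.2).1,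
        ((mem_perpPair Q e f _).mp w.2).1, sub_zero]
    rw [h2, QuadraticMap.polar_smul_left, hfe, smul_eq_mul, mul_one] at h3
    rw [h3, zero_smul, sub_eq_zero] at h2
    congr 1
    exact (Subtype.ext h2).symm

theorem lbalPsi_surjective
    (hW : ∀ u a : V, u ≠ 0 → Q u = 0 → Q a = 0 → QuadraticMap.polar Q u a = 0 →
      a ∈ Submodule.span F {u}) : Function.Surjective (lbalPsi Q he hf hef) := by
  have hf0 := lbal_f_ne_zero Q he hf hef
  have hfe : QuadraticMap.polar Q f e = 1 := by rw [QuadraticMap.polar_comm]; exact hef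
  have hff : QuadraticMap.polar Q f f = 0 := by rw [polar_self', hf, mul_zero]
  intro p
  obtain ⟨u, hu0, hu, rfl⟩ := exists_rep Q p
  by_cases hc : QuadraticMap.polar Q u f = 0
  · refine ⟨none, ?_⟩
    have h1 := hW f u hf0 hf hu (by rw [QuadraticMap.polar_comm]; exact hc)
    obtain ⟨t, ht⟩ := Submodule.mem_span_singleton.mp h1
    exact mkPt_eq_of_smul Q hf0 hf hu0 hu ht.symm
  · obtain ⟨c, hcdef⟩ : ∃ c : F, c = QuadraticMap.polar Q u f := ⟨_, rfl⟩
    rw [← hcdef] at hc
    obtain ⟨u', hu'⟩ : ∃ u' : V, u' = c⁻¹ • u := ⟨_, rfl⟩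
    have hu'f : QuadraticMap.polar Q u' f = 1 := by
      rw [hu', QuadraticMap.polar_smul_left, ← hcdef, smul_eq_mul, inv_mul_cancel₀ hc]
    have hQu' : Q u' = 0 := by rw [hu', QuadraticMap.map_smul, hu, smul_zero]
    obtain ⟨b, hb⟩ : ∃ b : F, b = QuadraticMap.polar Q u' e := ⟨_, rfl⟩
    obtain ⟨w, hw⟩ : ∃ w : V, w = u' - QuadraticMap.polar Q u' f • e -
        QuadraticMap.polar Q u' e • f := ⟨_, rfl⟩
    have hwm : w ∈ perpPair Q e f := by
      rw [hw]
      exact lbal_decomp Q he hf hef u'
    rw [hu'f, one_smul, ← hb] at hw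
    have hu'w : u' = e + w + b • f := by
      rw [hw]
      abel
    obtain ⟨h1, h2⟩ := (mem_perpPair Q e f w).mp hwm
    have hbQ : b = -Q w := by
      have h3 := hQu'
      rw [hu'w, QuadraticMap.map_add Q, QuadraticMap.map_add Q, QuadraticMap.map_smul, he, hf,
        QuadraticMap.polar_smul_right, QuadraticMap.polar_add_left, hef,
        QuadraticMap.polar_comm Q w f, h2, h1] at h3
      simp only [smul_eq_mul, mul_zero, zero_add, add_zero, mul_one] at h3
      exact eq_neg_of_add_eq_zero_right h3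
    refine ⟨some ⟨w, hwm⟩, ?_⟩
    show mkPt Q (lbalU Q e f w) (lbalU_ne_zero Q he hf hef w hwm)
      (lbalU_singular Q he hf hef hwm) = mkPt Q u hu0 hu
    have h4 : u = c • lbalU Q e f w := by
      have : lbalU Q e f w = u' := by
        rw [hu'w, hbQ]
        unfold lbalU
        rw [neg_smul, sub_eq_add_neg]
      rw [this, hu', smul_smul, mul_inv_cancel₀ hc, one_smul]
    exact mkPt_eq_of_smul Q _ _ hu0 hu h4

end pair

/-- **the number of singular points of a space of Witt index one is even** -/
theorem lbal_even_card_SPt [Fintype F] [FiniteDimensional F V] (hodd : Odd (Fintype.card F))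
    {e f : V} (he : Q e = 0) (hf : Q f = 0) (hef : QuadraticMap.polar Q e f = 1)
    (hW : ∀ u a : V, u ≠ 0 → Q u = 0 → Q a = 0 → QuadraticMap.polar Q u a = 0 →
      a ∈ Submodule.span F {u}) : Even (Nat.card (SPt Q)) := by
  have : Finite V := Module.finite_of_finite F
  have hbij : Function.Bijective (lbalPsi Q he hf hef) :=
    ⟨lbalPsi_injective Q he hf hef, lbalPsi_surjective Q he hf hef hW⟩
  rw [← Nat.card_congr (Equiv.ofBijective _ hbij), Finite.card_option,
    Module.natCard_eq_pow_finrank (K := F) (V := ↥(perpPair Q e f)), Nat.card_eq_fintype_card]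
  exact Odd.add_one (Odd.pow hodd)

end Cfsg.Agent.LBal
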