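import Mathlib
import Cfsg.Agent.LBal.WittOneC
import Cfsg.Agent.Helper8.OmegaStd

set_option autoImplicit false
set_option linter.unusedSectionVars false

/-!
`PGO(Q)` has no nontrivial normal subgroup of odd order when `Q` is a nondegenerate quadratic form
of Witt index one in dimension at least three over a finite field of odd order (helper8).
-/

namespace Cfsg.Agent.LBal

open Module Cfsg Cfsg.Agent.Helper8.QuadForm Cfsg.Agent.Helper8.OrthOrder
  Cfsg.Agent.Helper8.Siegel Cfsg.Agent.Helper8.SiegelGeom Cfsg.Agent.Helper8.SiegelGroup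
  Cfsg.Agent.Helper8.SiegelPrim Cfsg.Agent.Helper8.SiegelSimple Cfsg.Agent.Helper8.ReflMatrix

variable {F : Type*} [Field F] [Fintype F] {ι : Type} [Fintype ι] [DecidableEq ι]
  (Q : QuadraticForm F (ι → F))

/-- an element of the similarity group fixing every singular point is a scalar matrix -/
theorem lbal_mem_scalars_of_fix (hodd : Odd (Fintype.card F)) (hQ : Nondeg Q)
    (h3 : 3 ≤ finrank F (ι → F)) (hW : lbal_WittOne Q) (g : ↥(lbalSim Q))
    (hfix : ∀ p : SPt Q, g • p = p) : (g : GL ι F) ∈ Geo.scalars ι F := by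
  have h2 : (2 : F) ≠ 0 := Cfsg.Agent.Helper8.OmegaStd.two_ne_zero_of_odd hodd
  obtain ⟨e, he0, he⟩ := exists_singular Q h3
  obtain ⟨f, hf, hef⟩ := exists_hyperbolic_pair Q hQ he0 he
  have hfe : QuadraticMap.polar Q f e = 1 := by rw [QuadraticMap.polar_comm]; exact hef
  -- a nonsingular vector orthogonal to the pair
  have hex : ∃ w ∈ perpPair Q e f, Q w ≠ 0 := by
    have hrk := finrank_perpPair Q he hf hef
    have hpos : 0 < finrank F ↥(perpPair Q e f) := by omega
    obtain ⟨w, hw0⟩ := Module.finrank_pos_iff_exists_ne_zero.mp hpos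
    refine ⟨w, w.2, ?_⟩
    intro hQw
    obtain ⟨h1, h2'⟩ := (mem_perpPair Q e f w).mp w.2
    have h4 := hW e w he0 he hQw h1
    obtain ⟨t, ht⟩ := Submodule.mem_span_singleton.mp h4
    rw [← ht, QuadraticMap.polar_smul_right, hfe, smul_eq_mul, mul_one] at h2'
    rw [h2', zero_smul] at ht
    exact hw0 (Subtype.ext ht.symm)
  have hfix' : ∀ u, u ≠ 0 → Q u = 0 →
      ∃ l : F, ((glEquiv g.1 : (ι → F) ≃ₗ[F] (ι → F)) : (ι → F) →ₗ[F] (ι → F)) u = l • u := by
    intro u hu0 hu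
    have h1 := hfix (mkPt Q u hu0 hu)
    rw [lbal_smul_mkPt] at h1
    obtain ⟨t, -, ht⟩ := (mkPt_eq_iff Q _ _ hu0 hu).mp h1
    refine ⟨t⁻¹, ?_⟩
    have ht0 : t ≠ 0 := by
      rintro rfl
      rw [zero_smul] at ht
      exact hu0 ht
    show glEquiv g.1 u = t⁻¹ • u
    rw [eq_comm, inv_smul_eq_iff₀ ht0]
    exact ht
  obtain ⟨l, hl⟩ := lbal_scalar_of_fix Q he hf hef h2 hex _ hfix'
  have hl0 : l ≠ 0 := by
    rintro rfl
    have := hl e
    rw [zero_smul] at this
    exact he0 ((glEquiv g.1).map_eq_zero_iff.mp this)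
  rw [Geo.mem_scalars_iff]
  refine ⟨Units.mk0 l hl0, ?_⟩
  apply matrix_ext
  intro x
  have := hl x
  rw [Units.val_mk0, Matrix.smul_mulVec, Matrix.one_mulVec]
  exact this

/-- **no normal subgroups of odd order in `PGO(Q)` for Witt index one** -/
theorem lbal_noCore_pgo_wittOne (hodd : Odd (Fintype.card F)) (hQ : Nondeg Q)
    (h3 : 3 ≤ finrank F (ι → F)) (hW : lbal_WittOne Q) : lbal_NoCore 2 (Cfsg.PGO F ⇑Q) := by
  intro N hN hcop
  have hprim : MulAction.IsPreprimitive ↥(lbalSim Q) (SPt Q) :=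
    MulAction.isPreprimitive_of_is_two_pretransitive (lbal_sim_two_transitive Q hQ h3 hW)
  obtain ⟨Nt, hNt⟩ : ∃ Nt : Subgroup ↥(lbalSim Q),
      Nt = N.comap (QuotientGroup.mk' ((Geo.scalars ι F).subgroupOf (lbalSim Q))) := ⟨_, rfl⟩
  have hNtn : Nt.Normal := by rw [hNt]; exact hN.comap _
  have hmemNt : ∀ g : ↥(lbalSim Q), g ∈ Nt ↔
      (QuotientGroup.mk g : Cfsg.PGO F ⇑Q) ∈ N := by
    intro g
    rw [hNt]
    rfl
  -- scalar matrices act trivially
  have hscal : ∀ g : ↥(lbalSim Q), (g : GL ι F) ∈ Geo.scalars ι F → ∀ p : SPt Q, g • p = p := by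
    intro g hg p
    obtain ⟨c, hc⟩ := (Geo.mem_scalars_iff _).mp hg
    obtain ⟨u, hu0, hu, rfl⟩ := exists_rep Q p
    rw [lbal_smul_mkPt]
    refine (mkPt_eq_of_smul Q hu0 hu _ _ (t := (c : F)) ?_).symm
    rw [glEquiv_apply, hc, Matrix.smul_mulVec, Matrix.one_mulVec]
  by_cases hfp : MulAction.fixedPoints ↥Nt (SPt Q) = Set.univ
  · -- every element of `Nt` is a scalar
    rw [Subgroup.eq_bot_iff_forall]
    intro x hx
    obtain ⟨g, rfl⟩ := QuotientGroup.mk_surjective x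
    have hg : g ∈ Nt := (hmemNt g).mpr hx
    rw [QuotientGroup.eq_one_iff, Subgroup.mem_subgroupOf]
    apply lbal_mem_scalars_of_fix Q hodd hQ h3 hW g
    intro p
    have hp : p ∈ MulAction.fixedPoints ↥Nt (SPt Q) := by rw [hfp]; exact Set.mem_univ p
    exact hp ⟨g, hg⟩
  · -- `Nt` is transitive: contradiction with the parity
    exfalso
    have htr : MulAction.IsPretransitive ↥Nt (SPt Q) :=
      MulAction.IsQuasiPreprimitive.isPretransitive_of_normal hfp
    have h2 : (2 : F) ≠ 0 := Cfsg.Agent.Helper8.OmegaStd.two_ne_zero_of_odd hodd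
    obtain ⟨e, he0, he⟩ := exists_singular Q h3
    obtain ⟨f, hf, hef⟩ := exists_hyperbolic_pair Q hQ he0 he
    have heven : Even (Nat.card (SPt Q)) := lbal_even_card_SPt Q hodd he hf hef hW
    obtain ⟨p₀⟩ : Nonempty (SPt Q) := ⟨mkPt Q e he0 he⟩
    have hidx := MulAction.index_stabilizer_of_transitive ↥Nt p₀
    -- the restriction of the quotient map to `Nt`
    obtain ⟨φ, hφ⟩ : ∃ φ : ↥Nt →* ↥N, ∀ g : ↥Nt,
        ((φ g : ↥N) : Cfsg.PGO F ⇑Q) = QuotientGroup.mk (g : ↥(lbalSim Q)) := by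
      refine ⟨((QuotientGroup.mk' ((Geo.scalars ι F).subgroupOf (lbalSim Q))).comp
        Nt.subtype).codRestrict N (fun g => (hmemNt g.1).mp g.2), fun g => rfl⟩
    have hφsurj : Function.Surjective φ := by
      rintro ⟨x, hx⟩
      obtain ⟨g, rfl⟩ := QuotientGroup.mk_surjective x
      exact ⟨⟨g, (hmemNt g).mpr hx⟩, Subtype.ext (hφ _)⟩
    have hker : φ.ker ≤ MulAction.stabilizer ↥Nt p₀ := by
      intro g hg
      rw [MonoidHom.mem_ker] at hg
      have h1 : (QuotientGroup.mk (g : ↥(lbalSim Q)) : Cfsg.PGO F ⇑Q) = 1 := by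
        rw [← hφ, hg]
        rfl
      rw [QuotientGroup.eq_one_iff, Subgroup.mem_subgroupOf] at h1
      rw [MulAction.mem_stabilizer_iff]
      exact hscal g.1 h1 p₀
    have h5 : (MulAction.stabilizer ↥Nt p₀).index ∣ φ.ker.index := Subgroup.index_dvd_of_le hker
    rw [hidx, Subgroup.index_ker, MonoidHom.range_eq_top.mpr hφsurj, Subgroup.card_top] at h5
    have h6 : 2 ∣ Nat.card ↥N := (even_iff_two_dvd.mp heven).trans h5
    have h7 := Nat.dvd_gcd h6 (dvd_refl 2)
    rw [hcop] at h7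
    exact absurd h7 (by norm_num)

end Cfsg.Agent.LBal
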