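import Mathlib
import Cfsg.Agent.LBal.WittOneD
import Cfsg.Agent.Helper8.StdForms

set_option autoImplicit false
set_option linter.unusedSectionVars false

/-!
A hyperbolic pair with anisotropic orthogonal complement gives Witt index one; the small
orthogonal pieces P6a′ (dimension 3) and P6c′ (dimension 4, minus type) of S2686 (helper8).
-/

namespace Cfsg.Agent.LBal

open Module Cfsg Cfsg.Agent.Helper8.QuadForm Cfsg.Agent.Helper8.OrthOrder
  Cfsg.Agent.Helper8.SiegelPrim Cfsg.Agent.Helper8.StdForms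

section abstract

variable {F : Type*} [Field F] {V : Type*} [AddCommGroup V] [Module F V] (Q : QuadraticForm F V)
  {e f : V} (he : Q e = 0) (hf : Q f = 0) (hef : QuadraticMap.polar Q e f = 1)
  (han : ∀ w ∈ perpPair Q e f, Q w = 0 → w = 0)

include he hf hef han

/-- a singular vector orthogonal to `f` is a multiple of `f` -/
theorem lbal_mem_span_f {x : V} (hx : Q x = 0) (hxf : QuadraticMap.polar Q x f = 0) :
    x ∈ Submodule.span F {f} := by
  have hd := lbal_decomp Q he hf hef x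
  rw [hxf, zero_smul, sub_zero] at hd
  obtain ⟨b, hb⟩ : ∃ b : F, b = QuadraticMap.polar Q x e := ⟨_, rfl⟩
  rw [← hb] at hd
  obtain ⟨h1, h2⟩ := (mem_perpPair Q e f _).mp hd
  have hQ : Q (x - b • f) = 0 := by
    have h3 : x = (x - b • f) + b • f := by abel
    have h4 := hx
    rw [h3, QuadraticMap.map_add Q, QuadraticMap.map_smul, hf, QuadraticMap.polar_smul_right,
      QuadraticMap.polar_comm Q _ f, h2] at h4
    simpa using h4
  have h5 := han _ hd hQ
  rw [Submodule.mem_span_singleton]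
  exact ⟨b, (sub_eq_zero.mp h5).symm⟩

/-- **Witt index one** -/
theorem lbal_wittOne_of_aniso (u a : V) (hu0 : u ≠ 0) (hu : Q u = 0) (ha : Q a = 0)
    (hua : QuadraticMap.polar Q u a = 0) : a ∈ Submodule.span F {u} := by
  have huu : QuadraticMap.polar Q u u = 0 := by rw [polar_self', hu, mul_zero]
  by_cases huf : QuadraticMap.polar Q u f = 0
  · obtain ⟨b, hb⟩ := Submodule.mem_span_singleton.mp (lbal_mem_span_f Q he hf hef han hu huf)
    have hb0 : b ≠ 0 := by
      rintro rfl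
      rw [zero_smul] at hb
      exact hu0 hb.symm
    have haf : QuadraticMap.polar Q a f = 0 := by
      rw [← hb, QuadraticMap.polar_smul_left, smul_eq_mul] at hua
      rw [QuadraticMap.polar_comm]
      exact (mul_eq_zero.mp hua).resolve_left hb0
    obtain ⟨c, hc⟩ := Submodule.mem_span_singleton.mp (lbal_mem_span_f Q he hf hef han ha haf)
    rw [Submodule.mem_span_singleton]
    refine ⟨c * b⁻¹, ?_⟩
    rw [← hb, smul_smul, mul_assoc, inv_mul_cancel₀ hb0, mul_one, hc]
  · obtain ⟨c, hc⟩ : ∃ c : F, c = QuadraticMap.polar Q a f / QuadraticMap.polar Q u f := ⟨_, rfl⟩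
    have hxQ : Q (a - c • u) = 0 := by
      rw [sub_eq_add_neg, QuadraticMap.map_add Q, QuadraticMap.map_neg, QuadraticMap.map_smul, ha,
        hu, QuadraticMap.polar_neg_right, QuadraticMap.polar_smul_right,
        QuadraticMap.polar_comm Q a u, hua]
      simp
    have hxf : QuadraticMap.polar Q (a - c • u) f = 0 := by
      rw [QuadraticMap.polar_sub_left, QuadraticMap.polar_smul_left, hc, smul_eq_mul,
        div_mul_cancel₀ _ huf, sub_self]
    obtain ⟨b, hb⟩ := Submodule.mem_span_singleton.mp (lbal_mem_span_f Q he hf hef han hxQ hxf)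
    by_cases hb0 : b = 0
    · rw [hb0, zero_smul] at hb
      rw [Submodule.mem_span_singleton]
      exact ⟨c, (sub_eq_zero.mp hb.symm).symm⟩
    · exfalso
      apply huf
      have h1 : QuadraticMap.polar Q u (a - c • u) = 0 := by
        rw [QuadraticMap.polar_sub_right, QuadraticMap.polar_smul_right, hua, huu]
        simp
      rw [← hb, QuadraticMap.polar_smul_right, smul_eq_mul] at h1
      exact (mul_eq_zero.mp h1).resolve_left hb0

end abstract

section small

variable {F : Type*} [Field F] [Fintype F]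

/-- **P6a′: dimension three** -/
theorem lbal_noCore_pgo_odd_small (hodd : Odd (Fintype.card F)) :
    lbal_NoCore 2 (Cfsg.PGO F (Cfsg.quadFormOdd 1 F)) := by
  classical
  have h2 : (2 : F) ≠ 0 := Cfsg.Agent.Helper8.OmegaStd.two_ne_zero_of_odd hodd
  have hQeq : Cfsg.quadFormOdd 1 F = ⇑(oddForm F 1) :=
    funext (fun v => (oddForm_apply F 1 v).symm)
  rw [hQeq]
  have hQ : Nondeg (oddForm F 1) := (nondeg_iff _).mp (oddForm_nondeg F 1 h2)
  have h3 : 3 ≤ finrank F (Unit ⊕ (Fin 1 ⊕ Fin 1) → F) := by rw [finrank_odd]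
  refine lbal_noCore_pgo_wittOne (oddForm F 1) hodd hQ h3 ?_
  obtain ⟨e, he⟩ : ∃ e : Unit ⊕ (Fin 1 ⊕ Fin 1) → F, e = Pi.single (Sum.inr (Sum.inl 0)) 1 :=
    ⟨_, rfl⟩
  obtain ⟨f, hf⟩ : ∃ f : Unit ⊕ (Fin 1 ⊕ Fin 1) → F, f = Pi.single (Sum.inr (Sum.inr 0)) 1 :=
    ⟨_, rfl⟩
  have hQe : oddForm F 1 e = 0 := by
    rw [oddForm_apply, he]
    simp [Cfsg.quadFormOdd, Pi.single_apply]
  have hQf : oddForm F 1 f = 0 := by
    rw [oddForm_apply, hf]
    simp [Cfsg.quadFormOdd, Pi.single_apply]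
  have hef : QuadraticMap.polar (oddForm F 1) e f = 1 := by
    rw [polar_oddForm, he, hf]
    simp [Pi.single_apply]
  refine lbal_wittOne_of_aniso (oddForm F 1) hQe hQf hef ?_
  intro w hw hQw
  obtain ⟨h1, h2'⟩ := (mem_perpPair _ e f w).mp hw
  rw [polar_oddForm, he] at h1
  rw [polar_oddForm, hf] at h2'
  simp [Pi.single_apply] at h1 h2'
  rw [oddForm_apply] at hQw
  simp [Cfsg.quadFormOdd, h1, h2'] at hQw
  funext k
  rcases k with k | k | k
  · exact hQw
  · rw [Subsingleton.elim k 0]; exact h2'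
  · rw [Subsingleton.elim k 0]; exact h1

/-- **P6c′: dimension four, minus type** -/
theorem lbal_noCore_pgo_minus_small (hodd : Odd (Fintype.card F)) (a b : F)
    (hab : ∀ z₁ z₂ : F, z₁ ^ 2 + a * z₁ * z₂ + b * z₂ ^ 2 = 0 → z₁ = 0 ∧ z₂ = 0) :
    lbal_NoCore 2 (Cfsg.PGO F (Cfsg.quadFormMinus 1 F a b)) := by
  classical
  have hQeq : Cfsg.quadFormMinus 1 F a b = ⇑(minusForm F 1 a b) :=
    funext (fun v => (minusForm_apply F 1 a b v).symm)
  rw [hQeq]
  have hQ : Nondeg (minusForm F 1 a b) := (nondeg_iff _).mp (minusForm_nondeg F 1 hab)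
  have h3 : 3 ≤ finrank F ((Fin 1 ⊕ Fin 1) ⊕ Fin 2 → F) := by rw [finrank_minus]; omega
  refine lbal_noCore_pgo_wittOne (minusForm F 1 a b) hodd hQ h3 ?_
  obtain ⟨e, he⟩ : ∃ e : (Fin 1 ⊕ Fin 1) ⊕ Fin 2 → F, e = Pi.single (Sum.inl (Sum.inl 0)) 1 :=
    ⟨_, rfl⟩
  obtain ⟨f, hf⟩ : ∃ f : (Fin 1 ⊕ Fin 1) ⊕ Fin 2 → F, f = Pi.single (Sum.inl (Sum.inr 0)) 1 :=
    ⟨_, rfl⟩
  have hQe : minusForm F 1 a b e = 0 := by
    rw [minusForm_apply, he]
    simp [Cfsg.quadFormMinus, Pi.single_apply]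
  have hQf : minusForm F 1 a b f = 0 := by
    rw [minusForm_apply, hf]
    simp [Cfsg.quadFormMinus, Pi.single_apply]
  have hef : QuadraticMap.polar (minusForm F 1 a b) e f = 1 := by
    rw [polar_minusForm, he, hf]
    simp [Pi.single_apply]
  refine lbal_wittOne_of_aniso (minusForm F 1 a b) hQe hQf hef ?_
  intro w hw hQw
  obtain ⟨h1, h2'⟩ := (mem_perpPair _ e f w).mp hw
  rw [polar_minusForm, he] at h1
  rw [polar_minusForm, hf] at h2'
  simp [Pi.single_apply] at h1 h2'
  rw [minusForm_apply] at hQw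
  simp [Cfsg.quadFormMinus, h1, h2'] at hQw
  obtain ⟨h4, h5⟩ := hab _ _ hQw
  funext k
  rcases k with (k | k) | k
  · rw [Subsingleton.elim k 0]; exact h2'
  · rw [Subsingleton.elim k 0]; exact h1
  · fin_cases k
    · exact h4
    · exact h5

end small

end Cfsg.Agent.LBal
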