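import Mathlib
import Cfsg.Agent.LBal.PGOCoreBig
import Cfsg.Agent.LBal.WittOneE

/-!
# LBal P6c: `PGO⁻_{2m}(q)`, `q` odd, has no nontrivial normal subgroup of odd order (helper9)

`m = 2` is helper8's Witt-index-one argument (`lbal_noCore_pgo_minus_small`), `m ≥ 3` the generic
core (`lbal_noCore_pgo_minus_big`).
-/

set_option autoImplicit false

namespace Cfsg.Agent.LBal

open Cfsg

/-- **P6c.** -/
theorem lbal_noCore_pgo_minus {F : Type*} [Field F] [Fintype F] (hodd : Odd (Fintype.card F))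
    {m : ℕ} (hm : 2 ≤ m) (a b : F)
    (hab : ∀ z₁ z₂ : F, z₁ ^ 2 + a * z₁ * z₂ + b * z₂ ^ 2 = 0 → z₁ = 0 ∧ z₂ = 0) :
    lbal_NoCore 2 (Cfsg.PGO F (Cfsg.quadFormMinus (m - 1) F a b)) := by
  rcases (show m = 2 ∨ 3 ≤ m by omega) with rfl | h
  · exact lbal_noCore_pgo_minus_small hodd a b hab
  · exact lbal_noCore_pgo_minus_big hodd h a b hab

end Cfsg.Agent.LBal
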