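import Mathlib
import Cfsg.Agent.LBal.PGOCoreBig
import Cfsg.Agent.LBal.WittOneE

/-!
# LBal P6a: `PGO_{2m+1}(q)`, `q` odd, has no nontrivial normal subgroup of odd order (helper9)

`m = 1` is helper8's Witt-index-one argument (`lbal_noCore_pgo_odd_small`), `m ≥ 2` the generic
core (`lbal_noCore_pgo_odd_big`).
-/

set_option autoImplicit false

namespace Cfsg.Agent.LBal

open Cfsg

/-- **P6a.** -/
theorem lbal_noCore_pgo_odd {F : Type*} [Field F] [Fintype F] (hodd : Odd (Fintype.card F))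
    {m : ℕ} (hm : 1 ≤ m) : lbal_NoCore 2 (Cfsg.PGO F (Cfsg.quadFormOdd m F)) := by
  rcases (show m = 1 ∨ 2 ≤ m by omega) with rfl | h
  · exact lbal_noCore_pgo_odd_small hodd
  · exact lbal_noCore_pgo_odd_big hodd h

end Cfsg.Agent.LBal
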