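import Mathlib
import Cfsg.Agent.LBal.PGOCoreGen

/-!
# LBal P6: reduction `NoCore 2 (PΩ(Q)) → NoCore 2 (PGO(Q))` in dimension at least four (helper9)

No perfectness or simplicity of `Ω(Q)` is used, so the statement also covers `q = 3`.
-/

set_option autoImplicit false

namespace Cfsg.Agent.LBal

open Subgroup

/-- conjugating by a power: if `g s g⁻¹ = c s` with `c` commuting with `g`, then
`g^k s g^{-k} = c^k s`. -/
theorem lbal_red_pow_conj {Γ : Type*} [Group Γ] (g s c : Γ) (hc : g * c = c * g)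
    (h : g * s * g⁻¹ = c * s) (k : ℕ) : g ^ k * s * (g ^ k)⁻¹ = c ^ k * s := by
  induction k with
  | zero => simp
  | succ k ih =>
    have hck : g * c ^ k = c ^ k * g := by
      have : Commute g c := hc
      exact (this.pow_right k).eq
    calc g ^ (k + 1) * s * (g ^ (k + 1))⁻¹
        = g * (g ^ k * s * (g ^ k)⁻¹) * g⁻¹ := by
          rw [pow_succ', mul_inv_rev]; group
      _ = g * (c ^ k * s) * g⁻¹ := by rw [ih]
      _ = (g * c ^ k) * s * g⁻¹ := by group
      _ = c ^ k * (g * s * g⁻¹) := by rw [hck]; group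
      _ = c ^ (k + 1) * s := by rw [h, pow_succ]; group

/-- **abstract reduction.** `Γ ⧸ Z` has no nontrivial normal subgroup of odd order provided the
central quotient of `A` has none, where `f : A → Γ` has normal range `S` with `C_Γ(S) ≤ Z`, `Z`
is central, `f⁻¹(Z)` is central in `A` and the elements of `Z ∩ S` square to one. -/
theorem lbal_red_abs {Γ A : Type*} [Group Γ] [Group A] [Finite Γ] (Z S : Subgroup Γ)
    [hZn : Z.Normal] [hSn : S.Normal] (f : A →* Γ) (hfS : f.range = S)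
    (hZc : ∀ z ∈ Z, ∀ g : Γ, z * g = g * z)
    (hcent : ∀ g : Γ, (∀ s ∈ S, g * s = s * g) → g ∈ Z)
    (hker : ∀ a : A, f a ∈ Z → a ∈ Subgroup.center A)
    (hsq : ∀ z ∈ Z, z ∈ S → z * z = 1)
    (hA : ∀ N : Subgroup (A ⧸ Subgroup.center A), N.Normal → (Nat.card N).Coprime 2 → N = ⊥)
    (N : Subgroup (Γ ⧸ Z)) (hN : N.Normal) (hNp : (Nat.card ↥N).Coprime 2) : N = ⊥ := by
  have hle : Subgroup.center A ≤ Z.comap f := by
    intro a ha
    rw [Subgroup.mem_comap]
    apply hcent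
    intro s hs
    rw [← hfS] at hs
    obtain ⟨b, rfl⟩ := hs
    rw [← map_mul, ← map_mul, (Subgroup.mem_center_iff.mp ha) b]
  let ψ : A ⧸ Subgroup.center A →* Γ ⧸ Z := QuotientGroup.map (Subgroup.center A) Z f hle
  have hψ : ∀ a : A, ψ (QuotientGroup.mk a) = QuotientGroup.mk (f a) := fun a => rfl
  have hψinj : Function.Injective ψ := by
    rw [injective_iff_map_eq_one]
    intro x hx
    obtain ⟨a, rfl⟩ := QuotientGroup.mk_surjective x
    rw [hψ, QuotientGroup.eq_one_iff] at hx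
    exact (QuotientGroup.eq_one_iff a).mpr (hker a hx)
  have hcomap : N.comap ψ = ⊥ := by
    apply hA _ (hN.comap ψ)
    exact Nat.Coprime.coprime_dvd_left (Subgroup.card_comap_dvd_of_injective N ψ hψinj) hNp
  -- `Ñ ∩ S ≤ Z`
  set Nt : Subgroup Γ := N.comap (QuotientGroup.mk' Z) with hNt
  have hNtn : Nt.Normal := hN.comap _
  have hNS : ∀ x ∈ Nt, x ∈ S → x ∈ Z := by
    intro x hxN hxS
    rw [← hfS] at hxS
    obtain ⟨a, rfl⟩ := hxS
    have h1 : (QuotientGroup.mk a : A ⧸ Subgroup.center A) ∈ N.comap ψ := by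
      rw [Subgroup.mem_comap, hψ]
      exact hxN
    rw [hcomap, Subgroup.mem_bot, QuotientGroup.eq_one_iff] at h1
    exact hle h1
  rw [Subgroup.eq_bot_iff_forall]
  intro x hx
  obtain ⟨g, rfl⟩ := QuotientGroup.mk'_surjective Z x
  have hgN : g ∈ Nt := hx
  -- the order of the image of `g` is odd
  set k := orderOf (⟨QuotientGroup.mk' Z g, hx⟩ : ↥N) with hk
  have hkodd : Odd k := by
    have hdvd : k ∣ Nat.card ↥N := orderOf_dvd_natCard _
    have hc : k.Coprime 2 := Nat.Coprime.coprime_dvd_left hdvd hNp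
    exact Nat.Coprime.odd_of_right hc
  have hgk : g ^ k ∈ Z := by
    have h1 : (⟨QuotientGroup.mk' Z g, hx⟩ : ↥N) ^ k = 1 := pow_orderOf_eq_one _
    have h2 := congrArg Subtype.val h1
    simp only [Subgroup.coe_pow, Subgroup.coe_one] at h2
    rw [← map_pow] at h2
    exact (QuotientGroup.eq_one_iff _).mp h2
  apply (QuotientGroup.eq_one_iff g).mpr
  apply hcent
  intro s hs
  set c := g * s * g⁻¹ * s⁻¹ with hcdef
  have hcN : c ∈ Nt := by
    have h1 : s * g⁻¹ * s⁻¹ ∈ Nt := hNtn.conj_mem _ (Nt.inv_mem hgN) s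
    have h2 := Nt.mul_mem hgN h1
    have : g * (s * g⁻¹ * s⁻¹) = c := by rw [hcdef]; group
    rwa [this] at h2
  have hcS : c ∈ S := S.mul_mem (hSn.conj_mem s hs g) (S.inv_mem hs)
  have hcZ : c ∈ Z := hNS c hcN hcS
  have hcc : c * c = 1 := hsq c hcZ hcS
  have hconj : g * s * g⁻¹ = c * s := by rw [hcdef]; group
  have hpow := lbal_red_pow_conj g s c ((hZc c hcZ g).symm) hconj k
  have hleft : g ^ k * s * (g ^ k)⁻¹ = s := by
    rw [hZc _ hgk s]; group
  rw [hleft] at hpow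
  have hck : c ^ k = 1 := by
    have := congrArg (· * s⁻¹) hpow
    simp only [mul_inv_cancel, mul_assoc] at this
    simpa using this.symm
  obtain ⟨j, hj⟩ := hkodd
  have hc1 : c = 1 := by
    have : c ^ k = c := by
      rw [hj, pow_succ, pow_mul, pow_two, hcc, one_pow, one_mul]
    rw [← this, hck]
  have : g * s * g⁻¹ = s := by rw [hconj, hc1, one_mul]
  calc g * s = g * s * g⁻¹ * g := by group
    _ = s * g := by rw [this]

open Module Cfsg Cfsg.Agent.Helper8.QuadForm Cfsg.Agent.Helper8.OrthOrder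
  Cfsg.Agent.Helper8.Reflections Cfsg.Agent.Helper8.ReflMatrix Cfsg.Agent.Helper8.OmegaCenter

variable {F : Type*} [Field F] [Fintype F] {ι : Type} [Fintype ι] [DecidableEq ι]
  (Q : QuadraticForm F (ι → F))

/-- **`NoCore 2 (PΩ(Q)) → NoCore 2 (PGO(Q))`**, dimension at least four, odd characteristic. -/
theorem lbal_noCore_pgo_of_pomega (h2 : (2 : F) ≠ 0)
    (hQ : (QuadraticMap.polarBilin Q).Nondegenerate) (h4 : 4 ≤ Fintype.card ι)
    (hΩ : lbal_NoCore 2 (Cfsg.POmega F ⇑Q)) : lbal_NoCore 2 (Cfsg.PGO F ⇑Q) := by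
  intro N hN hNp
  have := lbal_pgo_S_normal Q
  refine lbal_red_abs ((Geo.scalars ι F).subgroupOf (Geo.quadSimilarityGroup (F := F) ⇑Q))
    (lbal_pgo_S Q) (lbal_pgo_f Q) rfl ?_ (lbal_pgo_cent Q h2 hQ h4) ?_ ?_ hΩ N hN hNp
  · -- scalars are central
    intro z hz g
    rw [Subgroup.mem_subgroupOf, Geo.mem_scalars_iff] at hz
    obtain ⟨c, hc⟩ := hz
    apply Subtype.ext
    apply Units.ext
    show ((z : GL ι F) : Matrix ι ι F) * ((g : GL ι F) : Matrix ι ι F)
      = ((g : GL ι F) : Matrix ι ι F) * ((z : GL ι F) : Matrix ι ι F)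
    rw [hc, Matrix.smul_mul, Matrix.one_mul, Matrix.mul_smul, Matrix.mul_one]
  · -- an element of `Ω` mapping to a scalar is central
    intro a ha
    rw [Subgroup.mem_subgroupOf, Geo.mem_scalars_iff] at ha
    obtain ⟨c, hc⟩ := ha
    rw [Subgroup.mem_center_iff]
    intro b
    apply Subtype.ext
    apply Subtype.ext
    apply Units.ext
    show (((b : ↥(Cfsg.isometryGroup F ⇑Q)) : GL ι F) : Matrix ι ι F)
        * (((a : ↥(Cfsg.isometryGroup F ⇑Q)) : GL ι F) : Matrix ι ι F)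
      = (((a : ↥(Cfsg.isometryGroup F ⇑Q)) : GL ι F) : Matrix ι ι F)
        * (((b : ↥(Cfsg.isometryGroup F ⇑Q)) : GL ι F) : Matrix ι ι F)
    have hc' : (((a : ↥(Cfsg.isometryGroup F ⇑Q)) : GL ι F) : Matrix ι ι F)
        = (c : F) • (1 : Matrix ι ι F) := hc
    rw [hc', Matrix.smul_mul, Matrix.one_mul, Matrix.mul_smul, Matrix.mul_one]
  · -- scalars in the image of `Ω` square to one
    rintro z hz ⟨a, rfl⟩
    rw [Subgroup.mem_subgroupOf, Geo.mem_scalars_iff] at hz
    obtain ⟨c, hc⟩ := hz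
    have hc' : (((a : ↥(Cfsg.isometryGroup F ⇑Q)) : GL ι F) : Matrix ι ι F)
        = (c : F) • (1 : Matrix ι ι F) := hc
    -- `Q (c v) = Q v` forces `c² = 1`
    have hnd := (nondeg_iff Q).mp hQ
    have hdim : 2 ≤ finrank F (ι → F) := by
      rw [Module.finrank_fintype_fun_eq_card]; omega
    obtain ⟨v, hv⟩ := exists_repr Q hnd hdim 1
    have hiso : Q ((((a : ↥(Cfsg.isometryGroup F ⇑Q)) : GL ι F) : Matrix ι ι F).mulVec v) = Q v :=
      (a : ↥(Cfsg.isometryGroup F ⇑Q)).2 v v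
    rw [hc', Matrix.smul_mulVec, Matrix.one_mulVec, QuadraticMap.map_smul, hv, smul_eq_mul,
      mul_one] at hiso
    rw [← map_mul]
    have : a * a = 1 := by
      apply Subtype.ext
      apply Subtype.ext
      apply Units.ext
      show (((a : ↥(Cfsg.isometryGroup F ⇑Q)) : GL ι F) : Matrix ι ι F)
          * (((a : ↥(Cfsg.isometryGroup F ⇑Q)) : GL ι F) : Matrix ι ι F) = 1
      rw [hc', Matrix.smul_mul, Matrix.one_mul, smul_smul, hiso, one_smul]
    rw [this, map_one]

end Cfsg.Agent.LBal
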