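import Mathlib
import Cfsg.Agent.LBal.NoCore
import Cfsg.Agent.S0251
import Cfsg.Agent.S0298
import Cfsg.Agent.S0299
import Cfsg.Agent.S0300
import Cfsg.Agent.Helper8.DkSolv
import Cfsg.Agent.Helper8.DkGenE

/-!
# LBal, pieces P6a′ / P6b′ / P6c′: `PΩ₃(q)`, `PΩ₄⁺(q)`, `PΩ₄⁻(q)`, `q` odd, have no nontrivial
normal subgroup of odd order

Via the landed exceptional isomorphisms `PΩ₃(q) ≅ PSL₂(q)`, `PΩ₄⁺(q) ≅ PSL₂(q) × PSL₂(q)`,
`PΩ₄⁻(q) ≅ PSL₂(q²)`, the simplicity of `PSL₂(q)` (`q ≥ 4`) and `PSL₂(3) ≅ A₄`.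
-/

set_option autoImplicit false
set_option linter.style.haveILetI false

namespace Cfsg.Agent.LBal

open Cfsg Matrix

/-- a direct product of two groups without normal `p'`-subgroups has none -/
theorem lbal_noCore_prod {G H : Type*} [Group G] [Group H] {p : ℕ}
    (hG : lbal_NoCore p G) (hH : lbal_NoCore p H) : lbal_NoCore p (G × H) := by
  intro N hN hcop
  have h1 : N.map (MonoidHom.fst G H) = ⊥ := by
    apply hG
    · exact hN.map _ (fun g => ⟨(g, 1), rfl⟩)
    · exact Nat.Coprime.coprime_dvd_left (Subgroup.card_map_dvd N (MonoidHom.fst G H)) hcop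
  have h2 : N.map (MonoidHom.snd G H) = ⊥ := by
    apply hH
    · exact hN.map _ (fun h => ⟨(1, h), rfl⟩)
    · exact Nat.Coprime.coprime_dvd_left (Subgroup.card_map_dvd N (MonoidHom.snd G H)) hcop
  rw [Subgroup.eq_bot_iff_forall] at h1 h2 ⊢
  intro x hx
  have e1 := h1 x.1 ⟨x, hx, rfl⟩
  have e2 := h2 x.2 ⟨x, hx, rfl⟩
  exact Prod.ext e1 e2

/-- a simple group of order divisible by `p` has no nontrivial normal `p'`-subgroup -/
theorem lbal_pos_noCore_of_simple {G : Type*} [Group G] [IsSimpleGroup G] {p : ℕ} (hp : p.Prime)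
    (hdvd : p ∣ Nat.card G) : lbal_NoCore p G := by
  intro N hN hcop
  rcases hN.eq_bot_or_eq_top with h | h
  · exact h
  · exfalso
    rw [h, Subgroup.card_top] at hcop
    exact (Nat.Prime.coprime_iff_not_dvd hp).mp hcop.symm hdvd

set_option maxRecDepth 100000 in
theorem lbal_A4_key : ∀ x : alternatingGroup (Fin 4), x ≠ 1 → (x * x = 1) ∨
    ∃ g : alternatingGroup (Fin 4), (x⁻¹ * (g * x * g⁻¹)) ≠ 1 ∧
      (x⁻¹ * (g * x * g⁻¹)) * (x⁻¹ * (g * x * g⁻¹)) = 1 := by
  decide +kernel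

/-- a subgroup containing an involution has even order -/
theorem lbal_not_coprime_two_of_invol {G : Type*} [Group G] (N : Subgroup G) (y : G) (hy : y ∈ N)
    (hy1 : y ≠ 1) (hy2 : y * y = 1) : ¬ (Nat.card N).Coprime 2 := by
  intro hcop
  have h1 : orderOf (⟨y, hy⟩ : N) = 2 := by
    apply orderOf_eq_prime
    · apply Subtype.ext
      rw [pow_two]
      exact hy2
    · intro h
      exact hy1 (congrArg Subtype.val h)
  have h2 : 2 ∣ Nat.card N := h1 ▸ orderOf_dvd_natCard _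
  have h3 := Nat.Coprime.eq_one_of_dvd hcop.symm h2
  omega

/-- `A₄` has no nontrivial normal subgroup of odd order -/
theorem lbal_noCore_A4 : lbal_NoCore 2 (alternatingGroup (Fin 4)) := by
  intro N hN hcop
  by_contra hne
  obtain ⟨⟨x, hxN⟩, hx1⟩ := (Subgroup.ne_bot_iff_exists_ne_one.mp hne)
  have hx1' : x ≠ 1 := fun h => hx1 (Subtype.ext h)
  rcases lbal_A4_key x hx1' with h | ⟨g, hy1, hy2⟩
  · exact lbal_not_coprime_two_of_invol N x hxN hx1' h hcop
  · refine lbal_not_coprime_two_of_invol N _ ?_ hy1 hy2 hcop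
    exact N.mul_mem (N.inv_mem hxN) (hN.conj_mem x hxN g)

/-- `PSL₂(F)`, `|F|` odd, has no nontrivial normal subgroup of odd order -/
theorem lbal_noCore_psl2 {F : Type*} [Field F] [Fintype F] (hodd : Odd (Fintype.card F)) :
    lbal_NoCore 2 (Matrix.ProjectiveSpecialLinearGroup (Fin 2) F) := by
  have h2 : 2 ≤ Fintype.card F := Fintype.one_lt_card
  by_cases h3 : Fintype.card F = 3
  · exact lbal_noCore_of_nonempty (Cfsg.Agent.S0251.result h3) lbal_noCore_A4
  · have h4 : 4 ≤ Fintype.card F := by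
      rcases hodd with ⟨k, hk⟩
      omega
    haveI := Cfsg.Agent.Helper8.Dk.isSimpleGroup_PSL2_of_card h4
    apply lbal_pos_noCore_of_simple Nat.prime_two
    have htwo : (2 : F) ≠ 0 := by
      intro h20
      have h5 : ((2 : ℕ) : F) = 0 := by exact_mod_cast h20
      obtain ⟨p, hp⟩ := CharP.exists F
      haveI := hp
      have h6 := (CharP.cast_eq_zero_iff F p 2).1 h5
      have h7 : ((Fintype.card F : ℕ) : F) = 0 := Nat.cast_card_eq_zero F
      have h8 := (CharP.cast_eq_zero_iff F p _).1 h7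
      have hp2 : p = 2 := by
        have hpp : p.Prime := by
          rcases CharP.char_is_prime_or_zero F p with h | h
          · exact h
          · exfalso
            rw [h] at h6
            simp at h6
        exact (Nat.prime_dvd_prime_iff_eq hpp Nat.prime_two).mp h6
      rw [hp2] at h8
      exact (Nat.not_even_iff_odd.mpr hodd) (even_iff_two_dvd.mpr h8)
    have hc := Cfsg.Agent.Helper8.Dk.card_center_mul_card_PSL2 (F := F)
    rw [Cfsg.Agent.Helper8.Dk.card_center_of_two_ne htwo] at hc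
    obtain ⟨k, hk⟩ := hodd
    have h9 : Fintype.card F ^ 2 - 1 = 4 * (k * (k + 1)) := by
      rw [hk]
      have : (2 * k + 1) ^ 2 = 4 * (k * (k + 1)) + 1 := by ring
      omega
    obtain ⟨j, hj⟩ := Nat.even_mul_succ_self k
    rw [h9, hj] at hc
    have : Nat.card (Matrix.ProjectiveSpecialLinearGroup (Fin 2) F) =
        2 * (Fintype.card F * (2 * j)) := by
      have h10 : 2 * Nat.card (Matrix.ProjectiveSpecialLinearGroup (Fin 2) F) =
          2 * (2 * (Fintype.card F * (2 * j))) := by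
        rw [hc]
        ring
      omega
    rw [this]
    exact Dvd.intro _ rfl

/-- **P6a′**: `PΩ₃(F)`, `|F|` odd -/
theorem lbal_noCore_pomega3 {F : Type*} [Field F] [Fintype F] (hodd : Odd (Fintype.card F)) :
    lbal_NoCore 2 (Cfsg.POmega F (Cfsg.quadFormOdd 1 F)) :=
  lbal_noCore_of_nonempty (Cfsg.Agent.S0298.result hodd) (lbal_noCore_psl2 hodd)

/-- **P6b′**: `PΩ₄⁺(F)`, `|F|` odd -/
theorem lbal_noCore_pomega4p {F : Type*} [Field F] [Fintype F] (hodd : Odd (Fintype.card F)) :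
    lbal_NoCore 2 (Cfsg.POmega F (Cfsg.quadFormPlus 2 F)) := by
  have h3 : 3 ≤ Fintype.card F := by
    have h2 : 2 ≤ Fintype.card F := Fintype.one_lt_card
    rcases hodd with ⟨k, hk⟩
    omega
  exact lbal_noCore_of_nonempty (Cfsg.Agent.S0299.result h3)
    (lbal_noCore_prod (lbal_noCore_psl2 hodd) (lbal_noCore_psl2 hodd))

/-- **P6c′**: `PΩ₄⁻(F)`, `|F|` odd -/
theorem lbal_noCore_pomega4m {F : Type*} [Field F] [Fintype F] (hodd : Odd (Fintype.card F))
    (a b : F) (hab : ∀ z₁ z₂ : F, z₁ ^ 2 + a * z₁ * z₂ + b * z₂ ^ 2 = 0 → z₁ = 0 ∧ z₂ = 0) :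
    lbal_NoCore 2 (Cfsg.POmega F (Cfsg.quadFormMinus 1 F a b)) := by
  obtain ⟨p, hp⟩ := CharP.exists F
  haveI := hp
  obtain ⟨n, hpp, hn⟩ := FiniteField.card F p
  haveI : Fact p.Prime := ⟨hpp⟩
  have hn0 : 2 * (n : ℕ) ≠ 0 := by
    have := n.pos
    omega
  haveI : Fintype (GaloisField p (2 * (n : ℕ))) := Fintype.ofFinite _
  have hK : Fintype.card (GaloisField p (2 * (n : ℕ))) = (Fintype.card F) ^ 2 := by
    rw [← Nat.card_eq_fintype_card, GaloisField.card p _ hn0, hn, ← pow_mul, mul_comm]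
  have hoddK : Odd (Fintype.card (GaloisField p (2 * (n : ℕ)))) := by
    rw [hK]
    exact hodd.pow
  exact lbal_noCore_of_nonempty (Cfsg.Agent.S0300.result rfl hK a b hab) (lbal_noCore_psl2 hoddK)

end Cfsg.Agent.LBal
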