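import Mathlib
import Cfsg.Agent.LBal.PGOCoreBig
import Cfsg.Agent.LBal.PGOCoreRed
import Cfsg.Agent.LBal.POmegaSmall

/-!
# LBal P6b: `PGO⁺_{2m}(q)`, `q` odd, has no nontrivial normal subgroup of odd order (helper9)

`m = 2`: the reduction `lbal_noCore_pgo_of_pomega` applied to helper4's
`lbal_noCore_pomega4p` (`PΩ⁺₄(q) ≅ PSL₂(q) × PSL₂(q)`); `m ≥ 3`: the generic core
(`lbal_noCore_pgo_plus_big`).
-/

set_option autoImplicit false

namespace Cfsg.Agent.LBal

open Module Cfsg Cfsg.Agent.Helper8.StdForms Cfsg.Agent.Helper8.OmegaStd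

/-- **P6b.** -/
theorem lbal_noCore_pgo_plus {F : Type*} [Field F] [Fintype F] (hodd : Odd (Fintype.card F))
    {m : ℕ} (hm : 2 ≤ m) : lbal_NoCore 2 (Cfsg.PGO F (Cfsg.quadFormPlus m F)) := by
  classical
  rcases (show m = 2 ∨ 3 ≤ m by omega) with rfl | h
  · have hΩ := lbal_noCore_pomega4p (F := F) hodd
    have hQeq : Cfsg.quadFormPlus 2 F = ⇑(plusForm F 2) :=
      funext (fun v => (plusForm_apply F 2 v).symm)
    have h2 : (2 : F) ≠ 0 := two_ne_zero_of_odd hodd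
    rw [hQeq] at hΩ ⊢
    have hcard : Fintype.card (Fin 2 ⊕ Fin 2) = 4 := by
      simp only [Fintype.card_sum, Fintype.card_fin]
    exact lbal_noCore_pgo_of_pomega (plusForm F 2) h2 (plusForm_nondeg F 2) (by rw [hcard]) hΩ
  · exact lbal_noCore_pgo_plus_big hodd h

end Cfsg.Agent.LBal
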