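import Mathlib
import Cfsg.Prelude.Def_LieTypeDatum
import Cfsg.Agent.LBal.NoCore
import Cfsg.Agent.LBal.QuotCore
import Cfsg.Agent.Helper8.AutSpzr
import Cfsg.Agent.Helper8.AutSpj
import Cfsg.Agent.S0269
import Cfsg.Agent.S0270

set_option autoImplicit false
set_option linter.unusedSectionVars false
set_option linter.style.haveILetI false

/-! LBal piece P5 (helper7): `PGSp_{2m}(F)`, `F` finite of odd order, `m ≥ 2`, has no nontrivial
normal subgroup of odd order. -/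

namespace Cfsg.Agent.LBal

open Matrix Cfsg Cfsg.Agent.Helper7.Symp

variable {F : Type*} [Field F] {m : ℕ}

local notation "MM" => Matrix (Fin m ⊕ Fin m) (Fin m ⊕ Fin m) F

/-- perfectness is invariant under isomorphism -/
theorem lbal_commutator_top_of_equiv {A B : Type*} [Group A] [Group B] (e : A ≃* B)
    (h : commutator A = ⊤) : commutator B = ⊤ := by
  have h1 := Subgroup.map_commutator (⊤ : Subgroup A) ⊤ e.toMonoidHom
  rw [Subgroup.map_top_of_surjective e.toMonoidHom e.surjective] at h1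
  rw [commutator_def, ← h1, ← commutator_def, h, Subgroup.map_top_of_surjective _ e.surjective]

/-- the symplectic group inside the conformal symplectic group -/
def lbal_spToGSp (m : ℕ) (F : Type*) [Field F] :
    Matrix.symplecticGroup (Fin m) F →* ↥(Cfsg.GSp m F) where
  toFun A := ⟨(Cfsg.Agent.S0768.toSpGL A : GL (Fin m ⊕ Fin m) F),
    ⟨1, fun u v => by
      rw [Units.val_one, one_mul]
      exact (Cfsg.Agent.S0768.toSpGL A).2 u v⟩⟩
  map_one' := by
    apply Subtype.ext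
    apply Units.ext
    rfl
  map_mul' A B := by
    apply Subtype.ext
    apply Units.ext
    rfl

theorem lbal_spToGSp_coe (A : Matrix.symplecticGroup (Fin m) F) :
    (((lbal_spToGSp m F A : ↥(Cfsg.GSp m F)) : GL (Fin m ⊕ Fin m) F) :
      Matrix (Fin m ⊕ Fin m) (Fin m ⊕ Fin m) F) = (A : Matrix (Fin m ⊕ Fin m) (Fin m ⊕ Fin m) F) :=
  rfl

theorem lbal_spToGSp_injective : Function.Injective (lbal_spToGSp m F) := by
  intro A B h
  apply Subtype.ext
  have := congrArg (fun x : ↥(Cfsg.GSp m F) =>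
    ((x : GL (Fin m ⊕ Fin m) F) : Matrix (Fin m ⊕ Fin m) (Fin m ⊕ Fin m) F)) h
  exact this

/-- an invertible matrix preserving the form comes from the symplectic group -/
theorem lbal_mem_range_spToGSp (γ : ↥(Cfsg.GSp m F))
    (h : ∀ u v, sympForm m F (((γ : GL (Fin m ⊕ Fin m) F) : MM) *ᵥ u)
      (((γ : GL (Fin m ⊕ Fin m) F) : MM) *ᵥ v) = sympForm m F u v) :
    γ ∈ (lbal_spToGSp m F).range := by
  obtain ⟨A, hA⟩ := Cfsg.Agent.S0270.toSpGLHom_surjective (m := m) (F := F)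
    ⟨(γ : GL (Fin m ⊕ Fin m) F), h⟩
  refine ⟨A, ?_⟩
  apply Subtype.ext
  have := congrArg (fun x : ↥(Cfsg.spGL m F) => (x : GL (Fin m ⊕ Fin m) F)) hA
  exact this

theorem lbal_range_spToGSp_normal : ((lbal_spToGSp m F).range).Normal := by
  constructor
  rintro _ ⟨A, rfl⟩ γ
  apply lbal_mem_range_spToGSp
  obtain ⟨c, hc⟩ := γ.2
  intro u v
  -- write `u = g x`, `v = g y`
  set g : GL (Fin m ⊕ Fin m) F := (γ : GL (Fin m ⊕ Fin m) F) with hg
  have hcoe : (((γ * lbal_spToGSp m F A * γ⁻¹ : ↥(Cfsg.GSp m F)) : GL (Fin m ⊕ Fin m) F) :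
      Matrix (Fin m ⊕ Fin m) (Fin m ⊕ Fin m) F)
      = (g : MM) * (A : MM) * ((g⁻¹ : GL (Fin m ⊕ Fin m) F) : MM) := by
    rfl
  rw [hcoe]
  have hx : ∀ w : Fin m ⊕ Fin m → F, (g : MM) *ᵥ
      (((g⁻¹ : GL (Fin m ⊕ Fin m) F) : MM) *ᵥ w) = w := by
    intro w
    rw [Matrix.mulVec_mulVec, ← Units.val_mul, mul_inv_cancel, Units.val_one, Matrix.one_mulVec]
  have hA : ∀ x y, sympForm m F ((A : MM) *ᵥ x) ((A : MM) *ᵥ y)
      = sympForm m F x y := (Cfsg.Agent.S0768.toSpGL A).2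
  calc sympForm m F (((g : MM) * (A : MM) *
          ((g⁻¹ : GL (Fin m ⊕ Fin m) F) : MM)) *ᵥ u)
        (((g : MM) * (A : MM) *
          ((g⁻¹ : GL (Fin m ⊕ Fin m) F) : MM)) *ᵥ v)
      = sympForm m F ((g : MM) *ᵥ ((A : MM) *ᵥ
          (((g⁻¹ : GL (Fin m ⊕ Fin m) F) : MM) *ᵥ u)))
        ((g : MM) *ᵥ ((A : MM) *ᵥ
          (((g⁻¹ : GL (Fin m ⊕ Fin m) F) : MM) *ᵥ v))) := by
        rw [← Matrix.mulVec_mulVec, ← Matrix.mulVec_mulVec, ← Matrix.mulVec_mulVec,
          ← Matrix.mulVec_mulVec]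
    _ = (c : F) * sympForm m F (((g⁻¹ : GL (Fin m ⊕ Fin m) F) : MM) *ᵥ u)
          (((g⁻¹ : GL (Fin m ⊕ Fin m) F) : MM) *ᵥ v) := by
        rw [hc, hA]
    _ = sympForm m F u v := by
        rw [← hc, hx, hx]


/-- an element of `GSp` commuting with all symplectic transvections is a scalar matrix -/
theorem lbal_scalar_of_commute_sp (hm : 1 ≤ m) (γ : ↥(Cfsg.GSp m F))
    (h : ∀ s ∈ (lbal_spToGSp m F).range, γ * s = s * γ) :
    (γ : GL (Fin m ⊕ Fin m) F) ∈ Geo.scalars (Fin m ⊕ Fin m) F := by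
  set g : MM := ((γ : GL (Fin m ⊕ Fin m) F) : MM) with hg
  -- `g` fixes every point
  have hfix : ∀ w : Fin m ⊕ Fin m → F, w ≠ 0 → ∃ d : F, g *ᵥ w = d • w := by
    intro w hw
    obtain ⟨y, hy⟩ := exists_sympForm_ne_zero hw
    have hy' : sympForm m F y w ≠ 0 := by
      rw [sympForm_swap]
      exact neg_ne_zero.mpr hy
    have hc := h (lbal_spToGSp m F (T w 1)) ⟨_, rfl⟩
    have hmat : g * (T w 1 : MM) = (T w 1 : MM) * g := by
      have := congrArg (fun x : ↥(Cfsg.GSp m F) => ((x : GL (Fin m ⊕ Fin m) F) : MM)) hc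
      exact this
    have h1 : (g * (T w 1 : MM)) *ᵥ y = ((T w 1 : MM) * g) *ᵥ y := by rw [hmat]
    rw [← Matrix.mulVec_mulVec, ← Matrix.mulVec_mulVec, T_mulVec, T_mulVec, Matrix.mulVec_add,
      Matrix.mulVec_smul, one_mul, one_mul] at h1
    have h2 : sympForm m F y w • g *ᵥ w = sympForm m F (g *ᵥ y) w • w := add_left_cancel h1
    refine ⟨(sympForm m F y w)⁻¹ * sympForm m F (g *ᵥ y) w, ?_⟩
    rw [mul_smul, ← h2, smul_smul, inv_mul_cancel₀ hy', one_smul]
  obtain ⟨c, hc⟩ := Cfsg.Agent.Helper8.AutSp.scalar_of_fix_points hfix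
  have hgc : g = c • (1 : MM) := by
    apply Matrix.toLin'.injective
    apply LinearMap.ext
    intro v
    rw [Matrix.toLin'_apply, hc, map_smul, Matrix.toLin'_one, LinearMap.smul_apply,
      LinearMap.id_apply]
  have hc0 : c ≠ 0 := by
    intro h0
    rw [h0, zero_smul] at hgc
    have h3 : g * (((γ : GL (Fin m ⊕ Fin m) F)⁻¹ : GL (Fin m ⊕ Fin m) F) : MM) = 1 := by
      rw [hg, ← Units.val_mul, mul_inv_cancel, Units.val_one]
    rw [hgc, zero_mul] at h3
    have h4 := congrFun (congrFun h3 (Sum.inl ⟨0, hm⟩)) (Sum.inl ⟨0, hm⟩)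
    rw [Matrix.zero_apply, Matrix.one_apply_eq] at h4
    exact zero_ne_one h4
  rw [Geo.mem_scalars_iff]
  exact ⟨Units.mk0 c hc0, hgc⟩


/-- the element `J` of the symplectic group -/
def lbal_Jel (m : ℕ) (F : Type*) [Field F] : Matrix.symplecticGroup (Fin m) F :=
  ⟨Matrix.J (Fin m) F, SymplecticGroup.J_mem _ _⟩

theorem lbal_Jel_not_scalar (hm : 1 ≤ m) :
    ((lbal_spToGSp m F (lbal_Jel m F) : ↥(Cfsg.GSp m F)) : GL (Fin m ⊕ Fin m) F) ∉
      Geo.scalars (Fin m ⊕ Fin m) F := by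
  intro h
  rw [Geo.mem_scalars_iff] at h
  obtain ⟨c, hc⟩ := h
  have h1 : (Matrix.J (Fin m) F : MM) = (c : F) • (1 : MM) := hc
  have h2 := congrFun (congrFun h1 (Sum.inl ⟨0, hm⟩)) (Sum.inr ⟨0, hm⟩)
  rw [Matrix.smul_apply, Matrix.one_apply_ne (by simp), smul_zero] at h2
  have h3 : (Matrix.J (Fin m) F : MM) (Sum.inl ⟨0, hm⟩) (Sum.inr ⟨0, hm⟩) = -1 := by
    simp [Matrix.J]
  rw [h3] at h2
  exact one_ne_zero (neg_eq_zero.mp h2)

theorem lbal_Jel_sq_scalar :
    ((lbal_spToGSp m F (lbal_Jel m F) * lbal_spToGSp m F (lbal_Jel m F) : ↥(Cfsg.GSp m F)) :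
      GL (Fin m ⊕ Fin m) F) ∈ Geo.scalars (Fin m ⊕ Fin m) F := by
  rw [Geo.mem_scalars_iff]
  refine ⟨-1, ?_⟩
  have h1 : (((lbal_spToGSp m F (lbal_Jel m F) * lbal_spToGSp m F (lbal_Jel m F) :
      ↥(Cfsg.GSp m F)) : GL (Fin m ⊕ Fin m) F) : MM)
      = (Matrix.J (Fin m) F : MM) * (Matrix.J (Fin m) F : MM) := rfl
  rw [h1, Matrix.J_squared, Units.val_neg, Units.val_one, neg_smul, one_smul]

/-- **Piece P5.** -/
theorem lbal_noCore_pgsp [Fintype F] (hodd : Odd (Fintype.card F)) {m : ℕ} (hm : 2 ≤ m) :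
    lbal_NoCore 2 (Cfsg.PGSp m F) := by
  classical
  obtain ⟨r, hr⟩ := CharP.exists F
  haveI := hr
  haveI : Fact r.Prime := ⟨CharP.char_is_prime F r⟩
  have hr2 : r ≠ 2 := by
    intro h2
    obtain ⟨n, -, hn⟩ := FiniteField.card F r
    rw [hn, h2] at hodd
    have : Even (2 ^ (n : ℕ)) := (Nat.even_pow' n.ne_zero).mpr even_two
    exact (Nat.not_odd_iff_even.mpr this) hodd
  have hcard3 : 3 ≤ Fintype.card F := by
    have h2 : 2 ≤ Fintype.card F := by
      have := Fintype.one_lt_card (α := F)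
      omega
    rcases hodd with ⟨k, hk⟩
    omega
  intro N hN hcop
  haveI := hN
  haveI : ((lbal_spToGSp m F).range).Normal := lbal_range_spToGSp_normal
  haveI : Finite ↥(Cfsg.GSp m F) := inferInstance
  refine lbal_quot_noCore ((Geo.scalars (Fin m ⊕ Fin m) F).subgroupOf (Cfsg.GSp m F))
    (lbal_spToGSp m F).range 2 ?_ ?_ ?_ ?_ N hcop
  · -- centraliser
    intro γ hγ
    rw [Subgroup.mem_subgroupOf]
    exact lbal_scalar_of_commute_sp (by omega) γ hγ
  · -- perfect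
    have hperf : commutator (Matrix.symplecticGroup (Fin m) F) = ⊤ := by
      apply Cfsg.Agent.S0269.result
      by_cases h2 : m = 2
      · right; left; exact ⟨h2, hcard3⟩
      · left; omega
    exact lbal_commutator_top_of_equiv
      (MonoidHom.ofInjective (lbal_spToGSp_injective (m := m) (F := F))) hperf
  · -- quasisimple
    intro M hMS hMn
    let M' : Subgroup (Matrix.symplecticGroup (Fin m) F) := M.comap (lbal_spToGSp m F)
    haveI : M'.Normal := by
      constructor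
      intro a ha t
      show lbal_spToGSp m F (t * a * t⁻¹) ∈ M
      rw [map_mul, map_mul, map_inv]
      exact hMn _ ⟨t, rfl⟩ _ ha
    rcases Cfsg.Agent.Helper8.AutSp.normal_sp_cases r hm M' with h | h
    · right
      intro x hx s hs
      obtain ⟨a, rfl⟩ := hMS hx
      obtain ⟨t, rfl⟩ := hs
      have ha : a ∈ Subgroup.center (Matrix.symplecticGroup (Fin m) F) := h hx
      rw [← map_mul, ← map_mul, (Subgroup.mem_center_iff.mp ha) t]
    · left
      rintro _ ⟨t, rfl⟩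
      exact (h t).1 hr2
  · -- an involution in the image
    intro hcop2
    set Z := (Geo.scalars (Fin m ⊕ Fin m) F).subgroupOf (Cfsg.GSp m F) with hZ
    set x : ↥(Cfsg.GSp m F) := lbal_spToGSp m F (lbal_Jel m F) with hx
    set y : ↥(Cfsg.GSp m F) ⧸ Z := QuotientGroup.mk' Z x with hy
    have hy1 : y ≠ 1 := by
      intro h
      have := (QuotientGroup.eq_one_iff x).mp h
      rw [hZ, Subgroup.mem_subgroupOf] at this
      exact lbal_Jel_not_scalar (by omega) this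
    have hy2 : y ^ 2 = 1 := by
      rw [pow_two, hy, ← map_mul]
      apply (QuotientGroup.eq_one_iff _).mpr
      rw [hZ, Subgroup.mem_subgroupOf]
      exact lbal_Jel_sq_scalar
    have hord : orderOf y = 2 := orderOf_eq_prime hy2 hy1
    have hmem : y ∈ ((lbal_spToGSp m F).range).map (QuotientGroup.mk' Z) :=
      ⟨x, ⟨_, rfl⟩, rfl⟩
    have hdvd : 2 ∣ Nat.card ↥(((lbal_spToGSp m F).range).map (QuotientGroup.mk' Z)) := by
      have h1 := orderOf_dvd_natCard (⟨y, hmem⟩ :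
        ↥(((lbal_spToGSp m F).range).map (QuotientGroup.mk' Z)))
      rw [Subgroup.orderOf_mk, hord] at h1
      exact h1
    have := Nat.Coprime.eq_one_of_dvd hcop2.symm hdvd
    omega

end Cfsg.Agent.LBal
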