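import Mathlib
import Cfsg.Agent.LBal.NoCore

set_option autoImplicit false

/-!
A group of automorphisms of a finite simple group `K` with `p ∣ |K|` that contains the inner
automorphisms has no nontrivial normal `p'`-subgroup.
-/

namespace Cfsg.Agent.LBal

open Cfsg

theorem lbal_noCore_of_simple {K : Type*} [Group K] [Finite K] [IsSimpleGroup K]
    (hZ : Function.Injective (MulAut.conj : K →* MulAut K)) {p : ℕ}
    (hp : ¬ (Nat.card K).Coprime p)
    (D : Subgroup (MulAut K)) (hinn : ∀ k : K, MulAut.conj k ∈ D) : lbal_NoCore p ↥D := by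
  intro N hN hcop
  -- the inner part of `N`
  set M : Subgroup K := (N.map D.subtype).comap (MulAut.conj : K →* MulAut K) with hM
  have hMn : M.Normal := by
    constructor
    intro m hm k
    rw [hM, Subgroup.mem_comap] at hm ⊢
    obtain ⟨x, hx, hxm⟩ := hm
    refine ⟨⟨MulAut.conj k, hinn k⟩ * x * ⟨MulAut.conj k, hinn k⟩⁻¹,
      hN.conj_mem x hx _, ?_⟩
    rw [map_mul, map_mul, map_inv, map_mul, map_mul, map_inv, hxm]
    rfl
  rcases hMn.eq_bot_or_eq_top with hbot | htop
  · rw [Subgroup.eq_bot_iff_forall]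
    intro x hx
    apply Subtype.ext
    ext k
    have h1 : ⟨MulAut.conj k, hinn k⟩ * x⁻¹ * (⟨MulAut.conj k, hinn k⟩ : ↥D)⁻¹ ∈ N :=
      hN.conj_mem _ (N.inv_mem hx) _
    have h2 : x * (⟨MulAut.conj k, hinn k⟩ * x⁻¹ * (⟨MulAut.conj k, hinn k⟩ : ↥D)⁻¹) ∈ N :=
      N.mul_mem hx h1
    have h3 : ((x * (⟨MulAut.conj k, hinn k⟩ * x⁻¹ * (⟨MulAut.conj k, hinn k⟩ : ↥D)⁻¹) : ↥D) :
        MulAut K) = MulAut.conj ((x : MulAut K) k * k⁻¹) := by
      rw [map_mul, map_inv, ← lbal_aut_conj (x : MulAut K) k]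
      simp only [Subgroup.coe_mul, Subgroup.coe_inv]
      group
    have h4 : (x : MulAut K) k * k⁻¹ ∈ M := by
      rw [hM, Subgroup.mem_comap]
      exact ⟨_, h2, h3⟩
    rw [hbot, Subgroup.mem_bot] at h4
    rw [Subgroup.coe_one, MulAut.one_apply]
    exact mul_inv_eq_one.mp h4
  · exfalso
    apply hp
    have h1 : ∀ k : K, MulAut.conj k ∈ N.map D.subtype := by
      intro k
      have : k ∈ M := by rw [htop]; trivial
      exact this
    let f : K →* ↥(N.map D.subtype) :=
      (MulAut.conj : K →* MulAut K).codRestrict (N.map D.subtype) h1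
    have hf : Function.Injective f := by
      intro a b hab
      apply hZ
      exact congrArg Subtype.val hab
    have h2 : Nat.card K ∣ Nat.card ↥(N.map D.subtype) := Subgroup.card_dvd_of_injective f hf
    rw [Nat.card_congr (N.equivMapOfInjective D.subtype D.subtype_injective).symm.toEquiv] at h2
    exact Nat.Coprime.coprime_dvd_left h2 hcop

end Cfsg.Agent.LBal
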