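import Mathlib
import Cfsg.Prelude.Def_LieTypeDatum
import Cfsg.Agent.LBal.SimpleCore
import Cfsg.Agent.Helper8.AutSUzk
import Cfsg.Agent.Helper7.SUSimpD

set_option autoImplicit false

/-!
LBal piece P4: `PGU_n(q₀)`, `n ≥ 3`, `q₀` odd, has no nontrivial normal subgroup of odd order.
-/

namespace Cfsg.Agent.LBal

open Matrix Cfsg Cfsg.Agent.Helper8.AutSU Cfsg.Agent.Helper8.SURoot

variable {F : Type*} [Field F]

section invol

variable {q k : ℕ}

/-- the diagonal of the involution `diag(-1, -1, 1, …, 1)` -/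
def lbalDg (k : ℕ) (F : Type*) [Field F] (i : Fin (k + 1 + 2)) : F := if i.val < 2 then -1 else 1

theorem lbalDg_prod : ∏ i : Fin (k + 1 + 2), lbalDg k F i = 1 := by
  rw [Fin.prod_univ_succ, Fin.prod_univ_succ]
  have h0 : lbalDg k F 0 = -1 := by simp [lbalDg]
  have h1 : lbalDg k F (Fin.succ 0) = -1 := by simp [lbalDg]
  have h2 : ∀ i : Fin (k + 1), lbalDg k F (Fin.succ (Fin.succ i)) = 1 := by
    intro i
    simp [lbalDg]
  rw [h0, h1, Finset.prod_congr rfl (fun i _ => h2 i), Finset.prod_const_one]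
  ring

theorem lbalDg_mul_pow (hq : Odd q) (i : Fin (k + 1 + 2)) : lbalDg k F i * lbalDg k F i ^ q = 1 := by
  unfold lbalDg
  split_ifs
  · rw [← pow_succ', Even.neg_one_pow (Odd.add_one hq)]
  · rw [one_pow, one_mul]

/-- the involution as an element of `SL` -/
def lbalDs (k : ℕ) (F : Type*) [Field F] : SpecialLinearGroup (Fin (k + 1 + 2)) F :=
  ⟨Matrix.diagonal (lbalDg k F), by rw [Matrix.det_diagonal, lbalDg_prod]⟩

theorem lbalDs_mem (hq : Odd q) : lbalDs k F ∈ SU (k + 1 + 2) F q := by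
  intro u v
  show hermForm (k + 1 + 2) F q (Matrix.diagonal (lbalDg k F) *ᵥ u)
    (Matrix.diagonal (lbalDg k F) *ᵥ v) = hermForm (k + 1 + 2) F q u v
  unfold hermForm
  apply Finset.sum_congr rfl
  intro i _
  rw [Matrix.mulVec_diagonal, Matrix.mulVec_diagonal, mul_pow]
  have := lbalDg_mul_pow (F := F) (k := k) hq i
  calc lbalDg k F i * u i * (lbalDg k F i ^ q * v i ^ q)
      = (lbalDg k F i * lbalDg k F i ^ q) * (u i * v i ^ q) := by ring
    _ = u i * v i ^ q := by rw [this, one_mul]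

end invol

section main

variable [Fintype F] {q k : ℕ} [hF : Fact (Fintype.card F = q ^ 2)]

theorem lbal_two_ne_zero (hq : Odd q) : (2 : F) ≠ 0 := by
  obtain ⟨p, hp⟩ := CharP.exists F
  have := hp
  have hpp : p.Prime := CharP.char_is_prime F p
  intro h
  have h' : ((2 : ℕ) : F) = 0 := by exact_mod_cast h
  rw [CharP.cast_eq_zero_iff F p 2] at h'
  have hp2 : p = 2 := (Nat.prime_dvd_prime_iff_eq hpp Nat.prime_two).mp h'
  subst hp2
  have hodd : Odd (Fintype.card F) := by rw [hF.out]; exact hq.pow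
  have h2 : 2 ∣ Fintype.card F := by
    obtain ⟨n, _, hn⟩ := FiniteField.card F 2
    rw [hn]
    exact dvd_pow_self 2 (PNat.ne_zero n)
  exact (Nat.not_even_iff_odd.mpr hodd) (even_iff_two_dvd.mpr h2)

/-- the image of the involution in `PSU` is not trivial -/
theorem lbal_pr_Ds_ne_one (hq : Odd q) :
    (pr ⟨lbalDs k F, lbalDs_mem hq⟩ : PSU (k + 1 + 2) F q) ≠ 1 := by
  intro h
  have hz : (⟨lbalDs k F, lbalDs_mem hq⟩ : SU (k + 1 + 2) F q) ∈
      Subgroup.center (SU (k + 1 + 2) F q) := by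
    rw [← QuotientGroup.eq_one_iff]
    exact h
  obtain ⟨ζ, hζ⟩ := center_mulVec (by omega) hz
  have h0 := congrFun (hζ (Pi.single 0 1)) 0
  have h2 := congrFun (hζ (Pi.single ⟨2, by omega⟩ 1)) ⟨2, by omega⟩
  have e0 : mt (⟨lbalDs k F, lbalDs_mem hq⟩ : SU (k + 1 + 2) F q) =
      Matrix.diagonal (lbalDg k F) := rfl
  rw [e0, Matrix.mulVec_diagonal, Pi.smul_apply, Pi.single_eq_same, smul_eq_mul, mul_one,
    mul_one] at h0 h2
  have d0 : lbalDg k F 0 = -1 := by simp [lbalDg]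
  have d2 : lbalDg k F ⟨2, by omega⟩ = 1 := by simp [lbalDg]
  rw [d0] at h0
  rw [d2] at h2
  have : (2 : F) = 0 := by
    have : (-1 : F) = 1 := by rw [h0, ← h2]
    calc (2 : F) = 1 + 1 := by norm_num
      _ = -1 + 1 := by rw [this]
      _ = 0 := by ring
  exact lbal_two_ne_zero (F := F) hq this

theorem lbal_card_PSU_not_coprime (hq : Odd q) :
    ¬ (Nat.card (PSU (k + 1 + 2) F q)).Coprime 2 := by
  intro hcop
  have hx2 : (pr ⟨lbalDs k F, lbalDs_mem hq⟩ : PSU (k + 1 + 2) F q) ^ 2 = 1 := by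
    rw [← map_pow]
    have : (⟨lbalDs k F, lbalDs_mem hq⟩ : SU (k + 1 + 2) F q) ^ 2 = 1 := by
      apply Subtype.ext
      apply Subtype.ext
      rw [pow_two]
      show Matrix.diagonal (lbalDg k F) * Matrix.diagonal (lbalDg k F) = 1
      rw [Matrix.diagonal_mul_diagonal, ← Matrix.diagonal_one]
      congr 1
      funext i
      unfold lbalDg
      split_ifs <;> ring
    rw [this, map_one]
  have hord : orderOf (pr ⟨lbalDs k F, lbalDs_mem hq⟩ : PSU (k + 1 + 2) F q) = 2 :=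
    orderOf_eq_prime hx2 (lbal_pr_Ds_ne_one hq)
  have hdvd : 2 ∣ Nat.card (PSU (k + 1 + 2) F q) := by
    have := orderOf_dvd_natCard (pr ⟨lbalDs k F, lbalDs_mem hq⟩ : PSU (k + 1 + 2) F q)
    rwa [hord] at this
  have := Nat.Coprime.eq_one_of_dvd hcop.symm hdvd
  omega

end main

/-- **LBal P4** -/
theorem lbal_noCore_pgu [Fintype F] {n q₀ : ℕ} (hF : Fintype.card F = q₀ ^ 2) (hq : Odd q₀)
    (h3 : 3 ≤ n) : lbal_NoCore 2 (Cfsg.PGU n F q₀) := by
  obtain ⟨k, rfl⟩ : ∃ k, n = k + 1 + 2 := ⟨n - 3, by omega⟩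
  have : Fact (Fintype.card F = q₀ ^ 2) := ⟨hF⟩
  obtain ⟨p, hp⟩ := CharP.exists F
  have := hp
  have : Fact p.Prime := ⟨CharP.char_is_prime F p⟩
  have hk : 1 ≤ k + 1 := by omega
  have : IsSimpleGroup (PSU (k + 1 + 2) F q₀) :=
    Cfsg.Agent.Helper7.SUSimp.isSimpleGroup_PSU (F := F) (q := q₀) (k := k + 1) hk (by
      rintro ⟨-, h2⟩
      subst h2
      exact absurd hq (by decide))
  have hinn : ∀ x : PSU (k + 1 + 2) F q₀, MulAut.conj x ∈
      (psuConj : GU (k + 1 + 2) F q₀ →* MulAut (PSU (k + 1 + 2) F q₀)).range := by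
    intro x
    obtain ⟨s, rfl⟩ := pr_surjective x
    exact ⟨toGU s, psuConj_toGU s⟩
  have hD := lbal_noCore_of_simple (conj_injective (F := F) (q := q₀) p hk)
    (lbal_card_PSU_not_coprime (F := F) (k := k) hq)
    (psuConj : GU (k + 1 + 2) F q₀ →* MulAut (PSU (k + 1 + 2) F q₀)).range hinn
  have hker : (Geo.scalars (Fin (k + 1 + 2)) F).subgroupOf (GU (k + 1 + 2) F q₀) =
      (psuConj : GU (k + 1 + 2) F q₀ →* MulAut (PSU (k + 1 + 2) F q₀)).ker := by
    ext g
    rw [Subgroup.mem_subgroupOf, mem_ker_psuConj_iff_scalar p hk]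
    constructor
    · rintro ⟨μ, hμ⟩
      exact ⟨μ, hμ.symm⟩
    · rintro ⟨μ, hμ⟩
      exact ⟨μ, hμ.symm⟩
  exact lbal_noCore_congr ((QuotientGroup.quotientMulEquivOfEq hker).trans
    (QuotientGroup.quotientKerEquivRange _)) hD

end Cfsg.Agent.LBal
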