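import Mathlib
import Cfsg.Agent.LBal.NoCore
import Cfsg.Agent.LBal.Classify
import Cfsg.Agent.LBal.H4Field
import Cfsg.Agent.LBal.H4GraphField
import Cfsg.Agent.LBal.H4Symp
import Cfsg.Agent.LBal.H4Orth
import Cfsg.Agent.LBal.PGLCore
import Cfsg.Agent.LBal.PGUCore
import Cfsg.Agent.LBal.PGSpCore
import Cfsg.Agent.LBal.PGOCoreOdd
import Cfsg.Agent.LBal.PGOCorePlus
import Cfsg.Agent.LBal.PGOCoreMinus
import Cfsg.Agent.Helper8.AutSpzv
import Cfsg.Agent.Helper8.AutSLnY
import Cfsg.Agent.Helper8.AutSLnGFc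
import Cfsg.Agent.Helper8.GrAutI
import Cfsg.Agent.S2699
import Cfsg.Agent.S2700

set_option autoImplicit false

/-!
The criterion for the failure of local balance in almost simple groups with socle `PSL_n(F)`
(S2686): assembly of the pieces of `Cfsg/Agent/LBal/` (helper8).
-/

namespace Cfsg.Agent.LBal

open Matrix Cfsg Cfsg.Agent.Helper8.AutSLn Cfsg.Agent.Helper8.GrAut Cfsg.Agent.Helper8.AutSp
open scoped Pointwise

variable {F : Type*} [Field F] {n : ℕ}

local notation "PSLn" => ProjectiveSpecialLinearGroup (Fin n) F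

/-! ### general facts on `PSL_n` -/

theorem lbal_conj_injective (hn : 2 ≤ n) :
    Function.Injective (MulAut.conj : PSLn →* MulAut PSLn) := by
  have : Nontrivial (Fin n) := Fin.nontrivial_iff_two_le.mpr hn
  rw [injective_iff_map_eq_one]
  intro k hk
  obtain ⟨s, rfl⟩ := QuotientGroup.mk_surjective k
  rw [conj_mk_eq_pslConj] at hk
  have h1 : Matrix.SpecialLinearGroup.toGL s ∈
      (pslConj : GL (Fin n) F →* MulAut PSLn).ker := hk
  rw [ker_pslConj, Matrix.GeneralLinearGroup.center_eq_range_scalar] at h1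
  obtain ⟨c, hc⟩ := h1
  have hmat : (s : Matrix (Fin n) (Fin n) F) = Matrix.scalar (Fin n) (c : F) := by
    have := congrArg (fun g : GL (Fin n) F => (g : Matrix (Fin n) (Fin n) F)) hc
    simp only [Matrix.GeneralLinearGroup.coe_scalar] at this
    exact this.symm
  rw [QuotientGroup.eq_one_iff, Matrix.SpecialLinearGroup.mem_center_iff]
  refine ⟨(c : F), ?_, hmat.symm⟩
  have h2 := s.2
  rw [hmat, Matrix.scalar_apply, Matrix.det_diagonal, Finset.prod_const, Finset.card_univ] at h2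
  exact h2


theorem lbal_inn_mem_range (k : PSLn) :
    MulAut.conj k ∈ (pslConj : GL (Fin n) F →* MulAut PSLn).range :=
  inn_le_range_pslConj ⟨k, rfl⟩

/-- the order of the fixed point group divides the order of the centraliser in an overgroup of the
inner automorphisms -/
theorem lbal_card_fix_dvd {K : Type*} [Group K] [Finite K]
    (hZ : Function.Injective (MulAut.conj : K →* MulAut K)) (𝒟 : Subgroup (MulAut K))
    (hinn : ∀ k : K, MulAut.conj k ∈ 𝒟) (β : MulAut K) :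
    Nat.card ↥(lbalFix β) ∣ Nat.card ↥(𝒟 ⊓ Subgroup.centralizer ({β} : Set (MulAut K))) := by
  have h1 : (lbalFix β).map (MulAut.conj : K →* MulAut K) ≤
      𝒟 ⊓ Subgroup.centralizer ({β} : Set (MulAut K)) := by
    rintro _ ⟨k, hk, rfl⟩
    exact ⟨hinn k, lbal_conj_mem_centralizer hk⟩
  have h2 := Subgroup.card_dvd_of_le h1
  rwa [Subgroup.card_map_of_injective hZ] at h2

/-- **type T1: field automorphisms** -/
theorem lbal_field_not_hasCore [Fintype F] (r : ℕ) [Fact r.Prime] [CharP F r] (hn : 2 ≤ n)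
    (σ : F ≃+* F) {p : ℕ} [Fact p.Prime] (hpr : p ≠ r) (hσ : orderOf σ = p)
    (hdvd : p ∣ Nat.card ↥(lbalFix (pslField σ : MulAut PSLn)))
    (𝒢 : Subgroup (MulAut PSLn)) (hinn : ∀ k : PSLn, MulAut.conj k ∈ 𝒢) :
    ¬ HasCore p (𝒢 ⊓ Subgroup.centralizer ({pslField σ} : Set (MulAut PSLn))) := by
  have : Nontrivial (Fin n) := Fin.nontrivial_iff_two_le.mpr hn
  have hp : p.Prime := Fact.out
  have hZ := lbal_conj_injective (F := F) hn
  have hσp : σ ^ p = 1 := by rw [← hσ, pow_orderOf_eq_one]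
  have hinj : ∀ i j : Fin p, σ ^ (i : ℕ) = σ ^ (j : ℕ) → i = j := by
    intro i j e
    apply Fin.ext
    apply pow_injOn_Iio_orderOf (x := σ) _ _ e
    · rw [hσ]
      exact i.2
    · rw [hσ]
      exact j.2
  have : Fintype (fixField σ) := Fintype.ofFinite _
  have : CharP (fixField σ) r :=
    RingHom.charP (fixField σ).subtype (fixField σ).subtype.injective r
  have hiso := nonempty_centralizer_equiv_PGL (m := Fin n) σ hp.pos hσp hinj
    (fixField σ).subtype (fun a => a.2) (fun b hb => ⟨⟨b, hb⟩, rfl⟩)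
  have hp' : p ∣ Nat.card (Matrix.ProjGenLinGroup (Fin n) (fixField σ)) := by
    rw [← Nat.card_congr hiso.some.toEquiv]
    exact hdvd.trans (lbal_card_fix_dvd hZ _ lbal_inn_mem_range _)
  refine lbal_not_hasCore hZ 𝒢 hinn p (pslField σ) ?_ {k | (pslField σ : MulAut PSLn) k = k}
    (fun k hk => hk) ?_
  · apply lbal_h3_of_overgroup hZ _ lbal_inn_mem_range
    apply lbal_not_hasCore_of_noCore
    exact lbal_noCore_of_nonempty hiso (lbal_noCore_pgl r hn hpr hp')
  · intro α h1 h2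
    exact lbal_h4_field r hn σ hσ α h2 h1


theorem lbal_odd_card [Fintype F] (r : ℕ) [Fact r.Prime] [CharP F r] (hr2 : r ≠ 2) :
    Odd (Fintype.card F) := by
  obtain ⟨k, hk1, hk2⟩ := FiniteField.card F r
  rw [hk2]
  exact Odd.pow ((Fact.out : r.Prime).odd_of_ne_two hr2)

/-- **type T2: graph-field automorphisms** -/
theorem lbal_graphField_not_hasCore [Fintype F] (r : ℕ) [Fact r.Prime] [CharP F r] (hr2 : r ≠ 2)
    (h3 : 3 ≤ n) (σ : F ≃+* F) (hσ1 : σ ≠ 1) (hσ2 : σ * σ = 1)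
    (𝒢 : Subgroup (MulAut PSLn)) (hinn : ∀ k : PSLn, MulAut.conj k ∈ 𝒢) :
    ¬ HasCore 2 (𝒢 ⊓ Subgroup.centralizer ({pslField σ * pslInvTr} : Set (MulAut PSLn))) := by
  have hn : 2 ≤ n := by omega
  have : Nontrivial (Fin n) := Fin.nontrivial_iff_two_le.mpr hn
  have hZ := lbal_conj_injective (F := F) hn
  obtain ⟨f, hf1, hF⟩ := FiniteField.card F r
  have hσord : orderOf σ = 2 := orderOf_eq_prime (by rw [pow_two, hσ2]) hσ1
  obtain ⟨hfe, hσq⟩ := involution_eq_frob (p := r) (f := (f : ℕ)) hF σ hσord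
  have hiso := nonempty_centralizer_equiv_PGU (n := n) σ hσ1 hσ2 hσq
  have hF2 : Fintype.card F = (r ^ ((f : ℕ) / 2)) ^ 2 := by
    rw [hF, ← pow_mul, Nat.div_mul_cancel (even_iff_two_dvd.mp hfe)]
  have hq : Odd (r ^ ((f : ℕ) / 2)) := Odd.pow ((Fact.out : r.Prime).odd_of_ne_two hr2)
  refine lbal_not_hasCore hZ 𝒢 hinn 2 (pslField σ * pslInvTr) ?_
    {k | (pslField σ * pslInvTr : MulAut PSLn) k = k} (fun k hk => hk) ?_
  · apply lbal_h3_of_overgroup hZ _ lbal_inn_mem_range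
    apply lbal_not_hasCore_of_noCore
    exact lbal_noCore_of_nonempty hiso (lbal_noCore_pgu hF2 hq h3)
  · intro α h1 h2
    exact lbal_h4_graphField r hr2 h3 σ hσ1 hσ2 α h2 h1


/-- (h3) for the involutory graph automorphisms -/
theorem lbal_graph_noCore [Fintype F] (r : ℕ) [Fact r.Prime] [CharP F r] (hr2 : r ≠ 2)
    (h3 : 3 ≤ n) (A : GL (Fin n) F)
    (hA : (A : Matrix (Fin n) (Fin n) F).transpose = (A : Matrix (Fin n) (Fin n) F) ∨
      (A : Matrix (Fin n) (Fin n) F).transpose = -(A : Matrix (Fin n) (Fin n) F)) :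
    lbal_NoCore 2 ↥(Cfsg.inndiagPSL n F ⊓
      Subgroup.centralizer ({graphAut A} : Set (MulAut PSLn))) := by
  have hodd : Odd (Fintype.card F) := lbal_odd_card r hr2
  have hγ : Cfsg.IsGraphAutClassPSL (graphAut A : MulAut PSLn) := isGraphAutClass_graphAut h3 A
  have hγ2 : orderOf (graphAut A : MulAut PSLn) = 2 := (orderOf_graphAut_fin h3 A).mpr hA
  rcases Nat.even_or_odd' n with ⟨m, hm | hm⟩
  · -- `n = 2 m`
    have hm2 : 2 ≤ m := by omega
    obtain ⟨γ₁, γ₂, γ₃, a, b, hab, -, -, -, -, -, -, -, -, -, hall, e1, e2, e3⟩ :=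
      Cfsg.Agent.S2700.result (F := F) hodd hm2 hm
    rcases hall _ hγ hγ2 with hc | hc | hc
    · exact lbal_noCore_of_nonempty
        ((nonempty_centralizer_equiv_of_isConjUnder _ hc).map MulEquiv.symm)
        (lbal_noCore_of_nonempty e1 (lbal_noCore_pgsp hodd hm2))
    · exact lbal_noCore_of_nonempty
        ((nonempty_centralizer_equiv_of_isConjUnder _ hc).map MulEquiv.symm)
        (lbal_noCore_of_nonempty e2 (lbal_noCore_pgo_plus hodd hm2))
    · exact lbal_noCore_of_nonempty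
        ((nonempty_centralizer_equiv_of_isConjUnder _ hc).map MulEquiv.symm)
        (lbal_noCore_of_nonempty e3 (lbal_noCore_pgo_minus hodd hm2 a b hab))
  · -- `n = 2 m + 1`
    obtain ⟨f, hf1, hF⟩ := FiniteField.card F r
    have e := (Cfsg.Agent.S2699.result (F := F) (p := r) (f := (f : ℕ)) hF f.pos h3 hm
      (graphAut A) (graphAut A) hγ hγ2 hγ hγ2).1
    exact lbal_noCore_of_nonempty e (lbal_noCore_pgo_odd hodd (by omega))


/-- **types T3, T4: graph automorphisms** -/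
theorem lbal_graph_not_hasCore [Fintype F] (r : ℕ) [Fact r.Prime] [CharP F r] (hr2 : r ≠ 2)
    (h3 : 3 ≤ n) (A : GL (Fin n) F)
    (hA : (A : Matrix (Fin n) (Fin n) F).transpose = (A : Matrix (Fin n) (Fin n) F) ∨
      (A : Matrix (Fin n) (Fin n) F).transpose = -(A : Matrix (Fin n) (Fin n) F))
    (𝒢 : Subgroup (MulAut PSLn)) (hinn : ∀ k : PSLn, MulAut.conj k ∈ 𝒢) :
    ¬ HasCore 2 (𝒢 ⊓ Subgroup.centralizer ({graphAut A} : Set (MulAut PSLn))) := by
  have hn : 2 ≤ n := by omega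
  have hZ := lbal_conj_injective (F := F) hn
  have hinnD : ∀ k : PSLn, MulAut.conj k ∈ Cfsg.inndiagPSL n F := by
    intro k
    rw [inndiagPSL_eq]
    exact lbal_inn_mem_range k
  refine lbal_not_hasCore hZ 𝒢 hinn 2 (graphAut A) ?_
    {k | (graphAut A : MulAut PSLn) k = k} (fun k hk => hk) ?_
  · apply lbal_h3_of_overgroup hZ _ hinnD
    apply lbal_not_hasCore_of_noCore
    exact lbal_graph_noCore r hr2 h3 A hA
  · intro α h1 h2
    rcases hA with hA | hA
    · exact lbal_h4_orth r hr2 h3 A hA α h2 h1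
    · exact lbal_h4_symp r hr2 h3 A hA α h2 h1

/-- transport of `HasCore` under conjugation by an automorphism -/
theorem lbal_hasCore_conj {K : Type*} [Group K] {p : ℕ} (𝒢 : Subgroup (MulAut K))
    (hinn : ∀ k : K, MulAut.conj k ∈ 𝒢) (a β₀ : MulAut K)
    (h : ∀ 𝒢' : Subgroup (MulAut K), (∀ k : K, MulAut.conj k ∈ 𝒢') →
      ¬ HasCore p (𝒢' ⊓ Subgroup.centralizer ({β₀} : Set (MulAut K)))) :
    ¬ HasCore p (𝒢 ⊓ Subgroup.centralizer ({a * β₀ * a⁻¹} : Set (MulAut K))) := by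
  intro hc
  rw [← hasCore_map_iff (MulAut.conj a⁻¹), smul_inf_centralizer, MulAut.conj_apply] at hc
  have e : a⁻¹ * (a * β₀ * a⁻¹) * a⁻¹⁻¹ = β₀ := by group
  rw [e] at hc
  refine h _ ?_ hc
  intro k
  rw [Subgroup.mem_pointwise_smul_iff_inv_smul_mem, MulAut.smul_def, ← map_inv,
    MulAut.conj_apply, inv_inv]
  have h1 := lbal_aut_conj a k
  rw [h1]
  exact hinn _


theorem lbal_not_nilpotent (hn : 2 ≤ n) (hK : IsSimpleGroup PSLn) : ¬ Group.IsNilpotent PSLn := by
  intro hnil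
  have hZ := lbal_conj_injective (F := F) hn
  have h1 : Subgroup.center PSLn ≠ ⊥ := Group.IsNilpotent.center_ne_bot PSLn
  apply h1
  rw [Subgroup.eq_bot_iff_forall]
  intro k hk'
  have h2 : MulAut.conj (k : PSLn) = 1 := by
    ext x
    rw [MulAut.conj_apply, MulAut.one_apply, ← (Subgroup.mem_center_iff.mp hk') x,
      mul_inv_cancel_right]
  exact hZ (h2.trans (map_one _).symm)

/-- **the criterion for the failure of local balance for `PSL_n(F)`** -/
theorem lbal_main [Fintype F] (r : ℕ) [Fact r.Prime] [CharP F r] (hn : 2 ≤ n)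
    (hK : IsSimpleGroup PSLn)
    (𝒢 : Subgroup (MulAut PSLn)) (hinn : ∀ k : PSLn, MulAut.conj k ∈ 𝒢)
    {p : ℕ} [Fact p.Prime] (hpr : p ≠ r) (β : MulAut PSLn) (hord : orderOf β = p)
    (hnot : ¬ Cfsg.IsInnerDiagonalAutPSL β) :
    Cfsg.pPrimeCore p ↥(𝒢 ⊓ Subgroup.centralizer {β}) ≠ ⊥ ↔
      ((∃ γ φ : MulAut PSLn, Cfsg.IsInnerDiagonalAutPSL γ ∧ Cfsg.IsFieldAutPSL φ ∧
          β = φ.trans γ) ∧
        Nat.Coprime p (Nat.card ↥(MonoidHom.eqLocus β.toMonoidHom (MonoidHom.id PSLn)))) := by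
  have hp : p.Prime := Fact.out
  have hZ := lbal_conj_injective (F := F) hn
  have : Finite PSLn := by
    unfold ProjectiveSpecialLinearGroup
    infer_instance
  rw [pPrimeCore_ne_bot_iff_hasCore]
  constructor
  · intro hc
    rcases lbal_classify r hn β hord hnot with ⟨h, σ, hσ, rfl⟩ | ⟨hp2, h3, h, σ, hσ1, hσ2, rfl⟩ |
      ⟨hp2, h3, A, rfl, hA⟩
    · refine ⟨?_, ?_⟩
      · have hmem : pslConj h * pslField σ * (pslConj h)⁻¹ ∈ stdSub (Fin n) F := by
          refine (stdSub (Fin n) F).mul_mem ⟨h, σ, rfl⟩ ((stdSub (Fin n) F).inv_mem ?_)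
          exact ⟨h, 1, by rw [map_one, mul_one]⟩
        obtain ⟨g, τ, e⟩ := hmem
        refine ⟨pslConj g, pslField τ, isInnerDiagonal_pslConj g, ⟨τ, isStdField_pslField τ⟩, ?_⟩
        rw [e]
        rfl
      · by_contra hcop
        have hd : p ∣ Nat.card ↥(lbalFix (pslField σ : MulAut PSLn)) := by
          rw [← card_eqLocus_conj (pslConj h) (pslField σ)]
          by_contra hnd
          exact hcop ((Nat.Prime.coprime_iff_not_dvd hp).mpr hnd)
        exact lbal_hasCore_conj 𝒢 hinn (pslConj h) (pslField σ)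
          (fun 𝒢' h' => lbal_field_not_hasCore r hn σ hpr hσ hd 𝒢' h') hc
    · exfalso
      subst hp2
      exact lbal_hasCore_conj 𝒢 hinn (pslConj h) (pslField σ * pslInvTr)
        (fun 𝒢' h' => lbal_graphField_not_hasCore r (Ne.symm hpr) h3 σ hσ1 hσ2 𝒢' h') hc
    · exfalso
      subst hp2
      exact lbal_graph_not_hasCore r (Ne.symm hpr) h3 A hA 𝒢 hinn hc
  · rintro ⟨-, hcop⟩
    exact lbal_hasCore_of_coprime hZ (lbal_not_nilpotent hn hK) 𝒢 hinn p hp β hord hcop

end Cfsg.Agent.LBal
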