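import Mathlib
import Cfsg.Agent.Helper8.AutOzzd
import Cfsg.Agent.Helper8.AutOPd

set_option autoImplicit false
set_option linter.unusedSectionVars false
set_option linter.style.haveILetI false
set_option linter.unusedVariables false

/-!
# L-balance swarm, piece O1 (cut-outs A): the tools for the classification of the elements of odd
prime order outside `Inndiag` of `PΩ⁻_{2m+2}(q)`
-/

namespace Cfsg.Agent.LBal

open Module Matrix Cfsg.Agent.Helper8.QuadForm Cfsg.Agent.Helper8.WittQuad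
  Cfsg.Agent.Helper8.OrthOrder
  Cfsg.Agent.Helper8.Siegel Cfsg.Agent.Helper8.SiegelGeom Cfsg.Agent.Helper8.SiegelGroup
  Cfsg.Agent.Helper8.SiegelPrim Cfsg.Agent.Helper8.SiegelSimple Cfsg.Agent.Helper8.ReflMatrix
  Cfsg.Agent.Helper8.OmegaSimple Cfsg.Agent.Helper8.AutImagePsi Cfsg.Agent.Helper8.AutImageOrth
  Cfsg.Agent.Helper8.StdForms Cfsg.Agent.Helper8.AutImage Cfsg.Agent.Helper8.AutImageKer
  Cfsg.Agent.Helper8.AutImageIdx Cfsg.Agent.Helper8.Cls Cfsg.Agent.Helper8.Reflections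
  Cfsg.Agent.Helper8.OrT Cfsg.Agent.Helper8.AutO
open Cfsg.Agent.Helper8.AutSLn (gls nrmGL nrmF unitsAut fixField mem_fixField)

/-- pure group theory: an element `d` with `d² ∈ N`, commuting with `z` modulo `N`, such that
`(d z)^p` and `z^p` lie in `N` for an odd `p`, lies in `N`. -/
theorem lbal_omc_mem_of_odd {A : Type*} [Group A] (N : Subgroup A) [hN : N.Normal] (d z : A)
    {p : ℕ} (hp : Odd p) (hd2 : d ^ 2 ∈ N) (hcomm : z * d * z⁻¹ * d⁻¹ ∈ N)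
    (hdz : (d * z) ^ p ∈ N) (hz : z ^ p ∈ N) : d ∈ N := by
  rw [← QuotientGroup.eq_one_iff] at hd2 hcomm hdz hz ⊢
  rw [QuotientGroup.mk_pow] at hd2 hdz hz
  rw [QuotientGroup.mk_mul] at hdz
  rw [QuotientGroup.mk_mul, QuotientGroup.mk_mul, QuotientGroup.mk_mul, QuotientGroup.mk_inv,
    QuotientGroup.mk_inv] at hcomm
  obtain ⟨D, hD⟩ : ∃ D : A ⧸ N, D = (d : A ⧸ N) := ⟨_, rfl⟩
  obtain ⟨Z, hZ⟩ : ∃ Z : A ⧸ N, Z = (z : A ⧸ N) := ⟨_, rfl⟩
  rw [← hD, ← hZ] at hcomm hdz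
  rw [← hD] at hd2 ⊢
  rw [← hZ] at hz
  have hc : Commute D Z := by
    have h1 : Z * D = D * Z := by
      have : Z * D * Z⁻¹ * D⁻¹ * (D * Z) = 1 * (D * Z) := by rw [hcomm]
      rw [one_mul] at this
      rw [← this]
      group
    exact h1.symm
  rw [hc.mul_pow, hz, mul_one] at hdz
  obtain ⟨k, hk⟩ := hp
  rw [hk, pow_succ, pow_mul, hd2, one_pow, one_mul] at hdz
  exact hdz

section General

variable {F : Type*} [Field F] [Fintype F] {ι : Type} [Fintype ι] [DecidableEq ι]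
  (Q : QuadraticForm F (ι → F)) (hQ : (QuadraticMap.polarBilin Q).Nondegenerate)
  (hne : ∃ v, Q v ≠ 0) (k : ℕ) (hk : Fintype.card ι = 2 * k)

/-- the square of an automorphism induced by a similarity is induced by a class-preserving
similarity. -/
theorem lbal_omc_sq_mem (y : MulAut (Cfsg.POmega F ⇑Q)) (hy : y ∈ Cfsg.pgoAut F ⇑Q) :
    y ^ 2 ∈ cpAut Q hQ hne k hk := by
  rw [pgoAut_eq] at hy
  obtain ⟨g, rfl⟩ := hy
  rw [← map_pow]
  apply Subgroup.mem_map_of_mem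
  rw [MonoidHom.mem_ker, map_pow, Int.units_sq]

/-- the commutator of an automorphism induced by a similarity with any automorphism is induced by
a class-preserving similarity. -/
theorem lbal_omc_comm_mem [Nontrivial (ι → F)] (h5 : 5 ≤ Fintype.card ι)
    (hsurj : Function.Surjective (Psi (Q := Q)))
    (y α : MulAut (Cfsg.POmega F ⇑Q)) (hy : y ∈ Cfsg.pgoAut F ⇑Q) :
    α * y * α⁻¹ * y⁻¹ ∈ cpAut Q hQ hne k hk := by
  rw [pgoAut_eq] at hy
  obtain ⟨g, rfl⟩ := hy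
  obtain ⟨γ, rfl⟩ := PsiM_surjective Q hQ h5 hsurj α
  obtain ⟨g', M, h1, -, -⟩ := exists_conj_simGamma_mat Q hne γ g
  have h2 : PsiM Q hQ h5 γ * Phi ⇑Q g * (PsiM Q hQ h5 γ)⁻¹ = Phi ⇑Q g' := by
    rw [← PsiM_simGamma Q hQ h5, ← PsiM_simGamma Q hQ h5, ← h1, map_mul, map_mul, map_inv]
  rw [h2, ← map_inv, ← map_mul]
  apply Subgroup.mem_map_of_mem
  rw [MonoidHom.mem_ker, map_mul, map_inv, clsChar_conj Q hQ hne k hk γ g g' h1, mul_inv_cancel]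

end General

variable {F : Type*} [Field F] [Fintype F]

/-- **(A)** an anisotropic binary form with coefficients fixed by a field automorphism of odd
prime order. -/
theorem lbal_omc_exists_pair (σ : F ≃+* F) {p : ℕ} (hp : p.Prime) (hp2 : p ≠ 2)
    (hσ : orderOf σ = p) :
    ∃ a' b' : F, σ a' = a' ∧ σ b' = b' ∧
      ∀ z₁ z₂ : F, z₁ ^ 2 + a' * z₁ * z₂ + b' * z₂ ^ 2 = 0 → z₁ = 0 ∧ z₂ = 0 := by
  classical
  obtain ⟨K, hK⟩ : ∃ K : Subfield F, K = fixField σ := ⟨_, rfl⟩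
  have hmem : ∀ t : F, t ∈ K ↔ σ t = t := by
    intro t
    rw [hK]
    exact mem_fixField σ t
  obtain ⟨f, hf⟩ : ∃ f : ↥K × ↥K → ↥K × ↥K, f = fun rs => (-(rs.1 + rs.2), rs.1 * rs.2) :=
    ⟨_, rfl⟩
  have hninj : ¬ Function.Injective f := by
    intro h
    have h1 : f (0, 1) = f (1, 0) := by
      rw [hf]
      simp only [zero_add, add_zero, zero_mul, mul_zero]
    have h2 := h h1
    rw [Prod.mk.injEq] at h2
    exact zero_ne_one h2.1
  have hnsurj : ¬ Function.Surjective f := fun h => hninj (Finite.injective_iff_surjective.mpr h)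
  rw [Function.Surjective] at hnsurj
  push Not at hnsurj
  obtain ⟨⟨a', b'⟩, hab⟩ := hnsurj
  have hnoK : ∀ t : F, t ∈ K → t ^ 2 + (a' : F) * t + (b' : F) ≠ 0 := by
    intro t ht h0
    apply hab (⟨t, ht⟩, ⟨-(a' : F) - t, K.sub_mem (K.neg_mem a'.2) ht⟩)
    rw [hf]
    apply Prod.ext
    · apply Subtype.ext
      show -(t + (-(a' : F) - t)) = (a' : F)
      ring
    · apply Subtype.ext
      show t * (-(a' : F) - t) = (b' : F)
      linear_combination (-1 : F) * h0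
  have ha : σ (a' : F) = a' := (hmem _).mp a'.2
  have hb : σ (b' : F) = b' := (hmem _).mp b'.2
  have hσpow : ∀ t : F, (σ ^ p) t = t := by
    intro t
    rw [← hσ, pow_orderOf_eq_one]
    rfl
  have hnoF : ∀ t : F, t ^ 2 + (a' : F) * t + (b' : F) ≠ 0 := by
    intro t h0
    apply hnoK t _ h0
    rw [hmem]
    have h1 : (σ t) ^ 2 + (a' : F) * σ t + b' = 0 := by
      have := congrArg σ h0
      rw [map_add, map_add, map_pow, map_mul, ha, hb, map_zero] at this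
      exact this
    have h2 : (σ t - t) * (σ t + t + a') = 0 := by linear_combination h1 - h0
    have h3 : σ (σ t) = t := by
      rcases mul_eq_zero.mp h2 with h | h
      · have e : σ t = t := sub_eq_zero.mp h
        rw [e, e]
      · have e : σ t = -(a' : F) - t := by linear_combination h
        rw [e, map_sub, map_neg, ha, e]
        ring
    obtain ⟨k, hk⟩ := hp.odd_of_ne_two hp2
    have h4 : ∀ n : ℕ, (σ ^ (2 * n)) t = t := by
      intro n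
      induction n with
      | zero => rfl
      | succ n ih =>
        rw [mul_add, mul_one, pow_add, RingAut.mul_apply, pow_two, RingAut.mul_apply, h3, ih]
    have h5 := hσpow t
    rw [hk, pow_succ', RingAut.mul_apply, h4] at h5
    exact h5
  refine ⟨a', b', ha, hb, ?_⟩
  intro z₁ z₂ h
  by_cases hz : z₂ = 0
  · subst hz
    rw [mul_zero, add_zero, zero_pow two_ne_zero, mul_zero, add_zero] at h
    exact ⟨pow_eq_zero_iff two_ne_zero |>.mp h, rfl⟩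
  · exfalso
    apply hnoF (z₁ / z₂)
    field_simp
    linear_combination h

/-- **(B)** the standard field automorphism of `PΩ⁻` for a form with fixed coefficients, pulled
back to any minus-type form, comes from a semilinear similarity with the same field
automorphism. -/
theorem lbal_omc_std {m : ℕ} (hm : 3 ≤ m) (a b a' b' : F)
    (hab : ∀ z₁ z₂ : F, z₁ ^ 2 + a * z₁ * z₂ + b * z₂ ^ 2 = 0 → z₁ = 0 ∧ z₂ = 0)
    (hab' : ∀ z₁ z₂ : F, z₁ ^ 2 + a' * z₁ * z₂ + b' * z₂ ^ 2 = 0 → z₁ = 0 ∧ z₂ = 0)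
    (σ : F ≃+* F) (ha' : σ a' = a') (hb' : σ b' = b')
    (h5 : 5 ≤ Fintype.card ((Fin m ⊕ Fin m) ⊕ Fin 2)) :
    ∃ (ψ : Cfsg.POmega F ⇑(minusForm F m a b) ≃* Cfsg.POmega F ⇑(minusForm F m a' b'))
      (γ₀ : ↥(GammaO (minusForm F m a b))),
      tau γ₀ = σ ∧
      Cfsg.IsFieldAutPOmegaOf ⇑(minusForm F m a' b') σ
        ((ψ.symm.trans (PsiM (minusForm F m a b) (minusForm_nondeg F m hab) h5 γ₀)).trans ψ) := by
  classical
  have hcard := card_idx_minus m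
  have hdim : finrank F ((Fin m ⊕ Fin m) ⊕ Fin 2 → F) = 2 * (m + 1) := by
    rw [Module.finrank_fintype_fun_eq_card, hcard]
  have hQn : Nondeg (minusForm F m a b) := (nondeg_iff _).mp (minusForm_nondeg F m hab)
  have hQ'n : Nondeg (minusForm F m a' b') := (nondeg_iff _).mp (minusForm_nondeg F m hab')
  obtain ⟨φ, hφ⟩ := exists_isometry_of_nuS m hdim hdim (minusForm F m a b) (minusForm F m a' b')
    hQn hQ'n (-1) (nuS_minusForm m a b hab) (nuS_minusForm m a' b' hab')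
  obtain ⟨M₀, hM₀def⟩ : ∃ M₀ : GL ((Fin m ⊕ Fin m) ⊕ Fin 2) F, M₀ = glEquiv.symm φ := ⟨_, rfl⟩
  have hM₀ : ∀ v, minusForm F m a' b'
      ((M₀ : Matrix ((Fin m ⊕ Fin m) ⊕ Fin 2) ((Fin m ⊕ Fin m) ⊕ Fin 2) F) *ᵥ v)
      = minusForm F m a b v := by
    intro v
    rw [← hφ v, ← glEquiv_apply, hM₀def, MulEquiv.apply_symm_apply]
  have hσQ' := minusForm_sigma σ m ha' hb'
  have hMM : ((M₀⁻¹ : GL ((Fin m ⊕ Fin m) ⊕ Fin 2) F) :
      Matrix ((Fin m ⊕ Fin m) ⊕ Fin 2) ((Fin m ⊕ Fin m) ⊕ Fin 2) F) *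
      (M₀ : Matrix ((Fin m ⊕ Fin m) ⊕ Fin 2) ((Fin m ⊕ Fin m) ⊕ Fin 2) F) = 1 := by
    rw [← Units.val_mul, inv_mul_cancel, Units.val_one]
  have hMM' : (M₀ : Matrix ((Fin m ⊕ Fin m) ⊕ Fin 2) ((Fin m ⊕ Fin m) ⊕ Fin 2) F) *
      ((M₀⁻¹ : GL ((Fin m ⊕ Fin m) ⊕ Fin 2) F) :
      Matrix ((Fin m ⊕ Fin m) ⊕ Fin 2) ((Fin m ⊕ Fin m) ⊕ Fin 2) F) = 1 := by
    rw [← Units.val_mul, mul_inv_cancel, Units.val_one]
  obtain ⟨g, hg⟩ : ∃ g : ((Fin m ⊕ Fin m) ⊕ Fin 2 → F) → ((Fin m ⊕ Fin m) ⊕ Fin 2 → F),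
      g = fun v => ((M₀⁻¹ : GL ((Fin m ⊕ Fin m) ⊕ Fin 2) F) :
        Matrix ((Fin m ⊕ Fin m) ⊕ Fin 2) ((Fin m ⊕ Fin m) ⊕ Fin 2) F) *ᵥ
        (fun i => σ (((M₀ : Matrix ((Fin m ⊕ Fin m) ⊕ Fin 2) ((Fin m ⊕ Fin m) ⊕ Fin 2) F)
          *ᵥ v) i)) := ⟨_, rfl⟩
  have hgv : ∀ v, g v = ((M₀⁻¹ : GL ((Fin m ⊕ Fin m) ⊕ Fin 2) F) :
        Matrix ((Fin m ⊕ Fin m) ⊕ Fin 2) ((Fin m ⊕ Fin m) ⊕ Fin 2) F) *ᵥ
        (fun i => σ (((M₀ : Matrix ((Fin m ⊕ Fin m) ⊕ Fin 2) ((Fin m ⊕ Fin m) ⊕ Fin 2) F)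
          *ᵥ v) i)) := by
    intro v
    rw [hg]
  have hinj : Function.Injective g := by
    intro x y hxy
    rw [hgv, hgv] at hxy
    have h1 := congrArg (fun w => (M₀ : Matrix ((Fin m ⊕ Fin m) ⊕ Fin 2)
      ((Fin m ⊕ Fin m) ⊕ Fin 2) F) *ᵥ w) hxy
    simp only [mulVec_mulVec, hMM', one_mulVec] at h1
    have h2 : (M₀ : Matrix ((Fin m ⊕ Fin m) ⊕ Fin 2) ((Fin m ⊕ Fin m) ⊕ Fin 2) F) *ᵥ x
        = (M₀ : Matrix ((Fin m ⊕ Fin m) ⊕ Fin 2) ((Fin m ⊕ Fin m) ⊕ Fin 2) F) *ᵥ y := by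
      funext i
      exact σ.injective (congrFun h1 i)
    have h3 := congrArg (fun w => ((M₀⁻¹ : GL ((Fin m ⊕ Fin m) ⊕ Fin 2) F) :
      Matrix ((Fin m ⊕ Fin m) ⊕ Fin 2) ((Fin m ⊕ Fin m) ⊕ Fin 2) F) *ᵥ w) h2
    simp only [mulVec_mulVec, hMM, one_mulVec] at h3
    exact h3
  have hsemi : SemiSim (minusForm F m a b) g σ 1 := by
    refine ⟨one_ne_zero, ?_, ?_, ?_, Finite.injective_iff_bijective.mp hinj⟩
    · intro x y
      rw [hgv, hgv, hgv, ← mulVec_add, mulVec_add]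
      congr 1
      funext i
      simp only [Pi.add_apply, map_add]
    · intro c x
      have e : (fun i => σ (((M₀ : Matrix ((Fin m ⊕ Fin m) ⊕ Fin 2)
          ((Fin m ⊕ Fin m) ⊕ Fin 2) F) *ᵥ (c • x)) i))
          = σ c • (fun i => σ (((M₀ : Matrix ((Fin m ⊕ Fin m) ⊕ Fin 2)
          ((Fin m ⊕ Fin m) ⊕ Fin 2) F) *ᵥ x) i)) := by
        funext i
        rw [mulVec_smul, Pi.smul_apply, Pi.smul_apply, smul_eq_mul, smul_eq_mul, map_mul]
      rw [hgv, hgv, e, mulVec_smul]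
    · intro x
      rw [one_mul, hgv, ← hM₀, mulVec_mulVec, hMM', one_mulVec, hσQ', hM₀]
  obtain ⟨γ₀, hγ₀⟩ : ∃ γ₀ : ↥(GammaO (minusForm F m a b)), γ₀ = mkGamma hsemi := ⟨_, rfl⟩
  have hgap : ∀ v, gap γ₀ v = ((M₀⁻¹ * gls σ M₀ : GL ((Fin m ⊕ Fin m) ⊕ Fin 2) F) :
      Matrix ((Fin m ⊕ Fin m) ⊕ Fin 2) ((Fin m ⊕ Fin m) ⊕ Fin 2) F) *ᵥ
      (fun i => σ (v i)) := by
    intro v
    rw [hγ₀, gap_mkGamma, hgv, Units.val_mul, ← mulVec_mulVec, gls_mulVec]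
  refine ⟨pIso ⇑(minusForm F m a b) ⇑(minusForm F m a' b') M₀ hM₀, γ₀, ?_, ?_⟩
  · rw [hγ₀]
    exact tau_eq hsemi
  · have h1 := induced_PsiM (minusForm F m a b) (minusForm_nondeg F m hab) h5 γ₀
      (M₀⁻¹ * gls σ M₀) σ hgap
    have h2 := pIso_induced_fwd ⇑(minusForm F m a b) ⇑(minusForm F m a' b') M₀ hM₀
      (M₀⁻¹ * gls σ M₀) σ _ h1
    have e : M₀ * (M₀⁻¹ * gls σ M₀) * (gls σ M₀)⁻¹ = 1 := by group
    rw [e] at h2
    intro s s' hss'
    apply h2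
    rw [Units.val_one, inv_one, Units.val_one, Matrix.one_mul, Matrix.mul_one]
    exact hss'

end Cfsg.Agent.LBal
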