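import Mathlib
import Cfsg.Agent.LBal.OmClassifyA

set_option autoImplicit false
set_option linter.unusedSectionVars false
set_option linter.style.haveILetI false
set_option linter.unusedVariables false

/-!
# L-balance swarm, piece O1: the elements of odd prime order of `Aut(PΩ⁻_{2m+2}(q))` outside
`Inndiag` are field automorphisms
-/

namespace Cfsg.Agent.LBal

open Module Matrix Cfsg.Agent.Helper8.QuadForm Cfsg.Agent.Helper8.WittQuad
  Cfsg.Agent.Helper8.OrthOrder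
  Cfsg.Agent.Helper8.Siegel Cfsg.Agent.Helper8.SiegelGeom Cfsg.Agent.Helper8.SiegelGroup
  Cfsg.Agent.Helper8.SiegelPrim Cfsg.Agent.Helper8.SiegelSimple Cfsg.Agent.Helper8.ReflMatrix
  Cfsg.Agent.Helper8.OmegaSimple Cfsg.Agent.Helper8.AutImagePsi Cfsg.Agent.Helper8.AutImageOrth
  Cfsg.Agent.Helper8.StdForms Cfsg.Agent.Helper8.AutImage Cfsg.Agent.Helper8.AutImageKer
  Cfsg.Agent.Helper8.AutImageIdx Cfsg.Agent.Helper8.Cls Cfsg.Agent.Helper8.Reflections
  Cfsg.Agent.Helper8.OrT Cfsg.Agent.Helper8.AutO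
open Cfsg.Agent.Helper8.AutSLn (gls nrmGL nrmF unitsAut fixField mem_fixField)

section General

variable {F : Type*} [Field F] [Fintype F] {ι : Type} [Fintype ι] [DecidableEq ι]
  (Q : QuadraticForm F (ι → F)) (hQ : (QuadraticMap.polarBilin Q).Nondegenerate)
  (hne : ∃ v, Q v ≠ 0) (k : ℕ) (hk : Fintype.card ι = 2 * k)

/-- two automorphisms of odd order `p` with the same field automorphism differ by an automorphism
induced by a class-preserving similarity. -/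
theorem lbal_omc_coset [Nontrivial (ι → F)] (h5 : 5 ≤ Fintype.card ι)
    (hsurj : Function.Surjective (Psi (Q := Q)))
    (hker : (Psi (Q := Q)).ker ≤ (tau (Q := Q)).ker) {p : ℕ} (hp : Odd p)
    (x x₀ : MulAut (Cfsg.POmega F ⇑Q))
    (hT : tauAutM Q hQ h5 hsurj hker x = tauAutM Q hQ h5 hsurj hker x₀)
    (hx : x ^ p = 1) (hx₀ : x₀ ^ p = 1) :
    x * x₀⁻¹ ∈ cpAut Q hQ hne k hk := by
  haveI := cpAut_normal Q hQ hne k hk h5 hsurj
  have hδ : x * x₀⁻¹ ∈ Cfsg.pgoAut F ⇑Q := by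
    rw [← ker_tauAutM Q hQ h5 hsurj hker, MonoidHom.mem_ker, map_mul, map_inv, hT, mul_inv_cancel]
  apply lbal_omc_mem_of_odd (cpAut Q hQ hne k hk) (x * x₀⁻¹) x₀ hp
  · exact lbal_omc_sq_mem Q hQ hne k hk _ hδ
  · exact lbal_omc_comm_mem Q hQ hne k hk h5 hsurj _ x₀ hδ
  · rw [inv_mul_cancel_right, hx]
    exact one_mem _
  · rw [hx₀]
    exact one_mem _

end General

variable {F : Type*} [Field F] [Fintype F]

set_option maxHeartbeats 1600000 in
/-- the classification, for a function `Qf` equal to the minus-type form. -/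
theorem lbal_omc_class_aux {m : ℕ} (hm : 3 ≤ m) (a b : F)
    (hab : ∀ z₁ z₂ : F, z₁ ^ 2 + a * z₁ * z₂ + b * z₂ ^ 2 = 0 → z₁ = 0 ∧ z₂ = 0)
    (Qf : ((Fin m ⊕ Fin m) ⊕ Fin 2 → F) → F) (hQf : Qf = ⇑(minusForm F m a b))
    {p : ℕ} [Fact p.Prime] (hp2 : p ≠ 2)
    (x : MulAut (Cfsg.POmega F Qf)) (hord : orderOf x = p)
    (hnot : ¬ ∃ g : GL ((Fin m ⊕ Fin m) ⊕ Fin 2) F,
      g ∈ Cfsg.Geo.quadSimilarityGroup (F := F) Qf ∧
      Cfsg.PreservesSingularClassesMinus m a b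
        (g : Matrix ((Fin m ⊕ Fin m) ⊕ Fin 2) ((Fin m ⊕ Fin m) ⊕ Fin 2) F) ∧
      Cfsg.IsInducedBySemilinearPOmega Qf g (RingEquiv.refl F) x) :
    ∃ a' b' : F, ∀ (Qf' : ((Fin m ⊕ Fin m) ⊕ Fin 2 → F) → F),
      Qf' = ⇑(minusForm F m a' b') →
      ∃ (ψ : Cfsg.POmega F Qf ≃* Cfsg.POmega F Qf') (σ : F ≃+* F),
        (∀ z₁ z₂ : F, z₁ ^ 2 + a' * z₁ * z₂ + b' * z₂ ^ 2 = 0 → z₁ = 0 ∧ z₂ = 0) ∧
        σ ≠ RingEquiv.refl F ∧ σ a' = a' ∧ σ b' = b' ∧
        Cfsg.IsFieldAutPOmegaOf Qf' σ ((ψ.symm.trans x).trans ψ) := by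
  subst hQf
  classical
  obtain ⟨r, hr, hc⟩ := exists_char F
  haveI : Nonempty ((Fin m ⊕ Fin m) ⊕ Fin 2) := ⟨Sum.inr 0⟩
  have hcard := card_idx_minus m
  have hne : ∃ v, minusForm F m a b v ≠ 0 := Cfsg.Agent.S2726.minus_ne (by omega) a b
  have hI := inndiag_minus_eq_cpAut m a b hab hne
  have hxN : x ∉ cpAut (minusForm F m a b) (minusForm_nondeg F m hab) hne (m + 1)
      (card_idx_minus m) := by
    intro h
    apply hnot
    rw [mem_cpAut_iff] at h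
    obtain ⟨g, hg, hgx⟩ := h
    refine ⟨g.1, g.2, ?_, (induced_iff ⇑(minusForm F m a b) g.2 _).mpr hgx.symm⟩
    refine (preservesMinus_iff_isCP a b hab g.1 (mult ⇑(minusForm F m a b) hne g) ?_).mpr hg
    intro u
    have := mult_spec ⇑(minusForm F m a b) hne g u
    rw [minusForm_apply, minusForm_apply] at this
    exact this
  have hdim : finrank F ((Fin m ⊕ Fin m) ⊕ Fin 2 → F) = 2 * (m + 1) := by
    rw [Module.finrank_fintype_fun_eq_card, hcard]
  have h5 : 5 ≤ Fintype.card ((Fin m ⊕ Fin m) ⊕ Fin 2) := by rw [hcard]; omega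
  have hQn : Nondeg (minusForm F m a b) := (nondeg_iff _).mp (minusForm_nondeg F m hab)
  have hB2 : 9 ≤ finrank F ((Fin m ⊕ Fin m) ⊕ Fin 2 → F) ∨ NoB2 (minusForm F m a b) := by
    by_cases h4 : 4 ≤ m
    · left; rw [hdim]; omega
    · right
      obtain rfl : m = 3 := by omega
      exact noB2_minus hab
  have hsurj : Function.Surjective (Psi (Q := minusForm F m a b)) :=
    Psi_surjective hQn (by rw [hdim]; omega) r hB2
  have hker : (Psi (Q := minusForm F m a b)).ker ≤ (tau (Q := minusForm F m a b)).ker := by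
    rw [ker_Psi hQn (by rw [hdim]; omega) r]
    rintro _ ⟨c, rfl⟩
    exact MonoidHom.mem_ker.mpr (tau_scalarGamma c)
  obtain ⟨T, hT⟩ : ∃ T : MulAut (Cfsg.POmega F ⇑(minusForm F m a b)) →* (F ≃+* F),
      T = tauAutM (minusForm F m a b) (minusForm_nondeg F m hab) h5 hsurj hker := ⟨_, rfl⟩
  obtain ⟨σ, hσ⟩ : ∃ σ : F ≃+* F, σ = T x := ⟨_, rfl⟩
  have hpodd : Odd p := (Fact.out : p.Prime).odd_of_ne_two hp2
  have hxp : x ^ p = 1 := by rw [← hord, pow_orderOf_eq_one]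
  have hσ1 : σ ≠ 1 := by
    intro h1
    apply hxN
    have h2 := lbal_omc_coset (minusForm F m a b) (minusForm_nondeg F m hab) hne (m + 1)
      (card_idx_minus m) h5 hsurj hker hpodd x 1
      (by rw [← hT, ← hσ, h1, map_one]) hxp (one_pow p)
    rw [inv_one, mul_one] at h2
    exact h2
  have hσp : σ ^ p = 1 := by rw [hσ, ← map_pow, hxp, map_one]
  have hσo : orderOf σ = p := orderOf_eq_prime hσp hσ1
  obtain ⟨a', b', ha', hb', hab'⟩ := lbal_omc_exists_pair σ (Fact.out : p.Prime) hp2 hσo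
  refine ⟨a', b', ?_⟩
  intro Qf' hQf'
  subst hQf'
  obtain ⟨ψ, γ₀, hγ₀, hfield⟩ := lbal_omc_std hm a b a' b' hab hab' σ ha' hb' h5
  obtain ⟨x₀, hx₀⟩ : ∃ x₀ : MulAut (Cfsg.POmega F ⇑(minusForm F m a b)),
      x₀ = PsiM (minusForm F m a b) (minusForm_nondeg F m hab) h5 γ₀ := ⟨_, rfl⟩
  rw [← hx₀] at hfield
  have hTx₀ : T x₀ = σ := by rw [hT, hx₀, tauAutM_PsiM, hγ₀]
  have hx₀o : orderOf x₀ = p := by
    have hσQ' := minusForm_sigma σ m ha' hb'
    have hx' := eq_PsiM_of_isFieldAut_one (minusForm F m a' b') σ hσQ'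
      (minusForm_nondeg F m hab') h5 hfield
    have h1 := orderOf_PsiM_fieldGammaOne (minusForm F m a' b') σ hσQ'
      (minusForm_nondeg F m hab') h5 r
    rw [← hx'] at h1
    have e : (ψ.symm.trans x₀).trans ψ = MulAut.congr ψ x₀ := rfl
    rw [e, MulEquiv.orderOf_eq] at h1
    rw [h1, hσo]
  have hx₀p : x₀ ^ p = 1 := by rw [← hx₀o, pow_orderOf_eq_one]
  have hδ := lbal_omc_coset (minusForm F m a b) (minusForm_nondeg F m hab) hne (m + 1)
    (card_idx_minus m) h5 hsurj hker hpodd x x₀ (by rw [← hT, hTx₀, hσ]) hxp hx₀p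
  rw [← hI] at hδ
  have hconj := (coset_conj_minus hm a b a' b' hab hab' ⇑(minusForm F m a b)
    ⇑(minusForm F m a' b') rfl rfl x₀ (x * x₀⁻¹) ψ σ ha' hb' hfield (Fact.out : p.Prime) hx₀o
    hδ).mp (by rw [inv_mul_cancel_right]; exact hord)
  obtain ⟨h, -, hh⟩ := hconj
  rw [inv_mul_cancel_right] at hh
  refine ⟨(MulEquiv.symm h).trans ψ, σ, hab', hσ1, ha', hb', ?_⟩
  have e : (((MulEquiv.symm h).trans ψ).symm.trans x).trans ((MulEquiv.symm h).trans ψ)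
      = (ψ.symm.trans x₀).trans ψ := by
    apply MulEquiv.ext
    intro t
    show ψ (h.symm (x (h (ψ.symm t)))) = ψ (x₀ (ψ.symm t))
    rw [hh]
    show ψ (h.symm (h (x₀ (h⁻¹ (h (ψ.symm t)))))) = ψ (x₀ (ψ.symm t))
    rw [MulEquiv.symm_apply_apply, MulAut.inv_apply, MulEquiv.symm_apply_apply]
  rw [e]
  exact hfield

/-- **O1 (spare)**: an element of odd prime order of `Aut(PΩ⁻_{2m+2}(q))` which is not
inner-diagonal is a field automorphism. -/
theorem lbal_om_field_class_s {m : ℕ} (hm : 3 ≤ m) (a b : F)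
    (hab : ∀ z₁ z₂ : F, z₁ ^ 2 + a * z₁ * z₂ + b * z₂ ^ 2 = 0 → z₁ = 0 ∧ z₂ = 0)
    {p : ℕ} [Fact p.Prime] (hp2 : p ≠ 2)
    (x : MulAut (Cfsg.POmega F (Cfsg.quadFormMinus m F a b))) (hord : orderOf x = p)
    (hnot : ¬ Cfsg.IsInnerDiagonalAutPOmegaMinus m a b x) :
    Cfsg.IsFieldAutClassPOmegaMinus m x := by
  have e : Cfsg.quadFormMinus m F a b = ⇑(minusForm F m a b) :=
    funext (fun v => (minusForm_apply F m a b v).symm)
  obtain ⟨a', b', h⟩ := lbal_omc_class_aux hm a b hab (Cfsg.quadFormMinus m F a b) e hp2 x hord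
    hnot
  obtain ⟨ψ, σ, h1, h2, h3, h4, h5⟩ := h (Cfsg.quadFormMinus m F a' b')
    (funext (fun v => (minusForm_apply F m a' b' v).symm))
  exact ⟨a', b', ψ, σ, h1, h2, h3, h4, h5⟩

end Cfsg.Agent.LBal
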