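import Mathlib
import Cfsg.Agent.LBal.PGOCoreLin
import Cfsg.Agent.LBal.PGOCoreAbs
import Cfsg.Agent.LBal.QuotCore
import Cfsg.Agent.Helper8.SiegelSimple

/-!
# S2733 O3a, part A (helper9): abstract quadratic spaces of dimension at least five

A normal subgroup `M` of the isometry group of a nondegenerate quadratic space of dimension at
least five over a finite field of odd characteristic, every element of which has an odd power
acting as a scalar, consists of scalars.
-/

set_option autoImplicit false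

namespace Cfsg.Agent.LBal

open Module Cfsg.Agent.Helper8.QuadForm Cfsg.Agent.Helper8.OrthOrder
  Cfsg.Agent.Helper8.Reflections Cfsg.Agent.Helper8.OmegaCenter
  Cfsg.Agent.Helper8.SiegelGroup Cfsg.Agent.Helper8.SiegelSimple

variable {F : Type*} [Field F] [Fintype F] {V : Type*} [AddCommGroup V] [Module F V]
  [FiniteDimensional F V] (Q : QuadraticForm F V)

/-- `r_u r_w` lies in the Siegel group for orthogonal `u, w` of the same nonzero norm. -/
theorem lbal_om_rr_mem_SG (h2 : (2 : F) ≠ 0) (hQ : Nondeg Q) (h5 : 5 ≤ finrank F V) {u w : V}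
    (hu : Q u ≠ 0) (hw : Q w = Q u) (huw : QuadraticMap.polar Q u w = 0) :
    reflG Q u * reflG Q w ∈ SG Q := by
  have hww : QuadraticMap.polar Q w w ≠ 0 := by
    rw [polar_self', hw]; exact mul_ne_zero h2 hu
  have hd : u - w ≠ 0 := by
    intro h
    have h1 : u = w := sub_eq_zero.mp h
    rw [h1] at huw
    exact hww huw
  rcases exists_siegel_move Q hQ h5 (a := u) (a' := w) hw.symm hd with ⟨μ, hμ⟩ | ⟨g, hg, hgu⟩
  · exfalso
    have h1 : QuadraticMap.polar Q u w = μ * (QuadraticMap.polar Q u w - QuadraticMap.polar Q w w) := by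
      conv_lhs => rw [hμ]
      rw [QuadraticMap.polar_smul_left, QuadraticMap.polar_sub_left, smul_eq_mul]
    rw [huw, zero_sub] at h1
    have hμ0 : μ = 0 := by
      rcases mul_eq_zero.mp h1.symm with h | h
      · exact h
      · exact absurd (neg_eq_zero.mp h) hww
    rw [hμ0, zero_smul] at hμ
    rw [hμ, map_zero] at hu
    exact hu rfl
  · have h1 : reflG Q w = g * reflG Q u * g⁻¹ := by rw [reflG_conj, hgu]
    have h3 : reflG Q u * (g * reflG Q u * g⁻¹) = (reflG Q u * g * (reflG Q u)⁻¹) * g⁻¹ := by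
      rw [reflG_inv]; group
    rw [h1, h3]
    exact (SG Q).mul_mem ((SG_normal Q).conj_mem g hg _) ((SG Q).inv_mem hg)

omit [Fintype F] [FiniteDimensional F V] in
theorem lbal_om_isom_mul_apply (a b : ↥(Isom Q)) (x : V) :
    ((a * b : ↥(Isom Q)) : V ≃ₗ[F] V) x = (a : V ≃ₗ[F] V) ((b : V ≃ₗ[F] V) x) := rfl

omit [Fintype F] [FiniteDimensional F V] in
theorem lbal_om_reflG_apply (u x : V) : ((reflG Q u : ↥(Isom Q)) : V ≃ₗ[F] V) x = refl Q u x := rfl

/-- an odd power of an involution is the involution. -/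
theorem lbal_om_pow_odd_of_sq {G : Type*} [Group G] (s : G) (hs : s * s = 1) {r : ℕ}
    (hr : Odd r) : s ^ r = s := by
  obtain ⟨k, rfl⟩ := hr
  rw [pow_succ, pow_mul, pow_two, hs, one_pow, one_mul]

/-- **dimension at least five.** -/
theorem lbal_om_x_big (h2 : (2 : F) ≠ 0) (hQ : Nondeg Q) (h5 : 5 ≤ finrank F V)
    (M : Subgroup ↥(Isom Q)) [hM : M.Normal]
    (hpow : ∀ m ∈ M, ∃ r : ℕ, Odd r ∧ ∃ a : F, ∀ v, ((m ^ r : ↥(Isom Q)) : V ≃ₗ[F] V) v = a • v) :
    ∀ m ∈ M, ∃ a : F, ∀ v, ((m : ↥(Isom Q)) : V ≃ₗ[F] V) v = a • v := by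
  have hM0n : (M ⊓ SG Q).Normal := Subgroup.normal_inf_normal M (SG Q)
  have hn : ((M ⊓ SG Q).subgroupOf (SG Q)).Normal := hM0n.subgroupOf (SG Q)
  rcases lbal_qs_normal (isSimpleGroup_SG Q hQ h5) (commutator_SG_eq_top Q hQ h5)
    ((M ⊓ SG Q).subgroupOf (SG Q)) with h | h
  · -- impossible: the Siegel group contains a non-scalar involution
    exfalso
    rw [Subgroup.subgroupOf_eq_top] at h
    obtain ⟨u, hu1⟩ := exists_repr Q hQ (by omega) 1
    have hu : Q u ≠ 0 := by rw [hu1]; exact one_ne_zero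
    obtain ⟨w, huw, hw⟩ := exists_perp_repr Q hQ h2 hu (by omega) (Q u)
    obtain ⟨x, hux, hwx, hx⟩ := exists_perp_perp_repr Q hQ h2 (by omega) hu
      (by rw [hw]; exact hu) huw (Q u)
    have hsS := lbal_om_rr_mem_SG Q h2 hQ h5 hu hw huw
    have hsM : reflG Q u * reflG Q w ∈ M := (h hsS).1
    have hwu : QuadraticMap.polar Q w u = 0 := by rw [QuadraticMap.polar_comm]; exact huw
    have hss : (reflG Q u * reflG Q w) * (reflG Q u * reflG Q w) = 1 := by
      have h1 : reflG Q w * reflG Q u * (reflG Q w)⁻¹ = reflG Q u := by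
        rw [reflG_conj]
        congr 1
        exact refl_of_perp Q hwu
      rw [reflG_inv] at h1
      have h3 : reflG Q u * reflG Q u = 1 := by
        apply Subtype.ext
        exact refl_mul_self Q u
      calc reflG Q u * reflG Q w * (reflG Q u * reflG Q w)
          = reflG Q u * (reflG Q w * reflG Q u * reflG Q w) := by group
        _ = 1 := by rw [h1, h3]
    obtain ⟨r, hr, a, ha⟩ := hpow _ hsM
    rw [lbal_om_pow_odd_of_sq _ hss hr] at ha
    have e1 := ha u
    rw [lbal_om_isom_mul_apply, lbal_om_reflG_apply, lbal_om_reflG_apply, refl_of_perp Q hwu,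
      refl_self Q hu] at e1
    have e2 := ha x
    rw [lbal_om_isom_mul_apply, lbal_om_reflG_apply, lbal_om_reflG_apply, refl_of_perp Q hwx,
      refl_of_perp Q hux] at e2
    have hx0 : x ≠ 0 := by
      rintro rfl
      rw [map_zero] at hx
      exact hu hx.symm
    have hu0 : u ≠ 0 := by
      rintro rfl
      rw [map_zero] at hu
      exact hu rfl
    have hc1 : a = 1 := by
      have : (a - 1) • x = 0 := by rw [sub_smul, one_smul, ← e2, sub_self]
      rcases smul_eq_zero.mp this with h | h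
      · exact sub_eq_zero.mp h
      · exact absurd h hx0
    have hc2 : a = -1 := by
      have : (a + 1) • u = 0 := by rw [add_smul, one_smul, ← e1, neg_add_cancel]
      rcases smul_eq_zero.mp this with h | h
      · exact eq_neg_of_add_eq_zero_left h
      · exact absurd h hu0
    apply h2
    have : (2 : F) = 1 - (-1) := by norm_num
    rw [this, ← hc2, hc1, sub_self]
  · -- `M ∩ SG` is central in `SG`, so `M` centralises `SG`
    intro m hm
    have hMc : ∀ k ∈ M ⊓ SG Q, ∀ s ∈ SG Q, k * s = s * k := by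
      intro k hk s hs
      have h1 : (⟨k, hk.2⟩ : ↥(SG Q)) ∈ (M ⊓ SG Q).subgroupOf (SG Q) := by
        rw [Subgroup.mem_subgroupOf]; exact hk
      have h3 := (Subgroup.mem_center_iff.mp (h h1)) ⟨s, hs⟩
      exact (congrArg Subtype.val h3).symm
    have hg : ∀ s ∈ SG Q, m * s * m⁻¹ * s⁻¹ ∈ M ⊓ SG Q := by
      intro s hs
      refine ⟨?_, ?_⟩
      · have h1 : m * s * m⁻¹ * s⁻¹ = m * (s * m⁻¹ * s⁻¹) := by group
        rw [h1]
        exact M.mul_mem hm (hM.conj_mem _ (M.inv_mem hm) s)
      · exact (SG Q).mul_mem ((SG_normal Q).conj_mem s hs m) ((SG Q).inv_mem hs)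
    have hcen : ∀ s ∈ SG Q, m * s = s * m := fun s hs =>
      lbal_centralizes_of_perfect (SG Q) (M ⊓ SG Q) inf_le_right
        (commutator_SG_eq_top Q hQ h5) hMc m hg s hs
    apply lbal_pgo_scalar_of_comm h2 Q hQ (by omega) (m : V ≃ₗ[F] V)
    intro u w hu hw huw x
    have h1 := hcen _ (lbal_om_rr_mem_SG Q h2 hQ h5 hu hw huw)
    have h3 := congrArg (fun k : ↥(Isom Q) => (k : V ≃ₗ[F] V) x) h1
    exact h3

end Cfsg.Agent.LBal
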