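import Mathlib
import Cfsg.Agent.LBal.WittOneE

/-!
# S2733 O3a, part B (helper9): abstract ternary quadratic spaces

A normal subgroup `M` of the isometry group of a nondegenerate ternary quadratic space over a finite
field of odd order, every element of which has an odd power acting as a scalar, consists of scalars
(2-transitivity on the `q + 1` singular points, after helper8's `WittOneA`–`WittOneD`).
-/

set_option autoImplicit false

namespace Cfsg.Agent.LBal

open Module Cfsg Cfsg.Agent.Helper8.QuadForm Cfsg.Agent.Helper8.OrthOrder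
  Cfsg.Agent.Helper8.Siegel Cfsg.Agent.Helper8.SiegelGeom Cfsg.Agent.Helper8.SiegelGroup
  Cfsg.Agent.Helper8.SiegelPrim Cfsg.Agent.Helper8.SiegelSimple

variable {F : Type*} [Field F] [Fintype F] {V : Type*} [AddCommGroup V] [Module F V]
  [FiniteDimensional F V] (Q : QuadraticForm F V)

omit [Fintype F] in
/-- the orthogonal complement of a hyperbolic pair in a nondegenerate ternary space is
anisotropic. -/
theorem lbal_om_aniso3 (hQ : Nondeg Q) (h3 : finrank F V = 3) {e f : V} (he : Q e = 0)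
    (hf : Q f = 0) (hef : QuadraticMap.polar Q e f = 1) :
    ∀ w ∈ perpPair Q e f, Q w = 0 → w = 0 := by
  intro w hw hQw
  by_contra hw0
  have hrk := finrank_perpPair Q he hf hef
  have h1 : finrank F ↥(perpPair Q e f) = 1 := by omega
  have hspan : ∀ w' ∈ perpPair Q e f, ∃ c : F, w' = c • w := by
    intro w' hw'
    have hne : (⟨w, hw⟩ : ↥(perpPair Q e f)) ≠ 0 := fun h => hw0 (congrArg Subtype.val h)
    obtain ⟨c, hc⟩ := (finrank_eq_one_iff_of_nonzero' (⟨w, hw⟩ : ↥(perpPair Q e f)) hne).mp h1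
      ⟨w', hw'⟩
    exact ⟨c, (congrArg Subtype.val hc).symm⟩
  apply hw0
  apply hQ w
  intro x
  obtain ⟨hwe, hwf⟩ := (mem_perpPair Q e f w).mp hw
  obtain ⟨c, hc⟩ := hspan _ ((decomp Q he hf hef x).2).2
  rw [decomp_eq Q he hf hef x, hc, QuadraticMap.polar_add_right, QuadraticMap.polar_add_right,
    QuadraticMap.polar_smul_right, QuadraticMap.polar_smul_right, QuadraticMap.polar_smul_right,
    QuadraticMap.polar_comm Q w e, QuadraticMap.polar_comm Q w f, hwe, hwf, polar_self', hQw]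
  simp

omit [Fintype F] in
/-- the isometry group is transitive on the singular points -/
theorem lbal_om_isom_transitive [Finite F] (hQ : Nondeg Q) (h3 : 3 ≤ finrank F V)
    (p p' : SPt Q) : ∃ k : ↥(Isom Q), k • p = p' := by
  obtain ⟨a, ha0, ha, rfl⟩ := exists_rep Q p
  obtain ⟨a', ha'0, ha', rfl⟩ := exists_rep Q p'
  obtain ⟨g, -, t, ht, hga⟩ := exists_SGW_smul Q ⊤ (nondegOn_top Q hQ)
    (by rw [finrank_top]; exact h3) (Submodule.mem_top (x := a)) (Submodule.mem_top (x := a'))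
    ha ha' ha0 ha'0
  refine ⟨g, ?_⟩
  rw [smul_mkPt]
  exact (mkPt_eq_of_smul Q ha'0 ha' _ _ hga).symm

omit [Fintype F] [FiniteDimensional F V] in
/-- for Witt index one the stabiliser of a singular point is transitive on the other points -/
theorem lbal_om_stab_transitive
    (hW : ∀ u a : V, u ≠ 0 → Q u = 0 → Q a = 0 → QuadraticMap.polar Q u a = 0 →
      a ∈ Submodule.span F {u}) (p q q' : SPt Q) (hq : q ≠ p) (hq' : q' ≠ p) :
    ∃ k : ↥(Isom Q), k • p = p ∧ k • q = q' := by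
  obtain ⟨u, hu0, hu, rfl⟩ := exists_rep Q p
  obtain ⟨a, ha0, ha, rfl⟩ := exists_rep Q q
  obtain ⟨a', ha'0, ha', rfl⟩ := exists_rep Q q'
  have hua : QuadraticMap.polar Q u a ≠ 0 := by
    intro h
    exact not_mem_span_of_ne Q hu0 hu ha0 ha hq (hW u a hu0 hu ha h)
  have hua' : QuadraticMap.polar Q u a' ≠ 0 := by
    intro h
    exact not_mem_span_of_ne Q hu0 hu ha'0 ha' hq' (hW u a' hu0 hu ha' h)
  obtain ⟨g, -, hgu, t, ht, hga⟩ := exists_stab_nonperp Q hu ha ha' hua hua'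
  refine ⟨g, ?_, ?_⟩
  · rw [smul_mkPt]
    exact (mkPt_eq_of_smul Q hu0 hu _ _
      (by rw [hgu, one_smul] : (g : _ ≃ₗ[F] _) u = (1 : F) • u)).symm
  · rw [smul_mkPt]
    exact (mkPt_eq_of_smul Q ha'0 ha' _ _ hga).symm

omit [Fintype F] in
/-- **2-transitivity** of the isometry group on the singular points (Witt index one). -/
theorem lbal_om_two_transitive [Finite F] (hQ : Nondeg Q) (h3 : 3 ≤ finrank F V)
    (hW : ∀ u a : V, u ≠ 0 → Q u = 0 → Q a = 0 → QuadraticMap.polar Q u a = 0 →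
      a ∈ Submodule.span F {u}) :
    MulAction.IsMultiplyPretransitive ↥(Isom Q) (SPt Q) 2 := by
  rw [MulAction.is_two_pretransitive_iff]
  intro a b c d hab hcd
  obtain ⟨k₁, hk₁⟩ := lbal_om_isom_transitive Q hQ h3 a c
  have h1 : k₁ • b ≠ c := by
    intro h
    rw [← hk₁] at h
    exact hab (MulAction.injective k₁ h).symm
  obtain ⟨k₂, hk₂c, hk₂⟩ := lbal_om_stab_transitive Q hW c (k₁ • b) d h1 (Ne.symm hcd)
  refine ⟨k₂ * k₁, ?_, ?_⟩
  · rw [mul_smul, hk₁, hk₂c]
  · rw [mul_smul, hk₂]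

/-- **dimension three.** -/
theorem lbal_om_x_three (hodd : Odd (Fintype.card F)) (hQ : Nondeg Q) (h3 : finrank F V = 3)
    (M : Subgroup ↥(Isom Q)) [hM : M.Normal]
    (hpow : ∀ m ∈ M, ∃ r : ℕ, Odd r ∧ ∃ a : F, ∀ v, ((m ^ r : ↥(Isom Q)) : V ≃ₗ[F] V) v = a • v) :
    ∀ m ∈ M, ∃ a : F, ∀ v, ((m : ↥(Isom Q)) : V ≃ₗ[F] V) v = a • v := by
  have h2 : (2 : F) ≠ 0 := Cfsg.Agent.Helper8.OmegaStd.two_ne_zero_of_odd hodd
  obtain ⟨e, he0, he⟩ := exists_singular Q (by omega)
  obtain ⟨f, hf, hef⟩ := exists_hyperbolic_pair Q hQ he0 he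
  have han := lbal_om_aniso3 Q hQ h3 he hf hef
  have hW : ∀ u a : V, u ≠ 0 → Q u = 0 → Q a = 0 → QuadraticMap.polar Q u a = 0 →
      a ∈ Submodule.span F {u} := fun u a hu0 hu ha hua =>
    lbal_wittOne_of_aniso Q he hf hef han u a hu0 hu ha hua
  have hprim : MulAction.IsPreprimitive ↥(Isom Q) (SPt Q) :=
    MulAction.isPreprimitive_of_is_two_pretransitive
      (lbal_om_two_transitive Q hQ (by omega) hW)
  have hex : ∃ w ∈ perpPair Q e f, Q w ≠ 0 := by
    have hrk := finrank_perpPair Q he hf hef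
    have hpos : 0 < finrank F ↥(perpPair Q e f) := by omega
    obtain ⟨w, hw0⟩ := Module.finrank_pos_iff_exists_ne_zero.mp hpos
    exact ⟨w, w.2, fun hQw => hw0 (Subtype.ext (han w w.2 hQw))⟩
  by_cases hfp : MulAction.fixedPoints ↥M (SPt Q) = Set.univ
  · intro m hm
    apply lbal_scalar_of_fix Q he hf hef h2 hex ((m : V ≃ₗ[F] V) : V →ₗ[F] V)
    intro u hu0 hu
    have hp : mkPt Q u hu0 hu ∈ MulAction.fixedPoints ↥M (SPt Q) := by
      rw [hfp]; exact Set.mem_univ _
    have h1 : m • mkPt Q u hu0 hu = mkPt Q u hu0 hu := hp ⟨m, hm⟩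
    rw [smul_mkPt] at h1
    obtain ⟨t, -, ht⟩ := (mkPt_eq_iff Q _ _ hu0 hu).mp h1
    have ht0 : t ≠ 0 := by
      rintro rfl
      rw [zero_smul] at ht
      exact hu0 ht
    refine ⟨t⁻¹, ?_⟩
    show (m : V ≃ₗ[F] V) u = t⁻¹ • u
    rw [eq_comm, inv_smul_eq_iff₀ ht0]
    exact ht
  · exfalso
    have htr : MulAction.IsPretransitive ↥M (SPt Q) :=
      MulAction.IsQuasiPreprimitive.isPretransitive_of_normal hfp
    have heven : Even (Nat.card (SPt Q)) := lbal_even_card_SPt Q hodd he hf hef hW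
    have hfinV : Finite V := Module.finite_of_finite F
    have hfinG : Finite (V ≃ₗ[F] V) :=
      Finite.of_injective (fun g : V ≃ₗ[F] V => (g : V → V)) DFunLike.coe_injective
    obtain ⟨φ, hφ⟩ : ∃ φ : ↥M →* Equiv.Perm (SPt Q), ∀ (m : ↥M) (p : SPt Q), φ m p = m • p :=
      ⟨MulAction.toPermHom ↥M (SPt Q), fun m p => rfl⟩
    have hfinR : Finite ↥φ.range :=
      Finite.of_surjective φ.rangeRestrict φ.rangeRestrict_surjective
    obtain ⟨p₀⟩ : Nonempty (SPt Q) := ⟨mkPt Q e he0 he⟩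
    have hidx := MulAction.index_stabilizer_of_transitive ↥M p₀
    have hker : φ.ker ≤ MulAction.stabilizer ↥M p₀ := by
      intro g hg
      rw [MonoidHom.mem_ker] at hg
      rw [MulAction.mem_stabilizer_iff, ← hφ, hg]
      rfl
    have h5 : (MulAction.stabilizer ↥M p₀).index ∣ φ.ker.index := Subgroup.index_dvd_of_le hker
    rw [hidx, Subgroup.index_ker] at h5
    have h6 : 2 ∣ Nat.card ↥φ.range := (even_iff_two_dvd.mp heven).trans h5
    have : Fact (Nat.Prime 2) := ⟨Nat.prime_two⟩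
    obtain ⟨x, hx⟩ := exists_prime_orderOf_dvd_card' 2 h6
    obtain ⟨m, hm⟩ := x.2
    obtain ⟨r, hr, a, ha⟩ := hpow m.1 m.2
    -- `m ^ r` acts trivially on the points
    have h7 : φ (m ^ r) = 1 := by
      apply Equiv.ext
      intro p
      rw [hφ]
      obtain ⟨u, hu0, hu, rfl⟩ := exists_rep Q p
      show ((m ^ r : ↥M) : ↥(Isom Q)) • mkPt Q u hu0 hu = mkPt Q u hu0 hu
      rw [smul_mkPt]
      refine (mkPt_eq_of_smul Q hu0 hu _ _ (t := a) ?_).symm
      rw [Subgroup.coe_pow]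
      exact ha u
    have h8 : x ^ r = 1 := by
      apply Subtype.ext
      rw [Subgroup.coe_pow, ← hm, ← map_pow, h7]
      rfl
    have h9 : 2 ∣ r := by
      rw [← hx]
      exact orderOf_dvd_of_pow_eq_one h8
    exact (Nat.not_even_iff_odd.mpr hr) (even_iff_two_dvd.mpr h9)

end Cfsg.Agent.LBal
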