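import Mathlib
import Cfsg.Agent.LBal.OmH3InvA
import Cfsg.Agent.LBal.OmH3InvB

/-!
# S2733 O3a, part C (helper9): the abstract theorem

`V` a nondegenerate quadratic space over a finite field of odd order, `γ` an isometric involution
whose two eigenspaces have odd dimension, `Θ : Isom Q → A` a homomorphism whose kernel consists of
scalars.  A subgroup `M` of `A` all of whose elements have odd order and are images of isometries
commuting with `γ`, normalised by the images of all such isometries, is trivial.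
-/

set_option autoImplicit false

namespace Cfsg.Agent.LBal

open Module Cfsg.Agent.Helper8.QuadForm Cfsg.Agent.Helper8.OrthOrder

variable {F : Type*} [Field F] [Fintype F] {V : Type*} [AddCommGroup V] [Module F V]
  [FiniteDimensional F V] (Q : QuadraticForm F V)

omit [Fintype F] [FiniteDimensional F V] in
/-- dimension one: every linear automorphism is a scalar -/
theorem lbal_om_x_one (h1 : finrank F V = 1) (k : V ≃ₗ[F] V) : ∃ a : F, ∀ v, k v = a • v := by
  obtain ⟨v, hv0, hv⟩ := finrank_eq_one_iff'.mp h1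
  obtain ⟨a, ha⟩ := hv (k v)
  refine ⟨a, fun x => ?_⟩
  obtain ⟨c, rfl⟩ := hv x
  rw [map_smul, ← ha, smul_comm]

/-- **odd dimension**: a normal subgroup of the isometry group whose elements have odd powers
acting as scalars consists of scalars. -/
theorem lbal_om_x_odd (hodd : Odd (Fintype.card F)) (hQ : Nondeg Q) (hdim : Odd (finrank F V))
    (M : Subgroup ↥(Isom Q)) [hM : M.Normal]
    (hpow : ∀ m ∈ M, ∃ r : ℕ, Odd r ∧ ∃ a : F, ∀ v, ((m ^ r : ↥(Isom Q)) : V ≃ₗ[F] V) v = a • v) :
    ∀ m ∈ M, ∃ a : F, ∀ v, ((m : ↥(Isom Q)) : V ≃ₗ[F] V) v = a • v := by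
  have h2 : (2 : F) ≠ 0 := Cfsg.Agent.Helper8.OmegaStd.two_ne_zero_of_odd hodd
  by_cases h1 : finrank F V = 1
  · intro m _
    exact lbal_om_x_one h1 _
  by_cases h3 : finrank F V = 3
  · exact lbal_om_x_three Q hodd hQ h3 M hpow
  · have h5 : 5 ≤ finrank F V := by
      obtain ⟨k, hk⟩ := hdim
      omega
    exact lbal_om_x_big Q h2 hQ h5 M hpow

/-! ### an orthogonal decomposition -/

section pair

variable (W W' : Submodule F V) (hc : IsCompl W W')

omit [Fintype F] [FiniteDimensional F V] in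
include hc in
theorem lbal_om_pair_nondeg (hperp : ∀ x ∈ W, ∀ y ∈ W', QuadraticMap.polar Q x y = 0)
    (hQ : Nondeg Q) : Nondeg (Q.comp W.subtype) := by
  intro x hx
  apply Subtype.ext
  apply hQ
  intro v
  obtain ⟨⟨y, y'⟩, rfl⟩ := (Submodule.prodEquivOfIsCompl W W' hc).surjective v
  rw [Submodule.coe_prodEquivOfIsCompl', QuadraticMap.polar_add_right, hperp x x.2 y' y'.2,
    add_zero]
  exact hx y

/-- extension by the identity on the complement -/
noncomputable def lbal_om_ext (s : ↥W ≃ₗ[F] ↥W) : V ≃ₗ[F] V :=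
  (Submodule.prodEquivOfIsCompl W W' hc).symm.trans
    ((s.prodCongr (LinearEquiv.refl F ↥W')).trans (Submodule.prodEquivOfIsCompl W W' hc))

omit [Fintype F] [FiniteDimensional F V] in
theorem lbal_om_ext_add (s : ↥W ≃ₗ[F] ↥W) (x : ↥W) (y : ↥W') :
    lbal_om_ext W W' hc s ((x : V) + (y : V)) = ((s x : ↥W) : V) + (y : V) := by
  have h1 : (Submodule.prodEquivOfIsCompl W W' hc).symm ((x : V) + (y : V)) = (x, y) := by
    rw [LinearEquiv.symm_apply_eq, Submodule.coe_prodEquivOfIsCompl']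
  unfold lbal_om_ext
  rw [LinearEquiv.trans_apply, h1, LinearEquiv.trans_apply, Submodule.coe_prodEquivOfIsCompl']
  rfl

omit [Fintype F] [FiniteDimensional F V] in
theorem lbal_om_ext_left (s : ↥W ≃ₗ[F] ↥W) (x : ↥W) :
    lbal_om_ext W W' hc s (x : V) = ((s x : ↥W) : V) := by
  have := lbal_om_ext_add W W' hc s x 0
  simpa using this

omit [Fintype F] [FiniteDimensional F V] in
theorem lbal_om_ext_right (s : ↥W ≃ₗ[F] ↥W) (y : ↥W') :
    lbal_om_ext W W' hc s (y : V) = (y : V) := by
  have := lbal_om_ext_add W W' hc s 0 y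
  simpa using this

omit [Fintype F] [FiniteDimensional F V] in
theorem lbal_om_ext_mem (hperp : ∀ x ∈ W, ∀ y ∈ W', QuadraticMap.polar Q x y = 0)
    (s : ↥(Isom (Q.comp W.subtype))) : lbal_om_ext W W' hc s.1 ∈ Isom Q := by
  intro v
  obtain ⟨⟨x, y⟩, rfl⟩ := (Submodule.prodEquivOfIsCompl W W' hc).surjective v
  rw [Submodule.coe_prodEquivOfIsCompl', lbal_om_ext_add, QuadraticMap.map_add Q,
    QuadraticMap.map_add Q (x : V), hperp _ (s.1 x).2 _ y.2, hperp _ x.2 _ y.2]
  have : Q ((s.1 x : ↥W) : V) = Q (x : V) := s.2 x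
  rw [this]

end pair

/-! ### eigenspaces -/

/-- the `ε`-eigenspace of a linear automorphism -/
def lbal_om_eig (γ : V ≃ₗ[F] V) (ε : F) : Submodule F V where
  carrier := {v | γ v = ε • v}
  add_mem' := by
    intro a b ha hb
    show γ (a + b) = ε • (a + b)
    rw [map_add, ha, hb, smul_add]
  zero_mem' := by
    show γ 0 = ε • (0 : V)
    rw [map_zero, smul_zero]
  smul_mem' := by
    intro c a ha
    show γ (c • a) = ε • c • a
    rw [map_smul, ha, smul_comm]

omit [Fintype F] [FiniteDimensional F V] in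
theorem lbal_om_mem_eig (γ : V ≃ₗ[F] V) (ε : F) (v : V) :
    v ∈ lbal_om_eig γ ε ↔ γ v = ε • v := Iff.rfl

omit [Fintype F] [FiniteDimensional F V] in
theorem lbal_om_eig_isCompl (h2 : (2 : F) ≠ 0) (γ : V ≃ₗ[F] V) (hγ : ∀ v, γ (γ v) = v) :
    IsCompl (lbal_om_eig γ 1) (lbal_om_eig γ (-1)) := by
  constructor
  · rw [Submodule.disjoint_def]
    intro x h1 h2'
    rw [lbal_om_mem_eig] at h1 h2'
    rw [h1, one_smul, neg_smul, one_smul] at h2'
    have : (2 : F) • x = 0 := by
      rw [two_smul]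
      nth_rewrite 1 [h2']
      exact neg_add_cancel x
    rcases smul_eq_zero.mp this with h | h
    · exact absurd h h2
    · exact h
  · rw [codisjoint_iff, eq_top_iff]
    intro v _
    rw [Submodule.mem_sup]
    refine ⟨(2 : F)⁻¹ • (v + γ v), ?_, (2 : F)⁻¹ • (v - γ v), ?_, ?_⟩
    · rw [lbal_om_mem_eig, map_smul, map_add, hγ, one_smul, add_comm]
    · rw [lbal_om_mem_eig, map_smul, map_sub, hγ, neg_smul, one_smul, ← smul_neg, neg_sub]
    · rw [← smul_add]
      have : v + γ v + (v - γ v) = (2 : F) • v := by rw [two_smul]; abel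
      rw [this, smul_smul, inv_mul_cancel₀ h2, one_smul]

omit [Fintype F] [FiniteDimensional F V] in
theorem lbal_om_eig_perp (h2 : (2 : F) ≠ 0) (γ : ↥(Isom Q)) :
    ∀ x ∈ lbal_om_eig (γ : V ≃ₗ[F] V) 1, ∀ y ∈ lbal_om_eig (γ : V ≃ₗ[F] V) (-1),
      QuadraticMap.polar Q x y = 0 := by
  intro x hx y hy
  rw [lbal_om_mem_eig] at hx hy
  have h1 : QuadraticMap.polar Q ((γ : V ≃ₗ[F] V) x) ((γ : V ≃ₗ[F] V) y)
      = QuadraticMap.polar Q x y := by
    unfold QuadraticMap.polar
    rw [← map_add, γ.2, γ.2, γ.2]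
  rw [hx, hy, one_smul, neg_smul, one_smul, QuadraticMap.polar_neg_right] at h1
  have : (2 : F) * QuadraticMap.polar Q x y = 0 := by
    rw [two_mul]
    nth_rewrite 1 [← h1]
    exact neg_add_cancel _
  rcases mul_eq_zero.mp this with h | h
  · exact absurd h h2
  · exact h

end Cfsg.Agent.LBal
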