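import Mathlib
import Cfsg.Agent.LBal.OmH3InvC

/-!
# S2733 O3a, part D (helper9): the abstract theorem, continued

The subgroup of restrictions to an eigenspace, its normality, and the final abstract statement
`lbal_om_y`.
-/

set_option autoImplicit false

namespace Cfsg.Agent.LBal

open Module Cfsg.Agent.Helper8.QuadForm Cfsg.Agent.Helper8.OrthOrder

variable {F : Type*} [Field F] [Fintype F] {V : Type*} [AddCommGroup V] [Module F V]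
  [FiniteDimensional F V] (Q : QuadraticForm F V)

section Z

variable (W W' : Submodule F V) (γ : ↥(Isom Q)) {A : Type*} [Group A] (Θ : ↥(Isom Q) →* A)
  (M : Subgroup A)

/-- restrictions to `W` of the isometries commuting with `γ` whose image lies in `M` -/
def lbal_om_res : Subgroup ↥(Isom (Q.comp W.subtype)) where
  carrier := {k | ∃ b : ↥(Isom Q), b * γ = γ * b ∧ Θ b ∈ M ∧
    ∀ x : ↥W, (b : V ≃ₗ[F] V) (x : V) = (((k : ↥W ≃ₗ[F] ↥W) x : ↥W) : V)}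
  one_mem' := ⟨1, by rw [one_mul, mul_one], by rw [map_one]; exact M.one_mem, fun x => rfl⟩
  mul_mem' := by
    rintro k k' ⟨b, hb1, hb2, hb3⟩ ⟨b', hb1', hb2', hb3'⟩
    refine ⟨b * b', ?_, ?_, ?_⟩
    · rw [mul_assoc, hb1', ← mul_assoc, hb1, mul_assoc]
    · rw [map_mul]; exact M.mul_mem hb2 hb2'
    · intro x
      show (b : V ≃ₗ[F] V) ((b' : V ≃ₗ[F] V) (x : V))
        = (((k : ↥W ≃ₗ[F] ↥W) ((k' : ↥W ≃ₗ[F] ↥W) x) : ↥W) : V)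
      rw [hb3', hb3]
  inv_mem' := by
    rintro k ⟨b, hb1, hb2, hb3⟩
    refine ⟨b⁻¹, ?_, ?_, ?_⟩
    · exact (Commute.inv_left (show Commute b γ from hb1)).eq
    · rw [map_inv]; exact M.inv_mem hb2
    · intro x
      have h := hb3 (((k⁻¹ : ↥(Isom (Q.comp W.subtype))) : ↥W ≃ₗ[F] ↥W) x)
      have h' : ((k : ↥W ≃ₗ[F] ↥W)
          (((k⁻¹ : ↥(Isom (Q.comp W.subtype))) : ↥W ≃ₗ[F] ↥W) x)) = x := by
        show ((k * k⁻¹ : ↥(Isom (Q.comp W.subtype))) : ↥W ≃ₗ[F] ↥W) x = x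
        rw [mul_inv_cancel]; rfl
      rw [h'] at h
      rw [← h]
      show ((b⁻¹ * b : ↥(Isom Q)) : V ≃ₗ[F] V) _ = _
      rw [inv_mul_cancel]; rfl

omit [Fintype F] [FiniteDimensional F V] in
theorem lbal_om_mem_res (k : ↥(Isom (Q.comp W.subtype))) :
    k ∈ lbal_om_res Q W γ Θ M ↔ ∃ b : ↥(Isom Q), b * γ = γ * b ∧ Θ b ∈ M ∧
      ∀ x : ↥W, (b : V ≃ₗ[F] V) (x : V) = (((k : ↥W ≃ₗ[F] ↥W) x : ↥W) : V) := Iff.rfl

omit [Fintype F] [FiniteDimensional F V] in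
/-- powers restrict to powers -/
theorem lbal_om_res_pow (k : ↥(Isom (Q.comp W.subtype))) (b : ↥(Isom Q))
    (hb3 : ∀ x : ↥W, (b : V ≃ₗ[F] V) (x : V) = (((k : ↥W ≃ₗ[F] ↥W) x : ↥W) : V)) (n : ℕ) :
    ∀ x : ↥W, ((b ^ n : ↥(Isom Q)) : V ≃ₗ[F] V) (x : V)
      = ((((k ^ n : ↥(Isom (Q.comp W.subtype))) : ↥W ≃ₗ[F] ↥W) x : ↥W) : V) := by
  induction n with
  | zero => intro x; rw [pow_zero, pow_zero]; rfl
  | succ n ih =>
    intro x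
    rw [pow_succ, pow_succ]
    show ((b ^ n : ↥(Isom Q)) : V ≃ₗ[F] V) ((b : V ≃ₗ[F] V) (x : V))
      = ((((k ^ n : ↥(Isom (Q.comp W.subtype))) : ↥W ≃ₗ[F] ↥W) ((k : ↥W ≃ₗ[F] ↥W) x) : ↥W) : V)
    rw [hb3, ih]

variable (hc : IsCompl W W') (hperp : ∀ x ∈ W, ∀ y ∈ W', QuadraticMap.polar Q x y = 0)
  (ε ε' : F) (hW : ∀ x ∈ W, (γ : V ≃ₗ[F] V) x = ε • x)
  (hW' : ∀ y ∈ W', (γ : V ≃ₗ[F] V) y = ε' • y)

omit [Fintype F] [FiniteDimensional F V] in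
include hW hW' in
/-- the extension commutes with `γ` -/
theorem lbal_om_ext_comm (s : ↥(Isom (Q.comp W.subtype))) :
    (⟨lbal_om_ext W W' hc s.1, lbal_om_ext_mem Q W W' hc hperp s⟩ : ↥(Isom Q)) * γ
      = γ * ⟨lbal_om_ext W W' hc s.1, lbal_om_ext_mem Q W W' hc hperp s⟩ := by
  apply Subtype.ext
  apply LinearEquiv.ext
  intro v
  obtain ⟨⟨x, y⟩, rfl⟩ := (Submodule.prodEquivOfIsCompl W W' hc).surjective v
  rw [Submodule.coe_prodEquivOfIsCompl']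
  show lbal_om_ext W W' hc s.1 ((γ : V ≃ₗ[F] V) ((x : V) + (y : V)))
    = (γ : V ≃ₗ[F] V) (lbal_om_ext W W' hc s.1 ((x : V) + (y : V)))
  have e1 : (γ : V ≃ₗ[F] V) ((x : V) + (y : V))
      = ((ε • x : ↥W) : V) + ((ε' • y : ↥W') : V) := by
    rw [map_add, hW _ x.2, hW' _ y.2]
    rfl
  rw [e1, lbal_om_ext_add, lbal_om_ext_add, map_add, hW' _ y.2, hW _ (s.1 x).2, map_smul]
  rfl

omit [Fintype F] [FiniteDimensional F V] in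
include hc hperp hW hW' in
/-- the subgroup of restrictions is normal -/
theorem lbal_om_res_normal
    (hMnorm : ∀ b : ↥(Isom Q), b * γ = γ * b → ∀ α ∈ M, Θ b * α * (Θ b)⁻¹ ∈ M) :
    (lbal_om_res Q W γ Θ M).Normal := by
  refine ⟨fun k hk s => ?_⟩
  obtain ⟨b, hb1, hb2, hb3⟩ := hk
  obtain ⟨E, hE⟩ : ∃ E : ↥(Isom Q), E = ⟨lbal_om_ext W W' hc s.1,
    lbal_om_ext_mem Q W W' hc hperp s⟩ := ⟨_, rfl⟩
  have hEγ : E * γ = γ * E := by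
    rw [hE]
    exact lbal_om_ext_comm Q W W' γ hc hperp ε ε' hW hW' s
  have hEl : ∀ x : ↥W, (E : V ≃ₗ[F] V) (x : V) = ((s.1 x : ↥W) : V) := by
    intro x
    rw [hE]
    exact lbal_om_ext_left W W' hc s.1 x
  refine ⟨E * b * E⁻¹, ?_, ?_, ?_⟩
  · have c1 : Commute E γ := hEγ
    have c2 : Commute b γ := hb1
    exact ((c1.mul_left c2).mul_left c1.inv_left).eq
  · rw [map_mul, map_mul, map_inv]
    exact hMnorm E hEγ _ hb2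
  · intro x
    have h1 : ((E⁻¹ : ↥(Isom Q)) : V ≃ₗ[F] V) (x : V)
        = ((((s⁻¹ : ↥(Isom (Q.comp W.subtype))) : ↥W ≃ₗ[F] ↥W) x : ↥W) : V) := by
      have h := hEl (((s⁻¹ : ↥(Isom (Q.comp W.subtype))) : ↥W ≃ₗ[F] ↥W) x)
      have h' : (s.1 (((s⁻¹ : ↥(Isom (Q.comp W.subtype))) : ↥W ≃ₗ[F] ↥W) x)) = x := by
        show ((s * s⁻¹ : ↥(Isom (Q.comp W.subtype))) : ↥W ≃ₗ[F] ↥W) x = x
        rw [mul_inv_cancel]; rfl
      rw [h'] at h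
      nth_rewrite 1 [← h]
      show ((E⁻¹ * E : ↥(Isom Q)) : V ≃ₗ[F] V) _ = _
      rw [inv_mul_cancel]; rfl
    show (E : V ≃ₗ[F] V) ((b : V ≃ₗ[F] V) (((E⁻¹ : ↥(Isom Q)) : V ≃ₗ[F] V) (x : V))) = _
    rw [h1, hb3, hEl]
    rfl

include hc hperp hW hW' in
/-- **an isometry commuting with `γ` whose image lies in `M` acts as a scalar on `W`.** -/
theorem lbal_om_z (hodd : Odd (Fintype.card F)) (hQ : Nondeg Q)
    (hpres : ∀ b : ↥(Isom Q), b * γ = γ * b → ∀ x ∈ W, (b : V ≃ₗ[F] V) x ∈ W)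
    (hdim : Odd (finrank F ↥W))
    (hker : ∀ a : ↥(Isom Q), Θ a = 1 → ∃ c : F, ∀ v, (a : V ≃ₗ[F] V) v = c • v)
    (hMnorm : ∀ b : ↥(Isom Q), b * γ = γ * b → ∀ α ∈ M, Θ b * α * (Θ b)⁻¹ ∈ M)
    (hMord : ∀ α ∈ M, ∃ r : ℕ, Odd r ∧ α ^ r = 1)
    (a : ↥(Isom Q)) (haγ : a * γ = γ * a) (haM : Θ a ∈ M) :
    ∃ c : F, ∀ x ∈ W, (a : V ≃ₗ[F] V) x = c • x := by
  have hn := lbal_om_res_normal Q W W' γ Θ M hc hperp ε ε' hW hW' hMnorm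
  have hndW : Nondeg (Q.comp W.subtype) := lbal_om_pair_nondeg Q W W' hc hperp hQ
  have hpow : ∀ m ∈ lbal_om_res Q W γ Θ M, ∃ r : ℕ, Odd r ∧ ∃ c : F, ∀ v,
      ((m ^ r : ↥(Isom (Q.comp W.subtype))) : ↥W ≃ₗ[F] ↥W) v = c • v := by
    rintro m ⟨b, hb1, hb2, hb3⟩
    obtain ⟨r, hr, hαr⟩ := hMord _ hb2
    rw [← map_pow] at hαr
    obtain ⟨c, hc'⟩ := hker _ hαr
    refine ⟨r, hr, c, fun v => ?_⟩
    apply Subtype.ext
    rw [← lbal_om_res_pow Q W m b hb3 r v, hc']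
    rfl
  have key := lbal_om_x_odd (Q.comp W.subtype) hodd hndW hdim (lbal_om_res Q W γ Θ M) hpow
  have hpa := hpres a haγ
  obtain ⟨f, hf⟩ : ∃ f : ↥W →ₗ[F] ↥W, ∀ x : ↥W, ((f x : ↥W) : V) = (a : V ≃ₗ[F] V) (x : V) :=
    ⟨((a : V ≃ₗ[F] V) : V →ₗ[F] V).restrict hpa, fun x => rfl⟩
  have hinj : Function.Injective f := by
    intro x y h
    apply Subtype.ext
    apply (a : V ≃ₗ[F] V).injective
    rw [← hf, ← hf, h]
  obtain ⟨k, hk⟩ : ∃ k : ↥W ≃ₗ[F] ↥W, ∀ x : ↥W, ((k x : ↥W) : V) = (a : V ≃ₗ[F] V) (x : V) := by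
    refine ⟨LinearEquiv.ofInjectiveEndo f hinj, fun x => ?_⟩
    rw [LinearEquiv.coe_ofInjectiveEndo]
    exact hf x
  have hkI : k ∈ Isom (Q.comp W.subtype) := by
    intro x
    show Q ((k x : ↥W) : V) = Q (x : V)
    rw [hk]
    exact a.2 _
  have hkM : (⟨k, hkI⟩ : ↥(Isom (Q.comp W.subtype))) ∈ lbal_om_res Q W γ Θ M :=
    ⟨a, haγ, haM, fun x => (hk x).symm⟩
  obtain ⟨c, hc'⟩ := key _ hkM
  refine ⟨c, fun x hx => ?_⟩
  have h2 := congrArg Subtype.val (hc' ⟨x, hx⟩)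
  rw [← hk ⟨x, hx⟩]
  exact h2

end Z

omit [Fintype F] in
/-- a nondegenerate quadratic space of positive dimension has a nonsingular vector. -/
theorem lbal_om_exists_nonsing (hQ : Nondeg Q) (hpos : 0 < finrank F V) : ∃ x, Q x ≠ 0 := by
  by_contra h
  push Not at h
  obtain ⟨v, hv⟩ := Module.finrank_pos_iff_exists_ne_zero.mp hpos
  apply hv
  apply hQ
  intro w
  unfold QuadraticMap.polar
  rw [h, h, h]
  simp

/-- **the abstract theorem.** -/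
theorem lbal_om_y (hodd : Odd (Fintype.card F)) (hQ : Nondeg Q) (γ : ↥(Isom Q))
    (hγ : γ * γ = 1)
    (hd1 : Odd (finrank F ↥(lbal_om_eig (γ : V ≃ₗ[F] V) 1)))
    (hd2 : Odd (finrank F ↥(lbal_om_eig (γ : V ≃ₗ[F] V) (-1))))
    {A : Type*} [Group A] (Θ : ↥(Isom Q) →* A)
    (hker : ∀ a : ↥(Isom Q), Θ a = 1 → ∃ c : F, ∀ v, (a : V ≃ₗ[F] V) v = c • v)
    (M : Subgroup A)
    (hMrep : ∀ α ∈ M, ∃ a : ↥(Isom Q), a * γ = γ * a ∧ Θ a = α)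
    (hMnorm : ∀ b : ↥(Isom Q), b * γ = γ * b → ∀ α ∈ M, Θ b * α * (Θ b)⁻¹ ∈ M)
    (hMord : ∀ α ∈ M, ∃ r : ℕ, Odd r ∧ α ^ r = 1) : M = ⊥ := by
  have h2 : (2 : F) ≠ 0 := Cfsg.Agent.Helper8.OmegaStd.two_ne_zero_of_odd hodd
  have hγ' : ∀ v, (γ : V ≃ₗ[F] V) ((γ : V ≃ₗ[F] V) v) = v := by
    intro v
    show ((γ * γ : ↥(Isom Q)) : V ≃ₗ[F] V) v = v
    rw [hγ]; rfl
  have hc : IsCompl (lbal_om_eig (γ : V ≃ₗ[F] V) 1) (lbal_om_eig (γ : V ≃ₗ[F] V) (-1)) :=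
    lbal_om_eig_isCompl h2 _ hγ'
  have hperp : ∀ x ∈ lbal_om_eig (γ : V ≃ₗ[F] V) 1, ∀ y ∈ lbal_om_eig (γ : V ≃ₗ[F] V) (-1),
      QuadraticMap.polar Q x y = 0 := lbal_om_eig_perp Q h2 γ
  have hperp' : ∀ x ∈ lbal_om_eig (γ : V ≃ₗ[F] V) (-1), ∀ y ∈ lbal_om_eig (γ : V ≃ₗ[F] V) 1,
      QuadraticMap.polar Q x y = 0 := fun x hx y hy => by
    rw [QuadraticMap.polar_comm]; exact hperp y hy x hx
  have hpres : ∀ (ε : F) (b : ↥(Isom Q)), b * γ = γ * b →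
      ∀ x ∈ lbal_om_eig (γ : V ≃ₗ[F] V) ε, (b : V ≃ₗ[F] V) x ∈ lbal_om_eig (γ : V ≃ₗ[F] V) ε := by
    intro ε b hb x hx
    rw [lbal_om_mem_eig] at hx ⊢
    have h1 : (b : V ≃ₗ[F] V) ((γ : V ≃ₗ[F] V) x) = (γ : V ≃ₗ[F] V) ((b : V ≃ₗ[F] V) x) :=
      congrArg (fun k : ↥(Isom Q) => (k : V ≃ₗ[F] V) x) hb
    rw [← h1, hx, map_smul]
  rw [Subgroup.eq_bot_iff_forall]
  intro α hα
  obtain ⟨a, haγ, rfl⟩ := hMrep α hα
  obtain ⟨c₁, hc₁⟩ := lbal_om_z Q _ _ γ Θ M hc hperp 1 (-1) (fun x hx => hx) (fun y hy => hy)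
    hodd hQ (hpres 1) hd1 hker hMnorm hMord a haγ hα
  obtain ⟨c₂, hc₂⟩ := lbal_om_z Q _ _ γ Θ M hc.symm hperp' (-1) 1 (fun x hx => hx)
    (fun y hy => hy) hodd hQ (hpres (-1)) hd2 hker hMnorm hMord a haγ hα
  have hsq : ∀ (W W' : Submodule F V) (hcW : IsCompl W W')
      (_ : ∀ x ∈ W, ∀ y ∈ W', QuadraticMap.polar Q x y = 0), Odd (finrank F ↥W) → ∀ c : F,
      (∀ x ∈ W, (a : V ≃ₗ[F] V) x = c • x) → c * c = 1 := by
    intro W W' hcW hp hd c hcx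
    have hnd := lbal_om_pair_nondeg Q W W' hcW hp hQ
    obtain ⟨x, hx⟩ := lbal_om_exists_nonsing (Q.comp W.subtype) hnd hd.pos
    have h1 : Q ((a : V ≃ₗ[F] V) (x : V)) = Q (x : V) := a.2 _
    rw [hcx _ x.2, QuadraticMap.map_smul, smul_eq_mul] at h1
    have hx' : Q (x : V) ≠ 0 := hx
    exact mul_right_cancel₀ hx' (by rw [h1, one_mul])
  have h11 := hsq _ _ hc hperp hd1 c₁ hc₁
  have h22 := hsq _ _ hc.symm hperp' hd2 c₂ hc₂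
  have haa : a * a = 1 := by
    apply Subtype.ext
    apply LinearEquiv.ext
    intro v
    obtain ⟨⟨x, y⟩, rfl⟩ := (Submodule.prodEquivOfIsCompl _ _ hc).surjective v
    rw [Submodule.coe_prodEquivOfIsCompl']
    show (a : V ≃ₗ[F] V) ((a : V ≃ₗ[F] V) ((x : V) + (y : V))) = (x : V) + (y : V)
    rw [map_add, hc₁ _ x.2, hc₂ _ y.2, map_add, map_smul, map_smul, hc₁ _ x.2, hc₂ _ y.2,
      smul_smul, smul_smul, h11, h22, one_smul, one_smul]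
  obtain ⟨r, hr, hαr⟩ := hMord _ hα
  have hΘ2 : Θ a * Θ a = 1 := by rw [← map_mul, haa, map_one]
  rw [lbal_om_pow_odd_of_sq _ hΘ2 hr] at hαr
  exact hαr

end Cfsg.Agent.LBal
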