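import Mathlib
import Cfsg.Agent.LBal.OmH3InvD

/-!
# S2733 O3a, part E (helper9): the determinant of an involution

In characteristic different from two the determinant of a linear involution is `(-1) ^ d`, `d` the
dimension of the `(-1)`-eigenspace; consequently an involution of determinant `-1` of an
even-dimensional space has both eigenspaces of odd dimension.
-/

set_option autoImplicit false

namespace Cfsg.Agent.LBal

open Module

variable {F : Type*} [Field F] {V : Type*} [AddCommGroup V] [Module F V]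
  [FiniteDimensional F V]

theorem lbal_om_det_invol (h2 : (2 : F) ≠ 0) (γ : V ≃ₗ[F] V) (hγ : ∀ v, γ (γ v) = v) :
    LinearMap.det (γ : V →ₗ[F] V) = (-1) ^ finrank F ↥(lbal_om_eig γ (-1)) := by
  have hc := lbal_om_eig_isCompl h2 γ hγ
  have h1 : (γ : V →ₗ[F] V)
      = ((Submodule.prodEquivOfIsCompl _ _ hc : _ ≃ₗ[F] V) : _ →ₗ[F] V) ∘ₗ
        ((LinearMap.id : ↥(lbal_om_eig γ 1) →ₗ[F] ↥(lbal_om_eig γ 1)).prodMap
          ((-1 : F) • (LinearMap.id : ↥(lbal_om_eig γ (-1)) →ₗ[F] ↥(lbal_om_eig γ (-1))))) ∘ₗ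
        (((Submodule.prodEquivOfIsCompl _ _ hc).symm : V ≃ₗ[F] _) : V →ₗ[F] _) := by
    apply LinearMap.ext
    intro v
    obtain ⟨⟨x, y⟩, rfl⟩ := (Submodule.prodEquivOfIsCompl _ _ hc).surjective v
    have hsym : (Submodule.prodEquivOfIsCompl _ _ hc).symm
        ((Submodule.prodEquivOfIsCompl _ _ hc) (x, y)) = (x, y) :=
      LinearEquiv.symm_apply_apply _ _
    have hx : γ (x : V) = (1 : F) • (x : V) := x.2
    have hy : γ (y : V) = (-1 : F) • (y : V) := y.2
    rw [LinearMap.comp_apply, LinearMap.comp_apply, LinearEquiv.coe_coe, LinearEquiv.coe_coe,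
      LinearEquiv.coe_coe, hsym, LinearMap.prodMap_apply, Submodule.coe_prodEquivOfIsCompl',
      Submodule.coe_prodEquivOfIsCompl', map_add, hx, hy, one_smul]
    rfl
  rw [h1, LinearMap.det_conj, LinearMap.det_prodMap, LinearMap.det_id, one_mul,
    LinearMap.det_smul, LinearMap.det_id, mul_one]

theorem lbal_om_odd_of_det (h2 : (2 : F) ≠ 0) (γ : V ≃ₗ[F] V) (hγ : ∀ v, γ (γ v) = v)
    (hdet : LinearMap.det (γ : V →ₗ[F] V) = -1) (heven : Even (finrank F V)) :
    Odd (finrank F ↥(lbal_om_eig γ 1)) ∧ Odd (finrank F ↥(lbal_om_eig γ (-1))) := by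
  have hc := lbal_om_eig_isCompl h2 γ hγ
  have h1 := lbal_om_det_invol h2 γ hγ
  rw [hdet] at h1
  have hodd2 : Odd (finrank F ↥(lbal_om_eig γ (-1))) := by
    rw [← Nat.not_even_iff_odd]
    intro he
    rw [he.neg_one_pow] at h1
    apply h2
    have : (2 : F) = 1 - (-1) := by norm_num
    rw [this, h1, sub_self]
  refine ⟨?_, hodd2⟩
  have hsum := Submodule.finrank_add_eq_of_isCompl hc
  rw [← hsum] at heven
  rw [← Nat.not_even_iff_odd]
  intro he
  have := (Nat.even_add.mp heven).mp he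
  exact (Nat.not_even_iff_odd.mpr hodd2) this

end Cfsg.Agent.LBal
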