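import Mathlib
import Cfsg.Agent.LBal.NoCore
import Cfsg.Agent.Helper8.AutOzze
import Cfsg.Agent.Helper8.AutOzzi

set_option autoImplicit false
set_option linter.unusedSectionVars false

/-!
LBal (S2733), shared lemma for O3a/O4a: an automorphism in `pgoAut ⊓ C(Phi g)`, where
`g * g = c • 1`, is `Phi h` with `h g = ± g h`; if it has odd order, `h` can be chosen commuting
with `g` exactly.
-/

namespace Cfsg.Agent.LBal

open Module Matrix Cfsg Cfsg.Agent.Helper8.AutImageOrth Cfsg.Agent.Helper8.AutO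

variable {F : Type*} [Field F] [Fintype F]

/-- the matrix of an element of the similarity group -/
local notation "mat" x => ((x : GL _ F) : Matrix _ _ F)

/-- the common part: `α = Phi h′` with `h′ g = z • g h′`, `z * z = 1` -/
theorem lbal_om_lift_aux {ι : Type} [Fintype ι] [DecidableEq ι] (Q : QuadraticForm F (ι → F))
    [Nontrivial (ι → F)] (hQ : (QuadraticMap.polarBilin Q).Nondegenerate)
    (h5 : 5 ≤ Fintype.card ι) (g : ↥(Cfsg.Geo.quadSimilarityGroup (F := F) ⇑Q)) (c : F)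
    (hg2 : ((g : GL ι F) : Matrix ι ι F) * ((g : GL ι F) : Matrix ι ι F) =
      c • (1 : Matrix ι ι F))
    (α : MulAut (Cfsg.POmega F ⇑Q))
    (hα : α ∈ Cfsg.pgoAut F ⇑Q ⊓
      Subgroup.centralizer ({Phi ⇑Q g} : Set (MulAut (Cfsg.POmega F ⇑Q)))) :
    ∃ (h : ↥(Cfsg.Geo.quadSimilarityGroup (F := F) ⇑Q)) (z : F), Phi ⇑Q h = α ∧ z * z = 1 ∧
      ((h : GL ι F) : Matrix ι ι F) * ((g : GL ι F) : Matrix ι ι F) =
        z • (((g : GL ι F) : Matrix ι ι F) * ((h : GL ι F) : Matrix ι ι F)) := by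
  obtain ⟨p, hp⟩ := CharP.exists F
  have := hp
  have : Fact p.Prime := ⟨CharP.char_is_prime F p⟩
  have hne : Nonempty ι := Fintype.card_pos_iff.mp (by omega)
  obtain ⟨hα1, hα2⟩ := hα
  rw [pgoAut_eq] at hα1
  obtain ⟨h, rfl⟩ := hα1
  -- `Phi h` commutes with `Phi g`
  have hcomm : Phi ⇑Q g * Phi ⇑Q h = Phi ⇑Q h * Phi ⇑Q g := by
    have hα3 : Phi ⇑Q h ∈ Subgroup.centralizer
        ({Phi ⇑Q g} : Set (MulAut (Cfsg.POmega F ⇑Q))) := hα2
    rw [Subgroup.mem_centralizer_iff] at hα3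
    exact hα3 _ rfl
  have hk : Phi ⇑Q (h * g * h⁻¹ * g⁻¹) = 1 := by
    rw [map_mul, map_mul, map_mul, map_inv, map_inv, ← hcomm]
    group
  obtain ⟨z, hz⟩ := (Phi_eq_one_iff_scalar Q hQ h5 p _).mp hk
  -- `h g = z • g h`
  have h1 : (h * g * h⁻¹ * g⁻¹) * (g * h) = h * g := by group
  have h2 : ((h : GL ι F) : Matrix ι ι F) * ((g : GL ι F) : Matrix ι ι F) =
      (z : F) • (((g : GL ι F) : Matrix ι ι F) * ((h : GL ι F) : Matrix ι ι F)) := by
    have h3 := congrArg (fun x : ↥(Cfsg.Geo.quadSimilarityGroup (F := F) ⇑Q) =>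
      ((x : GL ι F) : Matrix ι ι F)) h1
    simp only [Subgroup.coe_mul, Units.val_mul] at h3
    have hz' : (((h * g * h⁻¹ * g⁻¹ : ↥(Cfsg.Geo.quadSimilarityGroup (F := F) ⇑Q)) : GL ι F) :
        Matrix ι ι F) = (z : F) • (1 : Matrix ι ι F) := hz
    simp only [Subgroup.coe_mul, Units.val_mul] at hz'
    rw [hz', Matrix.smul_mul, Matrix.one_mul] at h3
    exact h3.symm
  refine ⟨h, (z : F), rfl, ?_, h2⟩
  -- `z * z = 1` from `g * g = c • 1`
  set G' := ((g : GL ι F) : Matrix ι ι F) with hG'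
  set H' := ((h : GL ι F) : Matrix ι ι F) with hH'
  have hc : c ≠ 0 := by
    intro hc0
    rw [hc0, zero_smul] at hg2
    have h4 : ((((g : GL ι F)⁻¹ : GL ι F) : Matrix ι ι F) * G') = 1 := by
      rw [hG', ← Units.val_mul, inv_mul_cancel, Units.val_one]
    have h5' : (1 : Matrix ι ι F) = 0 := by
      calc (1 : Matrix ι ι F)
          = (((g : GL ι F)⁻¹ : GL ι F) : Matrix ι ι F) *
              ((((g : GL ι F)⁻¹ : GL ι F) : Matrix ι ι F) * G') * G' := by
            rw [h4, Matrix.mul_one, h4]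
        _ = (((g : GL ι F)⁻¹ : GL ι F) : Matrix ι ι F) *
              (((g : GL ι F)⁻¹ : GL ι F) : Matrix ι ι F) * (G' * G') := by
            simp only [Matrix.mul_assoc]
        _ = 0 := by rw [hg2, Matrix.mul_zero]
    exact one_ne_zero h5'
  have h6 : H' * (G' * G') = c • H' := by rw [hg2, Matrix.mul_smul, Matrix.mul_one]
  have h7 : H' * (G' * G') = ((z : F) * (z : F) * c) • H' := by
    calc H' * (G' * G') = (H' * G') * G' := by rw [Matrix.mul_assoc]
      _ = ((z : F) • (G' * H')) * G' := by rw [h2]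
      _ = (z : F) • (G' * (H' * G')) := by rw [Matrix.smul_mul, Matrix.mul_assoc]
      _ = (z : F) • (G' * ((z : F) • (G' * H'))) := by rw [h2]
      _ = ((z : F) * (z : F)) • ((G' * G') * H') := by
          rw [Matrix.mul_smul, smul_smul, Matrix.mul_assoc]
      _ = ((z : F) * (z : F) * c) • H' := by
          rw [hg2, Matrix.smul_mul, Matrix.one_mul, smul_smul]
  have h8 : c • H' = ((z : F) * (z : F) * c) • H' := by rw [← h6, h7]
  have h9 : H' * ((((h : GL ι F)⁻¹ : GL ι F)) : Matrix ι ι F) = 1 := by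
    rw [hH', ← Units.val_mul, mul_inv_cancel, Units.val_one]
  have h10 : c • (1 : Matrix ι ι F) = ((z : F) * (z : F) * c) • (1 : Matrix ι ι F) := by
    rw [← h9, ← Matrix.smul_mul, ← Matrix.smul_mul, h8]
  obtain ⟨i⟩ := hne
  have h11 := congrFun (congrFun h10 i) i
  simp only [Matrix.smul_apply, Matrix.one_apply_eq, smul_eq_mul, mul_one] at h11
  have h12 : ((z : F) * (z : F) - 1) * c = 0 := by rw [sub_mul, one_mul, ← h11, sub_self]
  rcases mul_eq_zero.mp h12 with h | h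
  · exact sub_eq_zero.mp h
  · exact absurd h hc

/-- **companion without parity**: `α = Phi h` with `h g = g h` or `h g = - (g h)` -/
theorem lbal_om_lift_pm {ι : Type} [Fintype ι] [DecidableEq ι] (Q : QuadraticForm F (ι → F))
    [Nontrivial (ι → F)] (hQ : (QuadraticMap.polarBilin Q).Nondegenerate)
    (h5 : 5 ≤ Fintype.card ι) (g : ↥(Cfsg.Geo.quadSimilarityGroup (F := F) ⇑Q)) (c : F)
    (hg2 : ((g : GL ι F) : Matrix ι ι F) * ((g : GL ι F) : Matrix ι ι F) =
      c • (1 : Matrix ι ι F))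
    (α : MulAut (Cfsg.POmega F ⇑Q))
    (hα : α ∈ Cfsg.pgoAut F ⇑Q ⊓
      Subgroup.centralizer ({Phi ⇑Q g} : Set (MulAut (Cfsg.POmega F ⇑Q)))) :
    ∃ h : ↥(Cfsg.Geo.quadSimilarityGroup (F := F) ⇑Q), Phi ⇑Q h = α ∧
      (((h : GL ι F) : Matrix ι ι F) * ((g : GL ι F) : Matrix ι ι F) =
          ((g : GL ι F) : Matrix ι ι F) * ((h : GL ι F) : Matrix ι ι F) ∨
        ((h : GL ι F) : Matrix ι ι F) * ((g : GL ι F) : Matrix ι ι F) =
          -(((g : GL ι F) : Matrix ι ι F) * ((h : GL ι F) : Matrix ι ι F))) := by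
  obtain ⟨h, z, hh, hz, hhg⟩ := lbal_om_lift_aux Q hQ h5 g c hg2 α hα
  refine ⟨h, hh, ?_⟩
  have hz' : (z - 1) * (z + 1) = 0 := by ring_nf; rw [← pow_two] at *; linear_combination hz
  rcases mul_eq_zero.mp hz' with h1 | h1
  · left
    rw [hhg, sub_eq_zero.mp h1, one_smul]
  · right
    rw [hhg, eq_neg_of_add_eq_zero_left h1, neg_smul, one_smul]

/-- **the odd-order case**: `α = Phi h` with `h` commuting with `g` -/
theorem lbal_om_lift_commute {ι : Type} [Fintype ι] [DecidableEq ι] (Q : QuadraticForm F (ι → F))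
    [Nontrivial (ι → F)] (hQ : (QuadraticMap.polarBilin Q).Nondegenerate)
    (h5 : 5 ≤ Fintype.card ι) (g : ↥(Cfsg.Geo.quadSimilarityGroup (F := F) ⇑Q)) (c : F)
    (hg2 : ((g : GL ι F) : Matrix ι ι F) * ((g : GL ι F) : Matrix ι ι F) =
      c • (1 : Matrix ι ι F))
    (α : MulAut (Cfsg.POmega F ⇑Q))
    (hα : α ∈ Cfsg.pgoAut F ⇑Q ⊓
      Subgroup.centralizer ({Phi ⇑Q g} : Set (MulAut (Cfsg.POmega F ⇑Q))))
    (hodd : Odd (orderOf α)) :
    ∃ h : ↥(Cfsg.Geo.quadSimilarityGroup (F := F) ⇑Q), Phi ⇑Q h = α ∧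
      ((h : GL ι F) : Matrix ι ι F) * ((g : GL ι F) : Matrix ι ι F) =
        ((g : GL ι F) : Matrix ι ι F) * ((h : GL ι F) : Matrix ι ι F) := by
  obtain ⟨h, z, hh, hz, hhg⟩ := lbal_om_lift_aux Q hQ h5 g c hg2 α hα
  obtain ⟨k, hk⟩ := hodd
  set G' := ((g : GL ι F) : Matrix ι ι F) with hG'
  set H' := ((h : GL ι F) : Matrix ι ι F) with hH'
  -- `h * h` commutes with `g`
  have h1 : (H' * H') * G' = G' * (H' * H') := by
    calc (H' * H') * G' = H' * (H' * G') := by rw [Matrix.mul_assoc]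
      _ = H' * (z • (G' * H')) := by rw [hhg]
      _ = z • ((H' * G') * H') := by rw [Matrix.mul_smul, Matrix.mul_assoc]
      _ = z • ((z • (G' * H')) * H') := by rw [hhg]
      _ = (z * z) • (G' * (H' * H')) := by rw [Matrix.smul_mul, smul_smul, Matrix.mul_assoc]
      _ = G' * (H' * H') := by rw [hz, one_smul]
  refine ⟨(h * h) ^ (k + 1), ?_, ?_⟩
  · rw [map_pow, map_mul, hh, ← pow_two, ← pow_mul]
    have : 2 * (k + 1) = orderOf α + 1 := by omega
    rw [this, pow_succ, pow_orderOf_eq_one, one_mul]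
  · have h2 : (((h * h) ^ (k + 1) : ↥(Cfsg.Geo.quadSimilarityGroup (F := F) ⇑Q)) : GL ι F) =
        ((h : GL ι F) * (h : GL ι F)) ^ (k + 1) := by
      rw [Subgroup.coe_pow, Subgroup.coe_mul]
    rw [h2, Units.val_pow_eq_pow_val, Units.val_mul]
    have h3 : Commute (H' * H') G' := h1
    exact (h3.pow_left (k + 1)).eq

end Cfsg.Agent.LBal
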