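import Mathlib
import Cfsg.Agent.LBal.NoCore
import Cfsg.Agent.LBal.Abs
import Cfsg.Agent.LBal.AbsB
import Cfsg.Agent.Helper8.AutOzzi
import Cfsg.Agent.Helper8.GrInvI
import Cfsg.Agent.LBal.OmLift
import Cfsg.Agent.LBal.OmH3InvE
import Cfsg.Agent.LBal.PGOCoreGen

/-!
# S2733 O3a (helper9): no core in the centraliser of an isometric involution of determinant `-1`

`pgoAut ⊓ C(Phi g)` has no nontrivial normal subgroup of odd order, for `g` an isometric
involution of determinant `-1` of a nondegenerate quadratic space of even dimension at least five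
over a finite field of odd order.
-/

set_option autoImplicit false
set_option linter.unusedSectionVars false

namespace Cfsg.Agent.LBal

open Module Matrix Cfsg Cfsg.Agent.Helper8.QuadForm Cfsg.Agent.Helper8.WittQuad
  Cfsg.Agent.Helper8.AutImagePsi Cfsg.Agent.Helper8.AutImageOrth Cfsg.Agent.Helper8.StdForms
  Cfsg.Agent.Helper8.AutImage Cfsg.Agent.Helper8.AutO Cfsg.Agent.Helper8.AutSp
  Cfsg.Agent.Helper8.OrthOrder Cfsg.Agent.Helper8.ReflMatrix

variable {F : Type*} [Field F] [Fintype F]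
variable {ι : Type} [Fintype ι] [DecidableEq ι] (Q : QuadraticForm F (ι → F))

/-- the similarity attached to an abstract isometry -/
noncomputable def lbal_om_sim : ↥(Isom Q) →* ↥(Geo.quadSimilarityGroup (F := F) ⇑Q) :=
  (lbal_pgo_incl Q).comp (isomEquiv Q).symm.toMonoidHom

/-- the action of the abstract isometry group on `PΩ(Q)` -/
noncomputable def lbal_om_Theta : ↥(Isom Q) →* MulAut (Cfsg.POmega F ⇑Q) :=
  (Phi ⇑Q).comp (lbal_om_sim Q)

theorem lbal_om_Theta_apply (k : ↥(Isom Q)) :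
    lbal_om_Theta Q k = Phi ⇑Q (lbal_om_sim Q k) := rfl

theorem lbal_om_sim_mulVec (k : ↥(Isom Q)) (v : ι → F) :
    (((lbal_om_sim Q k : ↥(Geo.quadSimilarityGroup (F := F) ⇑Q)) : GL ι F) : Matrix ι ι F) *ᵥ v
      = (k : (ι → F) ≃ₗ[F] (ι → F)) v := by
  have h1 : ((lbal_om_sim Q k : ↥(Geo.quadSimilarityGroup (F := F) ⇑Q)) : GL ι F)
      = glEquiv.symm k.1 := rfl
  rw [h1, ← glEquiv_apply, MulEquiv.apply_symm_apply]

/-- an isometric element of the similarity group as an abstract isometry -/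
noncomputable def lbal_om_ofSim (a : ↥(Geo.quadSimilarityGroup (F := F) ⇑Q))
    (ha : ∀ v, Q (((a : GL ι F) : Matrix ι ι F) *ᵥ v) = Q v) : ↥(Isom Q) :=
  ⟨glEquiv a.1, fun v => by rw [glEquiv_apply]; exact ha v⟩

theorem lbal_om_sim_ofSim (a : ↥(Geo.quadSimilarityGroup (F := F) ⇑Q))
    (ha : ∀ v, Q (((a : GL ι F) : Matrix ι ι F) *ᵥ v) = Q v) :
    lbal_om_sim Q (lbal_om_ofSim Q a ha) = a := by
  apply Subtype.ext
  show glEquiv.symm (glEquiv a.1) = a.1
  exact MulEquiv.symm_apply_apply _ _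

theorem lbal_om_ofSim_comm (a b : ↥(Geo.quadSimilarityGroup (F := F) ⇑Q))
    (ha : ∀ v, Q (((a : GL ι F) : Matrix ι ι F) *ᵥ v) = Q v)
    (hb : ∀ v, Q (((b : GL ι F) : Matrix ι ι F) *ᵥ v) = Q v) (hab : a * b = b * a) :
    lbal_om_ofSim Q a ha * lbal_om_ofSim Q b hb = lbal_om_ofSim Q b hb * lbal_om_ofSim Q a ha := by
  apply Subtype.ext
  show glEquiv a.1 * glEquiv b.1 = glEquiv b.1 * glEquiv a.1
  rw [← map_mul, ← map_mul]
  congr 1
  exact congrArg Subtype.val hab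

/-- **O3a.** -/
theorem lbal_om_h3_inv (hodd : Odd (Fintype.card F))
    (hQ : (QuadraticMap.polarBilin Q).Nondegenerate) (h5 : 5 ≤ Fintype.card ι)
    (heven : Even (Fintype.card ι)) (g : ↥(Cfsg.Geo.quadSimilarityGroup (F := F) ⇑Q))
    (hg2 : ((g : GL ι F) : Matrix ι ι F) * ((g : GL ι F) : Matrix ι ι F) = 1)
    (hiso : ∀ v, Q (((g : GL ι F) : Matrix ι ι F) *ᵥ v) = Q v)
    (hdet : ((g : GL ι F) : Matrix ι ι F).det = -1) :
    ¬ HasCore 2 (Cfsg.pgoAut F ⇑Q ⊓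
      Subgroup.centralizer ({Phi ⇑Q g} : Set (MulAut (Cfsg.POmega F ⇑Q)))) := by
  rintro ⟨N, hNle, hNnorm, hNcop, hNne⟩
  apply hNne
  have h2 : (2 : F) ≠ 0 := Cfsg.Agent.Helper8.OmegaStd.two_ne_zero_of_odd hodd
  have hne : Nonempty ι := Fintype.card_pos_iff.mp (by omega)
  have hnt : Nontrivial (ι → F) := Function.nontrivial
  have hnd : Nondeg Q := (nondeg_iff Q).mp hQ
  obtain ⟨p, hp⟩ := CharP.exists F
  have hpp : Fact p.Prime := ⟨CharP.char_is_prime F p⟩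
  -- the involution as an abstract isometry
  obtain ⟨γ, hγdef⟩ : ∃ γ : ↥(Isom Q), γ = lbal_om_ofSim Q g hiso := ⟨_, rfl⟩
  have hγg : lbal_om_sim Q γ = g := by rw [hγdef]; exact lbal_om_sim_ofSim Q g hiso
  have hΘγ : lbal_om_Theta Q γ = Phi ⇑Q g := by rw [lbal_om_Theta_apply, hγg]
  have hγv : ∀ v, (γ : (ι → F) ≃ₗ[F] (ι → F)) v = ((g : GL ι F) : Matrix ι ι F) *ᵥ v := by
    intro v
    rw [hγdef]
    rfl
  have hγ' : ∀ v, (γ : (ι → F) ≃ₗ[F] (ι → F)) ((γ : (ι → F) ≃ₗ[F] (ι → F)) v) = v := by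
    intro v
    rw [hγv, hγv, Matrix.mulVec_mulVec, hg2, Matrix.one_mulVec]
  have hγ2 : γ * γ = 1 := by
    apply Subtype.ext
    apply LinearEquiv.ext
    intro v
    exact hγ' v
  -- parities of the eigenspaces
  have hdetγ : LinearMap.det ((γ : (ι → F) ≃ₗ[F] (ι → F)) : (ι → F) →ₗ[F] (ι → F)) = -1 := by
    have h1 : ((γ : (ι → F) ≃ₗ[F] (ι → F)) : (ι → F) →ₗ[F] (ι → F))
        = Matrix.toLin' ((g : GL ι F) : Matrix ι ι F) := by
      apply LinearMap.ext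
      intro v
      rw [Matrix.toLin'_apply]
      exact hγv v
    rw [h1, LinearMap.det_toLin', hdet]
  obtain ⟨hd1, hd2⟩ := lbal_om_odd_of_det h2 (γ : (ι → F) ≃ₗ[F] (ι → F)) hγ' hdetγ
    (by rw [Module.finrank_fintype_fun_eq_card]; exact heven)
  have hNodd : Odd (Nat.card ↥N) := Nat.Coprime.odd_of_right hNcop
  have hNpow : ∀ α ∈ N, α ^ Nat.card ↥N = 1 := by
    intro α hα
    have h1 : (⟨α, hα⟩ : ↥N) ^ Nat.card ↥N = 1 := pow_card_eq_one'
    have h3 := congrArg Subtype.val h1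
    rw [Subgroup.coe_pow] at h3
    exact h3
  apply lbal_om_y Q hodd hnd γ hγ2 hd1 hd2 (lbal_om_Theta Q) ?_ N ?_ ?_ ?_
  · -- the kernel consists of scalars
    intro a ha
    rw [lbal_om_Theta_apply] at ha
    obtain ⟨c, hc⟩ := (Phi_eq_one_iff_scalar Q hQ h5 p _).mp ha
    refine ⟨(c : F), fun v => ?_⟩
    rw [← lbal_om_sim_mulVec, hc, Matrix.smul_mulVec, Matrix.one_mulVec]
  · -- representatives commuting with `γ`
    intro α hα
    obtain ⟨j, hj⟩ := hNodd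
    have hβmem : α ^ (j + 1) ∈ Cfsg.pgoAut F ⇑Q ⊓
        Subgroup.centralizer ({Phi ⇑Q g} : Set (MulAut (Cfsg.POmega F ⇑Q))) :=
      Subgroup.pow_mem _ (hNle hα) _
    have hβodd : Odd (orderOf (α ^ (j + 1))) := by
      have h1 : (α ^ (j + 1)) ^ Nat.card ↥N = 1 := by
        rw [← pow_mul, mul_comm, pow_mul, hNpow α hα, one_pow]
      have h3 := orderOf_dvd_of_pow_eq_one h1
      have hNodd' : Odd (Nat.card ↥N) := ⟨j, hj⟩
      exact Odd.of_dvd_nat hNodd' h3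
    obtain ⟨h, hh, hcomm⟩ := lbal_om_lift_commute Q hQ h5 g 1 (by rw [hg2, one_smul])
      (α ^ (j + 1)) hβmem hβodd
    obtain ⟨μ, hμ⟩ := h.2
    have hhg : h * g = g * h := by
      apply Subtype.ext
      apply Units.ext
      exact hcomm
    have hsg : scalarGO Q μ⁻¹ * g = g * scalarGO Q μ⁻¹ := by
      apply Subtype.ext
      apply Units.ext
      show ((scalarGO Q μ⁻¹ : GL ι F) : Matrix ι ι F) * ((g : GL ι F) : Matrix ι ι F)
        = ((g : GL ι F) : Matrix ι ι F) * ((scalarGO Q μ⁻¹ : GL ι F) : Matrix ι ι F)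
      rw [scalarGO_val, Matrix.smul_mul, Matrix.one_mul, Matrix.mul_smul, Matrix.mul_one]
    obtain ⟨a₀, ha₀⟩ : ∃ a₀ : ↥(Geo.quadSimilarityGroup (F := F) ⇑Q),
        a₀ = scalarGO Q μ⁻¹ * h * h := ⟨_, rfl⟩
    have ha₀g : a₀ * g = g * a₀ := by
      have c1 : Commute (scalarGO Q μ⁻¹) g := hsg
      have c2 : Commute h g := hhg
      rw [ha₀]
      exact ((c1.mul_left c2).mul_left c2).eq
    have ha₀iso : ∀ v, Q (((a₀ : GL ι F) : Matrix ι ι F) *ᵥ v) = Q v := by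
      intro v
      have h1 : ((a₀ : GL ι F) : Matrix ι ι F)
          = ((μ⁻¹ : Fˣ) : F) • (((h : GL ι F) : Matrix ι ι F) * ((h : GL ι F) : Matrix ι ι F)) := by
        rw [ha₀]
        show ((scalarGO Q μ⁻¹ : GL ι F) : Matrix ι ι F) * ((h : GL ι F) : Matrix ι ι F)
          * ((h : GL ι F) : Matrix ι ι F) = _
        rw [scalarGO_val, Matrix.smul_mul, Matrix.one_mul, Matrix.smul_mul]
      rw [h1, Matrix.smul_mulVec, QuadraticMap.map_smul, ← Matrix.mulVec_mulVec, hμ, hμ,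
        smul_eq_mul, Units.val_inv_eq_inv_val]
      have hμ0 : (μ : F) ≠ 0 := μ.ne_zero
      field_simp
    have hΦa₀ : Phi ⇑Q a₀ = α := by
      rw [ha₀, map_mul, map_mul, hh, Phi_scalarGO' Q hQ h5 p, one_mul, ← pow_add]
      have h1 : j + 1 + (j + 1) = Nat.card ↥N + 1 := by omega
      rw [h1, pow_succ, hNpow α hα, one_mul]
    refine ⟨lbal_om_ofSim Q a₀ ha₀iso, ?_, ?_⟩
    · rw [hγdef]
      exact lbal_om_ofSim_comm Q a₀ g ha₀iso hiso ha₀g
    · rw [lbal_om_Theta_apply, lbal_om_sim_ofSim, hΦa₀]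
  · -- normalisation
    intro b hb α hα
    apply hNnorm _ ?_ α hα
    refine ⟨?_, ?_⟩
    · rw [pgoAut_eq]
      exact ⟨_, rfl⟩
    · refine Subgroup.mem_centralizer_iff.mpr ?_
      intro x hx
      rw [Set.mem_singleton_iff] at hx
      rw [hx, ← hΘγ, ← map_mul, ← map_mul, hb]
  · -- odd orders
    intro α hα
    exact ⟨Nat.card ↥N, hNodd, hNpow α hα⟩

end Cfsg.Agent.LBal
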