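import Mathlib
import Cfsg.Agent.LBal.QuotCore
import Cfsg.Agent.LBal.PGOCoreAbs

set_option autoImplicit false

/-!
Piece O4a of the local balance swarm for `PΩ⁻` (S2733), part A: the abstract group theory.
A subgroup `X` of odd order normalised by `C`; a homomorphism `ψ : Γ → G` mapping a normal perfect
subgroup `S` with simple central quotient into `C`, and containing an involution not killed by `ψ`.
If `x ∈ X` acts on `ψ(S)` as conjugation by `k ∈ Γ`, then `k` centralises `S`.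
-/

namespace Cfsg.Agent.LBal

theorem lbal_om_q3_abs {G Γ : Type*} [Group G] [Group Γ] (X C : Subgroup G) [Finite ↥X]
    (hnorm : ∀ c ∈ C, ∀ n ∈ X, c * n * c⁻¹ ∈ X) (hodd : (Nat.card ↥X).Coprime 2)
    (S : Subgroup Γ) [hSn : S.Normal] (ψ : Γ →* G) (hψC : ∀ s ∈ S, ψ s ∈ C)
    (hperf : commutator ↥S = ⊤) (hsimple : IsSimpleGroup (↥S ⧸ Subgroup.center ↥S))
    (t : Γ) (htS : t ∈ S) (ht2 : t * t = 1) (ht1 : ψ t ≠ 1)
    (x : G) (hx : x ∈ X) (k : Γ) (hk : ∀ s ∈ S, x * ψ s * x⁻¹ = ψ (k * s * k⁻¹)) :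
    ∀ s ∈ S, k * s = s * k := by
  obtain ⟨M', hM'⟩ : ∃ M' : Subgroup ↥S, M' = (X.comap ψ).subgroupOf S := ⟨_, rfl⟩
  have hmem : ∀ a : ↥S, a ∈ M' ↔ ψ (a : Γ) ∈ X := by
    intro a
    rw [hM', Subgroup.mem_subgroupOf, Subgroup.mem_comap]
  have hM'n : M'.Normal := by
    refine ⟨fun m hm a => ?_⟩
    rw [hmem] at hm ⊢
    have h1 : ((a * m * a⁻¹ : ↥S) : Γ) = (a : Γ) * (m : Γ) * (a : Γ)⁻¹ := rfl
    rw [h1, map_mul, map_mul, map_inv]
    exact hnorm _ (hψC _ a.2) _ hm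
  rcases lbal_qs_normal hsimple hperf M' with h | h
  · exfalso
    have h1 : (⟨t, htS⟩ : ↥S) ∈ M' := by rw [h]; trivial
    rw [hmem] at h1
    have h2 : ψ t * ψ t = 1 := by rw [← map_mul, ht2, map_one]
    have h3 : orderOf (⟨ψ t, h1⟩ : ↥X) ∣ 2 := by
      apply orderOf_dvd_of_pow_eq_one
      apply Subtype.ext
      rw [pow_two]
      exact h2
    have h4 : orderOf (⟨ψ t, h1⟩ : ↥X) ∣ Nat.card ↥X := orderOf_dvd_natCard _
    have h5 : orderOf (⟨ψ t, h1⟩ : ↥X) = 1 :=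
      Nat.Coprime.eq_one_of_dvd (Nat.Coprime.coprime_dvd_left h4 hodd) h3
    rw [orderOf_eq_one_iff] at h5
    exact ht1 (congrArg Subtype.val h5)
  · obtain ⟨MΓ, hMΓ⟩ : ∃ MΓ : Subgroup Γ, MΓ = M'.map S.subtype := ⟨_, rfl⟩
    have hMS : MΓ ≤ S := by
      rw [hMΓ]
      rintro _ ⟨a, -, rfl⟩
      exact a.2
    have hMc : ∀ m ∈ MΓ, ∀ s ∈ S, m * s = s * m := by
      intro m hm s hs
      rw [hMΓ] at hm
      obtain ⟨a, ha, rfl⟩ := hm
      have h1 := (Subgroup.mem_center_iff.mp (h ha)) ⟨s, hs⟩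
      exact (congrArg Subtype.val h1).symm
    have hg : ∀ s ∈ S, k * s * k⁻¹ * s⁻¹ ∈ MΓ := by
      intro s hs
      have hS1 : k * s * k⁻¹ * s⁻¹ ∈ S := S.mul_mem (hSn.conj_mem s hs k) (S.inv_mem hs)
      rw [hMΓ]
      refine ⟨⟨_, hS1⟩, ?_, rfl⟩
      apply (hmem _).mpr
      show ψ (k * s * k⁻¹ * s⁻¹) ∈ X
      rw [map_mul, ← hk s hs, map_inv]
      have h1 : ψ s * x⁻¹ * (ψ s)⁻¹ ∈ X := hnorm _ (hψC s hs) _ (X.inv_mem hx)
      have h2 : x * ψ s * x⁻¹ * (ψ s)⁻¹ = x * (ψ s * x⁻¹ * (ψ s)⁻¹) := by group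
      rw [h2]
      exact X.mul_mem hx h1
    intro s hs
    exact lbal_centralizes_of_perfect S MΓ hMS hperf hMc k hg s hs

end Cfsg.Agent.LBal
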