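import Mathlib
import Cfsg.Agent.Helper8.AutOc
import Cfsg.Agent.Helper8.SiegelSimple
import Cfsg.Agent.Helper8.OmegaCenter

set_option autoImplicit false
set_option linter.unusedSectionVars false

/-!
LBal (S2733), sub-piece O4a-N2: two lemmas on the Siegel group of an abstract nondegenerate
quadratic space of dimension at least five over a finite field: an isometry centralising the
Siegel group is a scalar, and the Siegel group contains an involution `r_a r_b` (helper8).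
-/

namespace Cfsg.Agent.LBal

open Module Cfsg.Agent.Helper8.QuadForm Cfsg.Agent.Helper8.WittQuad Cfsg.Agent.Helper8.OrthOrder
  Cfsg.Agent.Helper8.Siegel Cfsg.Agent.Helper8.SiegelGroup Cfsg.Agent.Helper8.SiegelSimple
  Cfsg.Agent.Helper8.Reflections Cfsg.Agent.Helper8.AutO Cfsg.Agent.Helper8.OmegaCenter

variable {K : Type*} [Field K] [Finite K] {W : Type*} [AddCommGroup W] [Module K W]
  [FiniteDimensional K W] (Q : QuadraticForm K W)

/-- an isometry centralising the Siegel group fixes every singular point -/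
theorem lbal_om_q3b_fix (hQ : Nondeg Q) (h5 : 5 ≤ finrank K W) (k : ↥(Isom Q))
    (hk : ∀ s ∈ SG Q, k * s = s * k) {u : W} (hu0 : u ≠ 0) (hu : Q u = 0) :
    ∃ t : K, (k : W ≃ₗ[K] W) u = t • u := by
  obtain ⟨e, f, h1, h2, hef⟩ := exists_two_ts hQ h5 hu0 hu
  have hiso : ∀ x, Q ((k : W ≃ₗ[K] W) x) = Q x := k.2
  have hku0 : (k : W ≃ₗ[K] W) u ≠ 0 := fun h => hu0 ((k : W ≃ₗ[K] W).map_eq_zero_iff.mp h)
  have hkuQ : Q ((k : W ≃ₗ[K] W) u) = 0 := by rw [hiso, hu]
  have key : ∀ w, IsTS Q u w → (k : W ≃ₗ[K] W) u ∈ Submodule.span K {u, w} := by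
    intro w hw
    have h3 : k * siegG Q u w * k⁻¹ = siegG Q u w := by
      have h4 := hk (siegG Q u w) (sgT Q u w).2
      rw [h4, mul_inv_cancel_right]
    rw [siegG_conj] at h3
    have h5' : sgT Q u w = sgT Q ((k : W ≃ₗ[K] W) u) ((k : W ≃ₗ[K] W) w) :=
      Subtype.ext h3.symm
    refine mem_span_of_sgT_eq hQ hw hku0 hkuQ ?_ h5'
    rw [polar_isometry Q (k : W ≃ₗ[K] W) hiso, hw.ab]
  obtain ⟨t, ht⟩ := Submodule.mem_span_singleton.mp
    (mem_span_of_two hu0 h1.ab h2.ab h1.qb h2.qb hef (key e h1) (key f h2))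
  exact ⟨t, ht.symm⟩

/-- **an isometry centralising the Siegel group is a scalar** -/
theorem lbal_om_q3_scalar (hQ : Nondeg Q) (h5 : 5 ≤ finrank K W) (k : ↥(Isom Q))
    (hk : ∀ s ∈ SG Q, k * s = s * k) : ∃ l : K, ∀ x : W, (k : W ≃ₗ[K] W) x = l • x :=
  exists_scalar_of_fix Q hQ h5 (k : W ≃ₗ[K] W)
    (fun _ hu0 hu => lbal_om_q3b_fix Q hQ h5 k hk hu0 hu)

theorem lbal_om_q3b_refl_sq (a : W) : reflG Q a * reflG Q a = 1 := by
  have h := reflG_inv Q a
  nth_rewrite 1 [← h]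
  rw [inv_mul_cancel]

/-- **an involution `r_a r_b` in the Siegel group** -/
theorem lbal_om_q3_invol (hQ : Nondeg Q) (h5 : 5 ≤ finrank K W) (h2 : (2 : K) ≠ 0) :
    ∃ t : ↥(Isom Q), t ∈ SG Q ∧ t * t = 1 ∧ ∃ a d : W, a ≠ 0 ∧ d ≠ 0 ∧
      (t : W ≃ₗ[K] W) a = -a ∧ (t : W ≃ₗ[K] W) d = d := by
  obtain ⟨a, ha⟩ := exists_repr Q hQ (by omega) 1
  have ha0 : Q a ≠ 0 := by rw [ha]; exact one_ne_zero
  obtain ⟨b, hab, hb⟩ := exists_perp_repr Q hQ h2 ha0 (by omega) 1
  have hb0 : Q b ≠ 0 := by rw [hb]; exact one_ne_zero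
  obtain ⟨d, had, hbd, hd⟩ := exists_perp_perp_repr Q hQ h2 (by omega) ha0 hb0 hab 1
  have hba : QuadraticMap.polar Q b a = 0 := by rw [QuadraticMap.polar_comm]; exact hab
  -- `r_{a+b}` maps `a` to `-b`
  have hQab : Q (a + b) = 2 := by
    rw [QuadraticMap.map_add Q, ha, hb, hab]
    norm_num
  have h1 : refl Q (a + b) a = -b := by
    rw [refl_apply, QuadraticMap.polar_add_left, polar_self', ha, hba, hQab, add_zero, mul_one,
      div_self h2, one_smul]
    abel
  have h3 : reflG Q (a + b) * reflG Q a * (reflG Q (a + b))⁻¹ = reflG Q b := by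
    rw [reflG_conj]
    apply Subtype.ext
    show refl Q (refl Q (a + b) a) = refl Q b
    rw [h1, ← Cfsg.Agent.Helper8.OmegaOdd.refl_smul Q (neg_ne_zero.mpr one_ne_zero) b, neg_smul,
      one_smul]
  have hmem := refl_comm_mem_SG Q hQ h5 (a := a) (b := a + b) ha0
  have h4 : reflG Q a * reflG Q (a + b) * (reflG Q a)⁻¹ * (reflG Q (a + b))⁻¹ =
      reflG Q a * reflG Q b := by
    rw [← h3, reflG_inv Q a, reflG_inv Q (a + b)]
    have e1 := lbal_om_q3b_refl_sq Q a
    have e2 := lbal_om_q3b_refl_sq Q (a + b)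
    rw [mul_assoc (reflG Q a), mul_assoc (reflG Q a)]
  rw [h4] at hmem
  have hcomm : reflG Q b * reflG Q a = reflG Q a * reflG Q b := by
    have h6 : reflG Q b * reflG Q a * (reflG Q b)⁻¹ = reflG Q a := by
      rw [reflG_conj]
      apply Subtype.ext
      show refl Q (refl Q b a) = refl Q a
      rw [refl_of_perp Q hba]
    calc reflG Q b * reflG Q a = (reflG Q b * reflG Q a * (reflG Q b)⁻¹) * reflG Q b := by group
      _ = reflG Q a * reflG Q b := by rw [h6]
  refine ⟨reflG Q a * reflG Q b, hmem, ?_, a, d, ?_, ?_, ?_, ?_⟩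
  · rw [mul_assoc, ← mul_assoc (reflG Q b), hcomm, mul_assoc, lbal_om_q3b_refl_sq, mul_one,
      lbal_om_q3b_refl_sq]
  · intro h0
    rw [h0, map_zero] at ha
    exact zero_ne_one ha
  · intro h0
    rw [h0, map_zero] at hd
    exact zero_ne_one hd
  · show refl Q a (refl Q b a) = -a
    rw [refl_of_perp Q hba, refl_self Q ha0]
  · show refl Q a (refl Q b d) = d
    rw [refl_of_perp Q hbd, refl_of_perp Q had]

end Cfsg.Agent.LBal
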