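import Mathlib
import Cfsg.Agent.LBal.MQuadExt

set_option autoImplicit false

/-!
LBal (S2733), piece O4a-N3b (for helper1's `OmH3Nsq`): over `K' = F(√lam)` every element of `F` is
a square, and a similarity of `Q` commuting with `g` is a `K'`-scalar times a `K'`-isometry of `Q'`.
-/

namespace Cfsg.Agent.LBal

open Module Cfsg.Agent.Helper8.QuadForm Cfsg.Agent.Helper8.OrthOrder

variable {F : Type*} [Field F] [Finite F] {V : Type*} [AddCommGroup V] [Module F V]
  (lam : F) [hF : Fact (∀ r : F, r ^ 2 ≠ lam + 0 * r)] (g : V →ₗ[F] V)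
  (hsq : ∀ v, g (g v) = lam • v)
  (Q : QuadraticForm F V)
  (hadj : ∀ x y, QuadraticMap.polar Q (g x) y = QuadraticMap.polar Q x (g y))
  (hlam : lam ≠ 0) (h2 : (2 : F) ≠ 0)

omit [Finite F] in
/-- `lam` is not a square -/
theorem lbal_om_q3c_not_isSquare : ¬ IsSquare lam := by
  rintro ⟨r, hr⟩
  apply hF.out r
  rw [zero_mul, add_zero, hr, pow_two]

/-- the product of two non-squares of a finite field is a square -/
theorem lbal_om_q3c_mul_isSquare {a b : F} (ha : ¬ IsSquare a) (hb : ¬ IsSquare b) :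
    IsSquare (a * b) := by
  classical
  have : Fintype F := Fintype.ofFinite F
  by_cases hchar : ringChar F = 2
  · exact FiniteField.isSquare_of_char_two hchar _
  · have ha0 : a ≠ 0 := by
      rintro rfl
      exact ha ⟨0, by rw [mul_zero]⟩
    have hb0 : b ≠ 0 := by
      rintro rfl
      exact hb ⟨0, by rw [mul_zero]⟩
    rw [← quadraticChar_one_iff_isSquare (mul_ne_zero ha0 hb0), map_mul,
      (quadraticChar_neg_one_iff_not_isSquare (F := F)).mpr ha,
      (quadraticChar_neg_one_iff_not_isSquare (F := F)).mpr hb]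
    norm_num

/-- every element of `F` is a square in `F(√lam)` (`F` finite, `lam` a non-square) -/
theorem lbal_om_q3_exists_sqrt (μ : F) :
    ∃ e : lbal_mq_K lam, e * e = algebraMap F (lbal_mq_K lam) μ := by
  have hlam := lbal_om_q3c_not_isSquare lam
  by_cases hμ : IsSquare μ
  · obtain ⟨a, rfl⟩ := hμ
    exact ⟨algebraMap F (lbal_mq_K lam) a, by rw [map_mul]⟩
  · obtain ⟨b, hb⟩ := lbal_om_q3c_mul_isSquare hμ hlam
    have hl0 : lam ≠ 0 := by
      rintro rfl
      exact hlam ⟨0, by rw [mul_zero]⟩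
    refine ⟨⟨0, b / lam⟩, ?_⟩
    ext
    · rw [QuadraticAlgebra.re_mul, QuadraticAlgebra.algebraMap_re]
      simp only [mul_zero, zero_add]
      field_simp
      rw [pow_two, ← hb]
      ring
    · rw [QuadraticAlgebra.im_mul, QuadraticAlgebra.algebraMap_im]
      simp only [mul_zero, zero_mul, add_zero]

omit [Finite F] in
include hsq in
/-- an `F`-linear automorphism commuting with `g`, as an `F(√lam)`-linear automorphism -/
theorem lbal_om_q3c_exists_lin (h : V ≃ₗ[F] V) (hg : ∀ v, h (g v) = g (h v)) :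
    ∃ s : lbal_mq_V lam g hsq ≃ₗ[lbal_mq_K lam] lbal_mq_V lam g hsq,
      ∀ v : V, s (lbal_mq_of lam g hsq v) = lbal_mq_of lam g hsq (h v) := by
  let s₀ : lbal_mq_V lam g hsq ≃ₗ[lbal_mq_K lam] lbal_mq_V lam g hsq :=
    { toFun := fun v => lbal_mq_of lam g hsq (h ((lbal_mq_of lam g hsq).symm v))
      invFun := fun v => lbal_mq_of lam g hsq (h.symm ((lbal_mq_of lam g hsq).symm v))
      map_add' := by
        intro v w
        rw [lbal_mq_symm_add, map_add, map_add]
      map_smul' := by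
        intro z v
        rw [lbal_mq_symm_smul, map_add, map_smul, map_smul, hg, RingHom.id_apply]
        obtain ⟨v, rfl⟩ := (lbal_mq_of lam g hsq).surjective v
        rw [LinearEquiv.symm_apply_apply, lbal_mq_smul_def]
      left_inv := by
        intro v
        show lbal_mq_of lam g hsq (h.symm ((lbal_mq_of lam g hsq).symm
          (lbal_mq_of lam g hsq (h ((lbal_mq_of lam g hsq).symm v))))) = v
        rw [LinearEquiv.symm_apply_apply, LinearEquiv.symm_apply_apply,
          LinearEquiv.apply_symm_apply]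
      right_inv := by
        intro v
        show lbal_mq_of lam g hsq (h ((lbal_mq_of lam g hsq).symm
          (lbal_mq_of lam g hsq (h.symm ((lbal_mq_of lam g hsq).symm v))))) = v
        rw [LinearEquiv.symm_apply_apply, LinearEquiv.apply_symm_apply,
          LinearEquiv.apply_symm_apply] }
  refine ⟨s₀, ?_⟩
  intro v
  show lbal_mq_of lam g hsq (h ((lbal_mq_of lam g hsq).symm (lbal_mq_of lam g hsq v))) = _
  rw [LinearEquiv.symm_apply_apply]

include hsq in
/-- a similarity of `Q` commuting with `g` is (a scalar of `F(√lam)`) • (an isometry of `Q'`) -/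
theorem lbal_om_q3_normalize (h : V ≃ₗ[F] V) (hg : ∀ v, h (g v) = g (h v)) (μ : F) (hμ0 : μ ≠ 0)
    (hμ : ∀ v, Q (h v) = μ * Q v) :
    ∃ (e : lbal_mq_K lam) (k : ↥(Isom (lbal_mq_Q' lam g hsq Q hadj hlam h2))), e ≠ 0 ∧
      ∀ v : V, lbal_mq_of lam g hsq (h v) =
        e • (k : lbal_mq_V lam g hsq ≃ₗ[lbal_mq_K lam] lbal_mq_V lam g hsq)
          (lbal_mq_of lam g hsq v) := by
  obtain ⟨s, hs⟩ := lbal_om_q3c_exists_lin lam g hsq h hg
  obtain ⟨e, he⟩ := lbal_om_q3_exists_sqrt lam μ
  have he0 : e ≠ 0 := by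
    rintro rfl
    rw [mul_zero] at he
    have := congrArg QuadraticAlgebra.re he
    rw [QuadraticAlgebra.algebraMap_re] at this
    exact hμ0 this.symm
  -- the polar form of a similarity
  have hpol : ∀ x y, QuadraticMap.polar Q (h x) (h y) = μ * QuadraticMap.polar Q x y := by
    intro x y
    unfold QuadraticMap.polar
    rw [← map_add, hμ, hμ, hμ]
    ring
  -- `Q' (s v) = μ * Q' v`
  have hQs : ∀ v : lbal_mq_V lam g hsq, lbal_mq_Q' lam g hsq Q hadj hlam h2 (s v) =
      algebraMap F (lbal_mq_K lam) μ * lbal_mq_Q' lam g hsq Q hadj hlam h2 v := by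
    intro v
    obtain ⟨v, rfl⟩ := (lbal_mq_of lam g hsq).surjective v
    rw [hs]
    ext
    · rw [lbal_mq_Q'_re, QuadraticAlgebra.re_mul, QuadraticAlgebra.algebraMap_re,
        QuadraticAlgebra.algebraMap_im, lbal_mq_Q'_re, hμ]
      ring
    · rw [lbal_mq_Q'_im, QuadraticAlgebra.im_mul, QuadraticAlgebra.algebraMap_re,
        QuadraticAlgebra.algebraMap_im, lbal_mq_Q'_im, ← hg, hpol]
      ring
  -- `k = e⁻¹ • s`
  let k₀ : lbal_mq_V lam g hsq ≃ₗ[lbal_mq_K lam] lbal_mq_V lam g hsq :=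
    s.trans (LinearEquiv.smulOfNeZero (lbal_mq_K lam) (lbal_mq_V lam g hsq) e⁻¹
      (inv_ne_zero he0))
  have hk₀ : ∀ v, k₀ v = e⁻¹ • s v := fun v => rfl
  have hk₀Q : k₀ ∈ Isom (lbal_mq_Q' lam g hsq Q hadj hlam h2) := by
    intro v
    rw [hk₀, QuadraticMap.map_smul, hQs, smul_eq_mul, ← mul_assoc, ← he]
    have : e⁻¹ * e⁻¹ * (e * e) = 1 := by
      field_simp
    rw [this, one_mul]
  refine ⟨e, ⟨k₀, hk₀Q⟩, he0, ?_⟩
  intro v
  show _ = e • k₀ (lbal_mq_of lam g hsq v)
  rw [hk₀, smul_smul, mul_inv_cancel₀ he0, one_smul, hs]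

end Cfsg.Agent.LBal
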