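import Mathlib
import Cfsg.Agent.LBal.NoCore
import Cfsg.Agent.LBal.Abs
import Cfsg.Agent.LBal.AbsB
import Cfsg.Agent.Helper8.AutOzzi
import Cfsg.Agent.Helper8.GrInvI
import Cfsg.Agent.LBal.MQuadExt

set_option autoImplicit false
set_option linter.unusedSectionVars false

/-!
Piece O4a of the local balance swarm for `PΩ⁻` (S2733), part D: the bridge between the abstract
quadratic extension `LBal/MQuadExt.lean` and the matrix similarity group:
`ψ₀ : Isom Q' →* quadSimilarityGroup Q`, whose image commutes with `g`.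
-/

namespace Cfsg.Agent.LBal

open Module Matrix Cfsg Cfsg.Agent.Helper8.QuadForm Cfsg.Agent.Helper8.WittQuad
  Cfsg.Agent.Helper8.AutImagePsi Cfsg.Agent.Helper8.AutImageOrth Cfsg.Agent.Helper8.StdForms
  Cfsg.Agent.Helper8.AutImage Cfsg.Agent.Helper8.AutO Cfsg.Agent.Helper8.AutSp
  Cfsg.Agent.Helper8.OrthOrder Cfsg.Agent.Helper8.ReflMatrix

variable {F : Type*} [Field F] {ι : Type} [Fintype ι] [DecidableEq ι]
  (Q : QuadraticForm F (ι → F))

section Mat

variable (G : Matrix ι ι F) (c : F)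

theorem lbal_om_q3d_hsq (hg2 : G * G = c • (1 : Matrix ι ι F)) (v : ι → F) :
    Matrix.mulVecLin G (Matrix.mulVecLin G v) = c • v := by
  rw [Matrix.mulVecLin_apply, Matrix.mulVecLin_apply, Matrix.mulVec_mulVec, hg2,
    Matrix.smul_mulVec, Matrix.one_mulVec]

theorem lbal_om_q3d_polar (hmult : ∀ v, Q (G *ᵥ v) = c * Q v) (x y : ι → F) :
    QuadraticMap.polar Q (G *ᵥ x) (G *ᵥ y) = c * QuadraticMap.polar Q x y := by
  unfold QuadraticMap.polar
  rw [← Matrix.mulVec_add, hmult, hmult, hmult]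
  ring

theorem lbal_om_q3d_hadj (hg2 : G * G = c • (1 : Matrix ι ι F))
    (hmult : ∀ v, Q (G *ᵥ v) = c * Q v) (hc0 : c ≠ 0) (x y : ι → F) :
    QuadraticMap.polar Q (Matrix.mulVecLin G x) y =
      QuadraticMap.polar Q x (Matrix.mulVecLin G y) := by
  rw [Matrix.mulVecLin_apply, Matrix.mulVecLin_apply]
  have h1 := lbal_om_q3d_polar Q G c hmult x (G *ᵥ y)
  rw [Matrix.mulVec_mulVec, hg2, Matrix.smul_mulVec, Matrix.one_mulVec,
    QuadraticMap.polar_smul_right, smul_eq_mul] at h1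
  exact mul_left_cancel₀ hc0 h1

end Mat

section Psi

variable (lam : F) [hF : Fact (∀ r : F, r ^ 2 ≠ lam + 0 * r)]
  (g : (ι → F) →ₗ[F] (ι → F)) (hsq : ∀ v, g (g v) = lam • v)
  (hadj : ∀ x y, QuadraticMap.polar Q (g x) y = QuadraticMap.polar Q x (g y))
  (hlam : lam ≠ 0) (h2 : (2 : F) ≠ 0)

/-- restriction of scalars followed by the passage to matrices. -/
noncomputable def lbal_om_q3d_psi :
    ↥(Isom (lbal_mq_Q' lam g hsq Q hadj hlam h2)) →*
      ↥(Cfsg.Geo.quadSimilarityGroup (F := F) ⇑Q) :=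
  (Subgroup.inclusion (isometry_le_similarity ⇑Q)).comp
    ((isomEquiv Q).symm.toMonoidHom.comp (lbal_mq_res lam g hsq Q hadj hlam h2))

theorem lbal_om_q3d_psi_mulVec (s : ↥(Isom (lbal_mq_Q' lam g hsq Q hadj hlam h2)))
    (v : ι → F) :
    ((lbal_om_q3d_psi Q lam g hsq hadj hlam h2 s : GL ι F) : Matrix ι ι F) *ᵥ v =
      (lbal_mq_of lam g hsq).symm
        ((s : lbal_mq_V lam g hsq ≃ₗ[lbal_mq_K lam] _) (lbal_mq_of lam g hsq v)) := by
  rw [← lbal_mq_res_apply]
  have h := isomEquiv_apply Q ((isomEquiv Q).symm (lbal_mq_res lam g hsq Q hadj hlam h2 s)) v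
  rw [MulEquiv.apply_symm_apply] at h
  rw [h]
  rfl

end Psi

end Cfsg.Agent.LBal
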