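import Mathlib
import Cfsg.Agent.LBal.NoCore
import Cfsg.Agent.LBal.Abs
import Cfsg.Agent.LBal.AbsB
import Cfsg.Agent.Helper8.AutOzzi
import Cfsg.Agent.Helper8.GrInvI
import Cfsg.Agent.LBal.MQuadExt
import Cfsg.Agent.LBal.OmLift
import Cfsg.Agent.LBal.OmH3NsqA
import Cfsg.Agent.LBal.OmH3NsqB
import Cfsg.Agent.LBal.OmH3NsqC
import Cfsg.Agent.LBal.OmH3NsqD

set_option autoImplicit false
set_option linter.unusedSectionVars false

/-!
Piece O4a of the local balance swarm for `PΩ⁻` (S2733): class (h3), `g * g = c • 1` with `c` a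
non-square: `C(Phi g)` inside `pgoAut` has no core.
-/

namespace Cfsg.Agent.LBal

open Module Matrix Cfsg Cfsg.Agent.Helper8.QuadForm Cfsg.Agent.Helper8.WittQuad
  Cfsg.Agent.Helper8.AutImagePsi Cfsg.Agent.Helper8.AutImageOrth Cfsg.Agent.Helper8.StdForms
  Cfsg.Agent.Helper8.AutImage Cfsg.Agent.Helper8.AutO Cfsg.Agent.Helper8.AutSp
  Cfsg.Agent.Helper8.OrthOrder Cfsg.Agent.Helper8.ReflMatrix Cfsg.Agent.Helper8.SiegelGroup
  Cfsg.Agent.Helper8.SiegelSimple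

variable {F : Type*} [Field F] [Fintype F] {ι : Type} [Fintype ι] [DecidableEq ι]
  (Q : QuadraticForm F (ι → F))

section Psi

variable (lam : F) [hF : Fact (∀ r : F, r ^ 2 ≠ lam + 0 * r)]
  (G : Matrix ι ι F) (hsq : ∀ v, Matrix.mulVecLin G (Matrix.mulVecLin G v) = lam • v)
  (hadj : ∀ x y, QuadraticMap.polar Q (Matrix.mulVecLin G x) y =
    QuadraticMap.polar Q x (Matrix.mulVecLin G y))
  (hlam : lam ≠ 0) (h2 : (2 : F) ≠ 0)

/-- the image of `ψ₀` commutes with `G`. -/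
theorem lbal_om_q3_psi_comm
    (s : ↥(Isom (lbal_mq_Q' lam (Matrix.mulVecLin G) hsq Q hadj hlam h2))) :
    ((lbal_om_q3d_psi Q lam (Matrix.mulVecLin G) hsq hadj hlam h2 s : GL ι F) : Matrix ι ι F) * G =
      G * ((lbal_om_q3d_psi Q lam (Matrix.mulVecLin G) hsq hadj hlam h2 s : GL ι F) :
        Matrix ι ι F) := by
  apply matrix_ext
  intro v
  rw [← Matrix.mulVec_mulVec, ← Matrix.mulVec_mulVec, lbal_om_q3d_psi_mulVec,
    lbal_om_q3d_psi_mulVec, ← lbal_mq_res_apply, ← lbal_mq_res_apply, ← Matrix.mulVecLin_apply,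
    ← Matrix.mulVecLin_apply, lbal_mq_res_g]

/-- `ψ₀ s` commutes with `g` in the similarity group. -/
theorem lbal_om_q3_psi_comm_grp (g : ↥(Cfsg.Geo.quadSimilarityGroup (F := F) ⇑Q))
    (hG : ((g : GL ι F) : Matrix ι ι F) = G)
    (s : ↥(Isom (lbal_mq_Q' lam (Matrix.mulVecLin G) hsq Q hadj hlam h2))) :
    lbal_om_q3d_psi Q lam (Matrix.mulVecLin G) hsq hadj hlam h2 s * g =
      g * lbal_om_q3d_psi Q lam (Matrix.mulVecLin G) hsq hadj hlam h2 s := by
  apply Subtype.ext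
  apply Units.ext
  rw [Subgroup.coe_mul, Subgroup.coe_mul, Units.val_mul, Units.val_mul, hG]
  exact lbal_om_q3_psi_comm Q lam G hsq hadj hlam h2 s

/-- `Phi (ψ₀ s)` lies in `pgoAut ⊓ C(Phi g)`. -/
theorem lbal_om_q3_psi_mem (g : ↥(Cfsg.Geo.quadSimilarityGroup (F := F) ⇑Q))
    (hG : ((g : GL ι F) : Matrix ι ι F) = G)
    (s : ↥(Isom (lbal_mq_Q' lam (Matrix.mulVecLin G) hsq Q hadj hlam h2))) :
    Phi ⇑Q (lbal_om_q3d_psi Q lam (Matrix.mulVecLin G) hsq hadj hlam h2 s) ∈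
      Cfsg.pgoAut F ⇑Q ⊓
        Subgroup.centralizer ({Phi ⇑Q g} : Set (MulAut (Cfsg.POmega F ⇑Q))) := by
  rw [Subgroup.mem_inf]
  refine ⟨?_, ?_⟩
  · rw [pgoAut_eq]
    exact ⟨_, rfl⟩
  · rw [Subgroup.mem_centralizer_iff]
    intro y hy
    rw [Set.mem_singleton_iff] at hy
    rw [hy, ← map_mul, ← map_mul, lbal_om_q3_psi_comm_grp Q lam G hsq hadj hlam h2 g hG s]

/-- an involution with a `(-1)`- and a `1`-eigenvector is not killed by `Phi ∘ ψ₀`. -/
theorem lbal_om_q3_psi_ne_one [Nontrivial (ι → F)]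
    (hQ : (QuadraticMap.polarBilin Q).Nondegenerate) (h5 : 5 ≤ Fintype.card ι)
    (t : ↥(Isom (lbal_mq_Q' lam (Matrix.mulVecLin G) hsq Q hadj hlam h2)))
    (a d : lbal_mq_V lam (Matrix.mulVecLin G) hsq) (ha : a ≠ 0) (hd : d ≠ 0)
    (hta : (t : lbal_mq_V lam (Matrix.mulVecLin G) hsq ≃ₗ[lbal_mq_K lam] _) a = -a)
    (htd : (t : lbal_mq_V lam (Matrix.mulVecLin G) hsq ≃ₗ[lbal_mq_K lam] _) d = d) :
    Phi ⇑Q (lbal_om_q3d_psi Q lam (Matrix.mulVecLin G) hsq hadj hlam h2 t) ≠ 1 := by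
  intro h1
  obtain ⟨p, hp⟩ := CharP.exists F
  have := hp
  have : Fact p.Prime := ⟨CharP.char_is_prime F p⟩
  obtain ⟨z, hz⟩ := (Phi_eq_one_iff_scalar Q hQ h5 p _).mp h1
  have key : ∀ w : lbal_mq_V lam (Matrix.mulVecLin G) hsq,
      (t : lbal_mq_V lam (Matrix.mulVecLin G) hsq ≃ₗ[lbal_mq_K lam] _) w = (z : F) • w := by
    intro w
    have h3 := lbal_om_q3d_psi_mulVec Q lam (Matrix.mulVecLin G) hsq hadj hlam h2 t
      ((lbal_mq_of lam (Matrix.mulVecLin G) hsq).symm w)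
    rw [hz, Matrix.smul_mulVec, Matrix.one_mulVec, LinearEquiv.apply_symm_apply] at h3
    have h4 := congrArg (lbal_mq_of lam (Matrix.mulVecLin G) hsq) h3
    rw [LinearEquiv.apply_symm_apply, map_smul, LinearEquiv.apply_symm_apply] at h4
    exact h4.symm
  have h6 : ((z : F) + 1) • a = 0 := by
    rw [add_smul, one_smul, ← key a, hta, neg_add_cancel]
  have h7 : ((z : F) - 1) • d = 0 := by
    rw [sub_smul, one_smul, ← key d, htd, sub_self]
  have h8 : (z : F) + 1 = 0 := by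
    rcases smul_eq_zero.mp h6 with h | h
    · exact h
    · exact absurd h ha
  have h9 : (z : F) - 1 = 0 := by
    rcases smul_eq_zero.mp h7 with h | h
    · exact h
    · exact absurd h hd
  apply h2
  linear_combination h8 - h9

/-- conjugation by a similarity `h = e • k` acts on the image of `ψ₀` as conjugation by `k`. -/
theorem lbal_om_q3_conj (h : ↥(Cfsg.Geo.quadSimilarityGroup (F := F) ⇑Q)) (e : lbal_mq_K lam)
    (k : ↥(Isom (lbal_mq_Q' lam (Matrix.mulVecLin G) hsq Q hadj hlam h2)))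
    (hek : ∀ v : ι → F, lbal_mq_of lam (Matrix.mulVecLin G) hsq
        (((h : GL ι F) : Matrix ι ι F) *ᵥ v) =
      e • (k : lbal_mq_V lam (Matrix.mulVecLin G) hsq ≃ₗ[lbal_mq_K lam] _)
        (lbal_mq_of lam (Matrix.mulVecLin G) hsq v))
    (s : ↥(Isom (lbal_mq_Q' lam (Matrix.mulVecLin G) hsq Q hadj hlam h2))) :
    h * lbal_om_q3d_psi Q lam (Matrix.mulVecLin G) hsq hadj hlam h2 s * h⁻¹ =
      lbal_om_q3d_psi Q lam (Matrix.mulVecLin G) hsq hadj hlam h2 (k * s * k⁻¹) := by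
  obtain ⟨u, hu⟩ : ∃ u, u = k * s * k⁻¹ := ⟨_, rfl⟩
  have huk : u * k = k * s := by rw [hu]; group
  rw [← hu, mul_inv_eq_iff_eq_mul]
  apply Subtype.ext
  apply Units.ext
  rw [Subgroup.coe_mul, Subgroup.coe_mul, Units.val_mul, Units.val_mul]
  apply matrix_ext
  intro v
  apply (lbal_mq_of lam (Matrix.mulVecLin G) hsq).injective
  rw [← Matrix.mulVec_mulVec, ← Matrix.mulVec_mulVec, hek, lbal_om_q3d_psi_mulVec,
    lbal_om_q3d_psi_mulVec, LinearEquiv.apply_symm_apply, LinearEquiv.apply_symm_apply, hek,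
    map_smul]
  congr 1
  have h3 := congrArg (fun x : ↥(Isom (lbal_mq_Q' lam (Matrix.mulVecLin G) hsq Q hadj hlam h2)) =>
    (x : lbal_mq_V lam (Matrix.mulVecLin G) hsq ≃ₗ[lbal_mq_K lam]
      lbal_mq_V lam (Matrix.mulVecLin G) hsq)
      (lbal_mq_of lam (Matrix.mulVecLin G) hsq v)) huk
  exact h3.symm

include hadj hlam h2 in
/-- endgame: a similarity which is a scalar of `F(√lam)` induces `1` or `Phi g`; if it has odd
order it induces `1`. -/
theorem lbal_om_q3_endgame [Nontrivial (ι → F)]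
    (hQ : (QuadraticMap.polarBilin Q).Nondegenerate) (h5 : 5 ≤ Fintype.card ι)
    (g : ↥(Cfsg.Geo.quadSimilarityGroup (F := F) ⇑Q))
    (hG : ((g : GL ι F) : Matrix ι ι F) = G) (hg2 : G * G = lam • (1 : Matrix ι ι F))
    (h : ↥(Cfsg.Geo.quadSimilarityGroup (F := F) ⇑Q)) (μ : F) (hμ0 : μ ≠ 0)
    (hμ : ∀ v, Q (((h : GL ι F) : Matrix ι ι F) *ᵥ v) = μ * Q v) (z : lbal_mq_K lam)
    (hz : ∀ v : ι → F, lbal_mq_of lam (Matrix.mulVecLin G) hsq
        (((h : GL ι F) : Matrix ι ι F) *ᵥ v) = z • lbal_mq_of lam (Matrix.mulVecLin G) hsq v)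
    (hodd : Odd (orderOf (Phi ⇑Q h))) : Phi ⇑Q h = 1 := by
  obtain ⟨p, hp⟩ := CharP.exists F
  have := hp
  have : Fact p.Prime := ⟨CharP.char_is_prime F p⟩
  -- some vector is non-singular
  have hne : ∃ v, Q v ≠ 0 := by
    by_contra hcon
    push Not at hcon
    obtain ⟨v, hv⟩ := exists_ne (0 : ι → F)
    apply hv
    apply (nondeg_iff Q).mp hQ
    intro w
    unfold QuadraticMap.polar
    rw [hcon, hcon, hcon]
    ring
  have hzz := lbal_mq_scalar_sq lam (Matrix.mulVecLin G) hsq Q hadj hlam h2 hne z μ (by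
    intro v
    rw [← hz, LinearEquiv.symm_apply_apply]
    exact hμ v)
  have hre := congrArg QuadraticAlgebra.re hzz
  have him := congrArg QuadraticAlgebra.im hzz
  rw [QuadraticAlgebra.re_mul, QuadraticAlgebra.algebraMap_re] at hre
  rw [QuadraticAlgebra.im_mul, QuadraticAlgebra.algebraMap_im] at him
  have h3 : z.re * z.im = 0 := by
    have : (2 : F) * (z.re * z.im) = 0 := by linear_combination him
    rcases mul_eq_zero.mp this with h | h
    · exact absurd h h2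
    · exact h
  -- the matrix of `h`
  have hH : ∀ v : ι → F, ((h : GL ι F) : Matrix ι ι F) *ᵥ v = z.re • v + z.im • (G *ᵥ v) := by
    intro v
    have h4 := hz v
    rw [lbal_mq_smul_def] at h4
    have h5 := (lbal_mq_of lam (Matrix.mulVecLin G) hsq).injective h4
    rw [h5, Matrix.mulVecLin_apply]
  rcases mul_eq_zero.mp h3 with h0 | h0
  · -- `z.re = 0`: `h = z.im • g`
    rw [h0] at hre
    have hi0 : z.im ≠ 0 := by
      intro h
      rw [h] at hre
      apply hμ0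
      rw [← hre]
      ring
    have h6 : ((h * g⁻¹ : ↥(Cfsg.Geo.quadSimilarityGroup (F := F) ⇑Q)) : GL ι F) =
        ((Units.mk0 z.im hi0 : Fˣ) : F) • (1 : Matrix ι ι F) := by
      have h7 : ((h : GL ι F) : Matrix ι ι F) = z.im • G := by
        apply matrix_ext
        intro v
        rw [hH, h0, zero_smul, zero_add, Matrix.smul_mulVec]
      have h8 : (((g⁻¹ : ↥(Cfsg.Geo.quadSimilarityGroup (F := F) ⇑Q)) : GL ι F) : Matrix ι ι F) * G
          = 1 := by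
        rw [← hG, Subgroup.coe_inv, ← Units.val_mul, inv_mul_cancel, Units.val_one]
      have h9 : G * (((g⁻¹ : ↥(Cfsg.Geo.quadSimilarityGroup (F := F) ⇑Q)) : GL ι F) :
          Matrix ι ι F) = 1 := by
        rw [← hG, Subgroup.coe_inv, ← Units.val_mul, mul_inv_cancel, Units.val_one]
      rw [Subgroup.coe_mul, Units.val_mul, h7, Matrix.smul_mul, h9]
      rfl
    have h10 : Phi ⇑Q (h * g⁻¹) = 1 := (Phi_eq_one_iff_scalar Q hQ h5 p _).mpr ⟨_, h6⟩
    have h11 : Phi ⇑Q h = Phi ⇑Q g := by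
      rw [map_mul, map_inv, mul_inv_eq_one] at h10
      exact h10
    have hlam' : lam ≠ 0 := hlam
    have h12 : Phi ⇑Q (g * g) = 1 := by
      apply (Phi_eq_one_iff_scalar Q hQ h5 p _).mpr
      refine ⟨Units.mk0 lam hlam, ?_⟩
      rw [Subgroup.coe_mul, Units.val_mul, hG, hg2]
      rfl
    have h13 : Phi ⇑Q h ^ 2 = 1 := by
      rw [h11, pow_two, ← map_mul, h12]
    have h14 : orderOf (Phi ⇑Q h) ∣ 2 := orderOf_dvd_of_pow_eq_one h13
    have h15 : orderOf (Phi ⇑Q h) = 1 :=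
      Nat.Coprime.eq_one_of_dvd (Nat.coprime_two_right.mpr hodd) h14
    exact orderOf_eq_one_iff.mp h15
  · -- `z.im = 0`: `h` is a scalar
    rw [h0] at hre
    have hr0 : z.re ≠ 0 := by
      intro h
      rw [h] at hre
      apply hμ0
      rw [← hre]
      ring
    apply (Phi_eq_one_iff_scalar Q hQ h5 p _).mpr
    refine ⟨Units.mk0 z.re hr0, ?_⟩
    apply matrix_ext
    intro v
    rw [hH, h0, zero_smul, add_zero, Matrix.smul_mulVec, Matrix.one_mulVec]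
    rfl

include hadj hlam h2 in
/-- the core of `pgoAut ⊓ C(Phi g)` is trivial (abstract parameters). -/
theorem lbal_om_q3_main [Nontrivial (ι → F)]
    (hQ : (QuadraticMap.polarBilin Q).Nondegenerate) (h5 : 5 ≤ Fintype.card ι)
    (h5' : 5 ≤ finrank (lbal_mq_K lam) (lbal_mq_V lam (Matrix.mulVecLin G) hsq))
    (g : ↥(Cfsg.Geo.quadSimilarityGroup (F := F) ⇑Q))
    (hG : ((g : GL ι F) : Matrix ι ι F) = G) (hg2 : G * G = lam • (1 : Matrix ι ι F))
    (X : Subgroup (MulAut (Cfsg.POmega F ⇑Q)))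
    (hXC : X ≤ Cfsg.pgoAut F ⇑Q ⊓
      Subgroup.centralizer ({Phi ⇑Q g} : Set (MulAut (Cfsg.POmega F ⇑Q))))
    (hnorm : ∀ c ∈ Cfsg.pgoAut F ⇑Q ⊓
      Subgroup.centralizer ({Phi ⇑Q g} : Set (MulAut (Cfsg.POmega F ⇑Q))),
      ∀ n ∈ X, c * n * c⁻¹ ∈ X)
    (hodd : (Nat.card ↥X).Coprime 2) : ∀ x ∈ X, x = 1 := by
  intro x hx
  have hQ' := lbal_mq_nondeg lam (Matrix.mulVecLin G) hsq Q hadj hlam h2 ((nondeg_iff Q).mp hQ)
  have hSn : (SG (lbal_mq_Q' lam (Matrix.mulVecLin G) hsq Q hadj hlam h2)).Normal :=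
    ⟨fun n hn a => conj_mem_SG _ hn a⟩
  have h2K : (2 : lbal_mq_K lam) ≠ 0 := by
    intro h
    have h3 := congrArg QuadraticAlgebra.re h
    exact h2 h3
  have hfin : Finite ↥X := by
    apply Nat.finite_of_card_ne_zero
    intro h
    rw [h] at hodd
    exact absurd hodd (by decide)
  -- `x` has odd order
  have hoddx : Odd (orderOf x) := by
    have h3 : orderOf (⟨x, hx⟩ : ↥X) ∣ Nat.card ↥X := orderOf_dvd_natCard _
    rw [Subgroup.orderOf_mk] at h3
    exact Nat.coprime_two_right.mp (Nat.Coprime.coprime_dvd_left h3 hodd)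
  obtain ⟨h, hhx, hhg⟩ := lbal_om_lift_commute Q hQ h5 g lam (by rw [hG]; exact hg2) x
    (hXC hx) hoddx
  rw [hG] at hhg
  obtain ⟨μ, hμ⟩ := h.2
  -- normalise
  have hcommlin : ∀ v, (glEquiv (h : GL ι F)) (Matrix.mulVecLin G v) =
      Matrix.mulVecLin G (glEquiv (h : GL ι F) v) := by
    intro v
    rw [glEquiv_apply, glEquiv_apply, Matrix.mulVecLin_apply, Matrix.mulVecLin_apply,
      Matrix.mulVec_mulVec, Matrix.mulVec_mulVec, hhg]
  obtain ⟨e, k, he, hek⟩ := lbal_om_q3_normalize lam (Matrix.mulVecLin G) hsq Q hadj hlam h2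
    (glEquiv (h : GL ι F)) hcommlin (μ : F) μ.ne_zero (fun v => by
      rw [glEquiv_apply]; exact hμ v)
  have hek' : ∀ v : ι → F, lbal_mq_of lam (Matrix.mulVecLin G) hsq
        (((h : GL ι F) : Matrix ι ι F) *ᵥ v) =
      e • (k : lbal_mq_V lam (Matrix.mulVecLin G) hsq ≃ₗ[lbal_mq_K lam] _)
        (lbal_mq_of lam (Matrix.mulVecLin G) hsq v) := by
    intro v
    rw [← hek v, glEquiv_apply]
  -- the involution
  obtain ⟨t, htS, ht2, a, d, ha, hd, hta, htd⟩ :=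
    lbal_om_q3_invol (lbal_mq_Q' lam (Matrix.mulVecLin G) hsq Q hadj hlam h2) hQ' h5' h2K
  have ht1 := lbal_om_q3_psi_ne_one Q lam G hsq hadj hlam h2 hQ h5 t a d ha hd hta htd
  -- `k` centralises `SG Q'`
  have hkc := lbal_om_q3_abs X (Cfsg.pgoAut F ⇑Q ⊓
      Subgroup.centralizer ({Phi ⇑Q g} : Set (MulAut (Cfsg.POmega F ⇑Q)))) hnorm hodd
    (SG (lbal_mq_Q' lam (Matrix.mulVecLin G) hsq Q hadj hlam h2))
    ((Phi ⇑Q).comp (lbal_om_q3d_psi Q lam (Matrix.mulVecLin G) hsq hadj hlam h2))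
    (fun s _ => lbal_om_q3_psi_mem Q lam G hsq hadj hlam h2 g hG s)
    (commutator_SG_eq_top _ hQ' h5') (isSimpleGroup_SG _ hQ' h5') t htS ht2 ht1 x hx k (by
      intro s _
      rw [← hhx, MonoidHom.comp_apply, MonoidHom.comp_apply, ← map_inv, ← map_mul, ← map_mul,
        lbal_om_q3_conj Q lam G hsq hadj hlam h2 h e k hek' s])
  obtain ⟨l, hl⟩ := lbal_om_q3_scalar (lbal_mq_Q' lam (Matrix.mulVecLin G) hsq Q hadj hlam h2)
    hQ' h5' k hkc
  rw [← hhx] at hoddx ⊢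
  exact lbal_om_q3_endgame Q lam G hsq hadj hlam h2 hQ h5 g hG hg2 h (μ : F) μ.ne_zero hμ (e * l)
    (fun v => by rw [hek' v, hl, mul_smul]) hoddx

end Psi

/-- **O4a**: class (h3) with a non-square multiplier: `g * g = c • 1`, `c` a non-square. -/
theorem lbal_om_h3_nsq (hodd : Odd (Fintype.card F))
    (hQ : (QuadraticMap.polarBilin Q).Nondegenerate) {l : ℕ} (hl : Odd l) (hl5 : 5 ≤ l)
    (hcard : Fintype.card ι = 2 * l) (g : ↥(Cfsg.Geo.quadSimilarityGroup (F := F) ⇑Q)) (c : F)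
    (hc : ¬ IsSquare c)
    (hg2 : ((g : GL ι F) : Matrix ι ι F) * ((g : GL ι F) : Matrix ι ι F) =
      c • (1 : Matrix ι ι F))
    (hmult : ∀ v, Q (((g : GL ι F) : Matrix ι ι F) *ᵥ v) = c * Q v) :
    ¬ HasCore 2 (Cfsg.pgoAut F ⇑Q ⊓
      Subgroup.centralizer ({Phi ⇑Q g} : Set (MulAut (Cfsg.POmega F ⇑Q)))) := by
  rintro ⟨N, hNC, hnorm, hcop, hne⟩
  apply hne
  have hc0 : c ≠ 0 := by
    intro h
    apply hc
    rw [h]
    exact ⟨0, (mul_zero 0).symm⟩
  have h2 : (2 : F) ≠ 0 := by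
    apply Ring.two_ne_zero
    intro h
    have h3 := FiniteField.even_card_of_char_two h
    rw [Nat.odd_iff] at hodd
    omega
  have hF := lbal_mq_fact_of_not_isSquare hc
  have hι : Nonempty ι := Fintype.card_pos_iff.mp (by omega)
  have hnt : Nontrivial (ι → F) := Function.nontrivial
  obtain ⟨G, hG⟩ : ∃ G : Matrix ι ι F, ((g : GL ι F) : Matrix ι ι F) = G := ⟨_, rfl⟩
  rw [hG] at hg2 hmult
  have hsq := lbal_om_q3d_hsq G c hg2
  have hadj := lbal_om_q3d_hadj Q G c hg2 hmult hc0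
  have h5' : 5 ≤ finrank (lbal_mq_K c) (lbal_mq_V c (Matrix.mulVecLin G) hsq) := by
    have h3 := lbal_mq_finrank c (Matrix.mulVecLin G) hsq
    rw [Module.finrank_pi, hcard] at h3
    omega
  rw [Subgroup.eq_bot_iff_forall]
  exact lbal_om_q3_main Q c G hsq hadj hc0 h2 hQ (by omega) h5' g hG hg2 N hNC hnorm hcop

end Cfsg.Agent.LBal
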