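import Mathlib
import Cfsg.Agent.LBal.NoCore
import Cfsg.Agent.Helper8.AutOzp
import Cfsg.Agent.Helper8.AutOzzi
import Cfsg.Agent.Helper8.AutSpzt

set_option autoImplicit false
set_option linter.unusedSectionVars false

/-!
LBal piece O2a (for S2733): an automorphism of `PΩ(Q)` fixing the fixed points of the standard
field automorphism of a single field automorphism `σ` preserving `Q`, of order prime to the
(prime) order of `σ`, is trivial (helper8).
-/

namespace Cfsg.Agent.LBal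

open Module Matrix Cfsg.Agent.Helper8.QuadForm Cfsg.Agent.Helper8.WittQuad
  Cfsg.Agent.Helper8.OrthOrder
  Cfsg.Agent.Helper8.Siegel Cfsg.Agent.Helper8.SiegelGeom Cfsg.Agent.Helper8.SiegelGroup
  Cfsg.Agent.Helper8.SiegelPrim Cfsg.Agent.Helper8.SiegelSimple Cfsg.Agent.Helper8.ReflMatrix
  Cfsg.Agent.Helper8.OmegaSimple Cfsg.Agent.Helper8.AutImagePsi Cfsg.Agent.Helper8.AutImageOrth
  Cfsg.Agent.Helper8.StdForms Cfsg.Agent.Helper8.AutImage Cfsg.Agent.Helper8.AutImageKer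
  Cfsg.Agent.Helper8.AutImageIdx Cfsg.Agent.Helper8.AutO
open Cfsg.Agent.Helper8.AutSLn (fixField)
open Cfsg.Agent.Helper8.AutSp (mem_zpowers_of_fixes)

section Gen

variable {F₀ : Type*} {F : Type*} [Field F₀] [Field F] [Fintype F₀] [Fintype F] (j : F₀ →+* F)
  {ι : Type} [Fintype ι] [DecidableEq ι]
  (Q₀ : QuadraticForm F₀ (ι → F₀)) (Q : QuadraticForm F (ι → F))
  (hj : ∀ v : ι → F₀, Q (hvec j v) = j (Q₀ v))

section One

variable [Nontrivial (ι → F)] (hQ : (QuadraticMap.polarBilin Q).Nondegenerate)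
  (h5 : 5 ≤ Fintype.card ι)
  (σ : F ≃+* F) (hσQ : ∀ v : ι → F, Q (fun i => σ (v i)) = σ (Q v))

/-- a Siegel transformation with fixed parameters is fixed by the field automorphism. -/
theorem lbal_omf_conjS_sgT {u w : ι → F} (hu : Q u = 0)
    (huw : QuadraticMap.polar Q u w = 0) (hfu : (fun i => σ (u i)) = u)
    (hfw : (fun i => σ (w i)) = w) :
    conjS (fieldGammaOne Q σ hσQ) (sgT Q u w) = sgT Q u w := by
  apply ext_ap
  intro x
  obtain ⟨y, rfl⟩ : ∃ y, gap (fieldGammaOne Q σ hσQ) y = x :=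
    ⟨gap (fieldGammaOne Q σ hσQ)⁻¹ x, gap_gap_inv _ x⟩
  rw [ap_conjS_gap]
  have h1 := (semiSim_field_one Q σ hσQ).conj_sieg hu huw y
  simp only [hfu, hfw, inv_one, one_smul] at h1
  exact h1

/-- the class of a Siegel transformation with fixed parameters is fixed by the standard field
automorphism. -/
theorem lbal_omf_pr_sgT {u w : ι → F} (hu : Q u = 0)
    (huw : QuadraticMap.polar Q u w = 0) (hfu : (fun i => σ (u i)) = u)
    (hfw : (fun i => σ (w i)) = w) :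
    PsiM Q hQ h5 (fieldGammaOne Q σ hσQ) ((EPG Q hQ h5).symm (pr (sgT Q u w))) =
      (EPG Q hQ h5).symm (pr (sgT Q u w)) := by
  rw [PsiM_apply, MulEquiv.apply_symm_apply, Psi_pr, lbal_omf_conjS_sgT Q σ hσQ hu huw hfu hfw]

/-- powers of the coordinatewise action -/
theorem lbal_omf_gap_pow (n : ℕ) (x : ι → F) :
    gap ((fieldGammaOne Q σ hσQ) ^ n) x = fun i => (σ ^ n) (x i) := by
  induction n generalizing x with
  | zero =>
    rw [pow_zero, pow_zero, gap_one]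
    rfl
  | succ n ih =>
    rw [pow_succ, gap_mul, gap_fieldGammaOne, ih]
    funext i
    rw [pow_succ]
    rfl

end One

section Main

variable [Nontrivial (ι → F)] (hQ₀ : (QuadraticMap.polarBilin Q₀).Nondegenerate)
  (hQ : (QuadraticMap.polarBilin Q).Nondegenerate) (h5 : 5 ≤ Fintype.card ι)

include hj hQ₀ in
/-- a semilinear similarity whose automorphism fixes the classes of the rational Siegel
transformations preserves every rational singular point. -/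
theorem lbal_omf_gap_mem_span (γ : ↥(GammaO Q))
    (hn : ∀ u₀ w₀ : ι → F₀, IsTS Q₀ u₀ w₀ →
      PsiM Q hQ h5 γ ((EPG Q hQ h5).symm (pr (sgT Q (hvec j u₀) (hvec j w₀)))) =
        (EPG Q hQ h5).symm (pr (sgT Q (hvec j u₀) (hvec j w₀))))
    {u₀ : ι → F₀} (hu₀0 : u₀ ≠ 0) (hu₀ : Q₀ u₀ = 0) :
    gap γ (hvec j u₀) ∈ Submodule.span F {hvec j u₀} := by
  obtain ⟨pc, hpc, hc⟩ := exists_char F
  have hdim : finrank F (ι → F) = Fintype.card ι := Module.finrank_fintype_fun_eq_card F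
  have hdim₀ : finrank F₀ (ι → F₀) = Fintype.card ι := Module.finrank_fintype_fun_eq_card F₀
  have hQ' : Nondeg Q := (nondeg_iff Q).mp hQ
  have hQ₀' : Nondeg Q₀ := (nondeg_iff Q₀).mp hQ₀
  have hg := semiSim_gap γ
  obtain ⟨e₀, f₀, h1, h2, hef⟩ := exists_two_ts hQ₀' (by rw [hdim₀]; exact h5) hu₀0 hu₀
  have key : ∀ w₀, IsTS Q₀ u₀ w₀ →
      gap γ (hvec j u₀) ∈ Submodule.span F {hvec j u₀, hvec j w₀} := by
    intro w₀ hw₀
    have hw := isTS_hvec j Q₀ Q hj hQ₀' hw₀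
    have hk := hn u₀ w₀ hw₀
    rw [PsiM_apply, MulEquiv.apply_symm_apply, Psi_pr] at hk
    have h3 : pr (conjS γ (sgT Q (hvec j u₀) (hvec j w₀))) = pr (sgT Q (hvec j u₀) (hvec j w₀)) :=
      (EPG Q hQ h5).symm.injective hk
    have h4 : (sgT Q (hvec j u₀) (hvec j w₀)) ^ (pc ^ 1) = 1 := by
      rw [pow_one]
      exact sgT_pow_char pc hw.ab
    have h5' : (conjS γ (sgT Q (hvec j u₀) (hvec j w₀))) ^ (pc ^ 1) = 1 := by
      rw [← conjSG_apply, ← map_pow, h4, map_one]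
    have h6 := eq_of_pr_eq hQ' (by rw [hdim]; exact h5) pc h5' h4 h3
    rw [conjS_sgT γ hw.qa hw.ab] at h6
    exact mem_span_of_sgT_eq hQ' hw (hg.ne_zero (hvec_ne_zero j hu₀0)) (hg.sing hw.qa)
      (by rw [QuadraticMap.polar_smul_right, hg.polar, hw.ab, _root_.map_zero, mul_zero,
        smul_zero]) h6.symm
  have hu : hvec j u₀ ≠ 0 := hvec_ne_zero j hu₀0
  have t1 := isTS_hvec j Q₀ Q hj hQ₀' h1
  have t2 := isTS_hvec j Q₀ Q hj hQ₀' h2
  exact mem_span_of_two hu t1.ab t2.ab t1.qb t2.qb (by rw [polar_hvec j Q₀ Q hj, hef, map_one])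
    (key e₀ h1) (key f₀ h2)

include hj hQ₀ in
/-- **an automorphism of `PΩ(Q)` fixing the classes of the rational Siegel transformations is the
standard field automorphism of a field automorphism fixing the subfield.** -/
theorem lbal_omf_eq_field_of_fix (h7 : 7 ≤ Fintype.card ι) (hB2 : 9 ≤ Fintype.card ι ∨ NoB2 Q)
    (hτQ : ∀ τ : F ≃+* F, (∀ a, τ (j a) = j a) →
      ∀ v : ι → F, Q (fun i => τ (v i)) = τ (Q v))
    (n : MulAut (Cfsg.POmega F ⇑Q))
    (hn : ∀ u₀ w₀ : ι → F₀, IsTS Q₀ u₀ w₀ →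
      n ((EPG Q hQ h5).symm (pr (sgT Q (hvec j u₀) (hvec j w₀)))) =
        (EPG Q hQ h5).symm (pr (sgT Q (hvec j u₀) (hvec j w₀)))) :
    ∃ (τ : F ≃+* F) (hτ : ∀ a, τ (j a) = j a),
      n = PsiM Q hQ h5 (fieldGammaOne Q τ (hτQ τ hτ)) := by
  obtain ⟨pc, hpc, hc⟩ := exists_char F
  have hdim : finrank F (ι → F) = Fintype.card ι := Module.finrank_fintype_fun_eq_card F
  have hdim₀ : finrank F₀ (ι → F₀) = Fintype.card ι := Module.finrank_fintype_fun_eq_card F₀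
  have hQ' : Nondeg Q := (nondeg_iff Q).mp hQ
  have hQ₀' : Nondeg Q₀ := (nondeg_iff Q₀).mp hQ₀
  have hsurj : Function.Surjective (Psi (Q := Q)) :=
    Psi_surjective hQ' (by rw [hdim]; exact h7) pc (by rw [hdim]; exact hB2)
  obtain ⟨γ, rfl⟩ := PsiM_surjective Q hQ h5 hsurj n
  have hpt : ∀ u₀ : ι → F₀, u₀ ≠ 0 → Q₀ u₀ = 0 →
      ∃ t : F, gap γ (hvec j u₀) = t • hvec j u₀ := by
    intro u₀ h0 hu
    obtain ⟨t, ht⟩ := Submodule.mem_span_singleton.mp
      (lbal_omf_gap_mem_span j Q₀ Q hj hQ₀ hQ h5 γ hn h0 hu)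
    exact ⟨t, ht.symm⟩
  obtain ⟨τ, hτ⟩ : ∃ τ, τ = tau γ := ⟨_, rfl⟩
  have hg := semiSim_tau γ
  rw [← hτ] at hg
  -- the field automorphism fixes the subfield
  have hτfix : ∀ c : F₀, τ (j c) = j c := by
    obtain ⟨u₀, hu₀0, hu₀⟩ := exists_singular Q₀ (show 3 ≤ finrank F₀ (ι → F₀) by omega)
    obtain ⟨e₀, f₀, h1, -, -⟩ := exists_two_ts hQ₀' (by rw [hdim₀]; exact h5) hu₀0 hu₀
    have t1 := isTS_hvec j Q₀ Q hj hQ₀' h1
    obtain ⟨a, ha⟩ := hpt u₀ hu₀0 hu₀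
    obtain ⟨b, hb⟩ := hpt e₀ h1.b_ne h1.qb
    have key : ∀ c : F₀, τ (j c) * b = a * j c := by
      intro c
      have hne : u₀ + c • e₀ ≠ 0 := by
        intro h0
        have := h1.eq_zero_of_comb (s := 1) (t := c) (by rw [one_smul]; exact h0)
        exact one_ne_zero this.1
      have hq : Q₀ (u₀ + c • e₀) = 0 := by
        have := h1.Q_comb 1 c
        rwa [one_smul] at this
      obtain ⟨t, ht⟩ := hpt _ hne hq
      rw [hvec_add, hvec_smul, hg.add, hg.smul, ha, hb, smul_add, smul_smul, smul_smul] at ht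
      have h0 : (a - t) • hvec j u₀ + (τ (j c) * b - t * j c) • hvec j e₀ = 0 := by
        rw [sub_smul, sub_smul]
        rw [← sub_eq_zero] at ht
        rw [← ht]
        abel
      obtain ⟨e1, e2⟩ := t1.eq_zero_of_comb h0
      rw [sub_eq_zero] at e1 e2
      rw [e2, e1]
    intro c
    have k1 := key 1
    rw [map_one, map_one, one_mul, mul_one] at k1
    have ha0 : a ≠ 0 := by
      intro h0
      rw [h0, zero_smul] at ha
      exact hg.ne_zero (hvec_ne_zero j hu₀0) ha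
    have k2 := key c
    rw [k1, mul_comm] at k2
    exact mul_left_cancel₀ ha0 k2
  refine ⟨τ, hτfix, ?_⟩
  -- the linear part is a scalar
  have h1 : γ * (fieldGammaOne Q τ (hτQ τ hτfix))⁻¹ ∈ (tau (Q := Q)).ker := by
    rw [MonoidHom.mem_ker, map_mul, map_inv, tau_fieldGammaOne, hτ, mul_inv_cancel]
  rw [ker_tau] at h1
  obtain ⟨g, hg'⟩ := h1
  have h2 : γ = simGamma Q g * fieldGammaOne Q τ (hτQ τ hτfix) := by
    rw [hg', inv_mul_cancel_right]
  have hfixM : ∀ u₀ : ι → F₀, u₀ ≠ 0 → Q₀ u₀ = 0 →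
      ∃ t : F, ((g : GL ι F) : Matrix ι ι F) *ᵥ hvec j u₀ = t • hvec j u₀ := by
    intro u₀ h0 hu
    obtain ⟨t, ht⟩ := hpt u₀ h0 hu
    refine ⟨t, ?_⟩
    rw [← ht, h2, gap_mul, gap_simGamma, gap_fieldGammaOne]
    congr 1
    funext i
    exact (hτfix _).symm
  obtain ⟨l, hl⟩ := exists_scalar_of_fix_hvec j Q₀ Q hj hQ₀' (by rw [hdim₀]; exact h5) _ hfixM
  have hl0 : l ≠ 0 := by
    intro h0
    obtain ⟨x, hx⟩ := exists_ne (0 : ι → F)
    have h3 := hl x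
    rw [h0, zero_smul] at h3
    exact (semiSim_gap (simGamma Q g)).ne_zero hx h3
  have h3 : simGamma Q g = scalarGamma (Units.mk0 l hl0) := by
    apply ext_gap
    intro x
    rw [gap_simGamma, gap_scalarGamma, Units.val_mk0, hl]
  have h4 : PsiM Q hQ h5 (simGamma Q g) = 1 := by
    have h6 : simGamma Q g ∈ (PsiM Q hQ h5).ker := by
      rw [ker_PsiM, h3]
      exact scalarGamma_le_ker ⟨_, rfl⟩
    exact h6
  rw [h2, map_mul, h4, one_mul]

include hj hQ₀ in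
/-- **(h4) for the standard field automorphism of a single field automorphism of prime order.** -/
theorem lbal_omf_h4 (h7 : 7 ≤ Fintype.card ι) (hB2 : 9 ≤ Fintype.card ι ∨ NoB2 Q)
    (hτQ : ∀ τ : F ≃+* F, (∀ a, τ (j a) = j a) →
      ∀ v : ι → F, Q (fun i => τ (v i)) = τ (Q v))
    (σ : F ≃+* F) (hfix : ∀ a, σ (j a) = j a) (hsurj : ∀ b, σ b = b → ∃ a, j a = b)
    {p : ℕ} [Fact p.Prime] (hσp : orderOf σ = p)
    (α : MulAut (Cfsg.POmega F ⇑Q)) (hcop : (orderOf α).Coprime p)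
    (hα : ∀ k, PsiM Q hQ h5 (fieldGammaOne Q σ (hτQ σ hfix)) k = k → α k = k) : α = 1 := by
  have hσpow : σ ^ p = 1 := by rw [← hσp, pow_orderOf_eq_one]
  have hfixv : ∀ v : ι → F₀, (fun i => σ (hvec j v i)) = hvec j v := by
    intro v
    funext i
    exact hfix _
  have hQ₀' : Nondeg Q₀ := (nondeg_iff Q₀).mp hQ₀
  obtain ⟨τ, hτ, hατ⟩ := lbal_omf_eq_field_of_fix j Q₀ Q hj hQ₀ hQ h5 h7 hB2 hτQ α (by
    intro u₀ w₀ hw₀
    apply hα
    have hw := isTS_hvec j Q₀ Q hj hQ₀' hw₀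
    exact lbal_omf_pr_sgT Q hQ h5 σ (hτQ σ hfix) hw.qa hw.ab (hfixv u₀) (hfixv w₀))
  have hτ' : ∀ c, σ c = c → τ c = c := by
    intro c hc
    obtain ⟨a, rfl⟩ := hsurj c hc
    exact hτ a
  have hτz := mem_zpowers_of_fixes σ τ hτ'
  obtain ⟨i, hi⟩ := Subgroup.mem_zpowers_iff.mp hτz
  have hτp : τ ^ p = 1 := by
    rw [← hi, ← zpow_natCast, ← _root_.zpow_mul, mul_comm, _root_.zpow_mul, zpow_natCast, hσpow,
      _root_.one_zpow]
  have hγp : (fieldGammaOne Q τ (hτQ τ hτ)) ^ p = 1 := by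
    apply ext_gap
    intro x
    rw [lbal_omf_gap_pow, hτp, gap_one]
    rfl
  have hnp : α ^ p = 1 := by rw [hατ, ← map_pow, hγp, map_one]
  have h1 : orderOf α ∣ p := orderOf_dvd_of_pow_eq_one hnp
  have h4 := Nat.dvd_gcd (dvd_refl (orderOf α)) h1
  rw [hcop] at h4
  exact orderOf_eq_one_iff.mp (Nat.dvd_one.mp h4)

end Main

end Gen

section Minus

variable {F : Type*} [Field F] [Fintype F] {m : ℕ}

theorem lbal_omf_h4_minus_aux (hm : 3 ≤ m) (a b : F)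
    (hab : ∀ z₁ z₂ : F, z₁ ^ 2 + a * z₁ * z₂ + b * z₂ ^ 2 = 0 → z₁ = 0 ∧ z₂ = 0)
    (σ : F ≃+* F) (ha : σ a = a) (hb : σ b = b) {p : ℕ} [Fact p.Prime] (hσ : orderOf σ = p)
    (Qf : ((Fin m ⊕ Fin m) ⊕ Fin 2 → F) → F) (hQf : Qf = ⇑(minusForm F m a b))
    (φ : MulAut (Cfsg.POmega F Qf)) (hφ : Cfsg.IsFieldAutPOmegaOf Qf σ φ)
    (α : MulAut (Cfsg.POmega F Qf)) (hcop : (orderOf α).Coprime p)
    (hfix : ∀ k : Cfsg.POmega F Qf, φ k = k → α k = k) : α = 1 := by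
  subst hQf
  classical
  have : Nonempty ((Fin m ⊕ Fin m) ⊕ Fin 2) := ⟨Sum.inr 0⟩
  have hcard : Fintype.card ((Fin m ⊕ Fin m) ⊕ Fin 2) = 2 * (m + 1) := by
    simp only [Fintype.card_sum, Fintype.card_fin]; ring
  have hQ : (QuadraticMap.polarBilin (minusForm F m a b)).Nondegenerate :=
    minusForm_nondeg F m hab
  have h5 : 5 ≤ Fintype.card ((Fin m ⊕ Fin m) ⊕ Fin 2) := by rw [hcard]; omega
  have h7 : 7 ≤ Fintype.card ((Fin m ⊕ Fin m) ⊕ Fin 2) := by rw [hcard]; omega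
  have hB2 : 9 ≤ Fintype.card ((Fin m ⊕ Fin m) ⊕ Fin 2) ∨ NoB2 (minusForm F m a b) := by
    by_cases h4 : 4 ≤ m
    · left; rw [hcard]; omega
    · right
      obtain rfl : m = 3 := by omega
      exact noB2_minus hab
  have hσQ := minusForm_sigma σ m ha hb
  have : Fintype ↥(fixField σ) := Fintype.ofFinite _
  have hmem : ∀ v : (Fin m ⊕ Fin m) ⊕ Fin 2 → ↥(fixField σ),
      minusForm F m a b (cvec (fixField σ) v) ∈ fixField σ := by
    intro v
    rw [Cfsg.Agent.Helper8.AutSLn.mem_fixField, ← hσQ]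
    congr 1
    funext i
    exact (v i).2
  have hτQ : ∀ τ : F ≃+* F, (∀ c : ↥(fixField σ), τ ((fixField σ).subtype c) =
      (fixField σ).subtype c) → ∀ v : (Fin m ⊕ Fin m) ⊕ Fin 2 → F,
      minusForm F m a b (fun i => τ (v i)) = τ (minusForm F m a b v) := by
    intro τ hτ v
    exact minusForm_sigma τ m (hτ ⟨a, (Cfsg.Agent.Helper8.AutSLn.mem_fixField σ a).mpr ha⟩)
      (hτ ⟨b, (Cfsg.Agent.Helper8.AutSLn.mem_fixField σ b).mpr hb⟩) v
  have hφ' := eq_PsiM_of_isFieldAut_one (minusForm F m a b) σ hσQ hQ h5 hφ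
  refine lbal_omf_h4 (fixField σ).subtype (descendQ (fixField σ) (minusForm F m a b) hmem)
    (minusForm F m a b) (fun v => rfl)
    ((nondeg_iff _).mpr (nondeg_descendQ (fixField σ) (minusForm F m a b) hmem
      ((nondeg_iff _).mp hQ))) hQ h5 h7 hB2 hτQ σ (fun c => c.2)
    (fun c hc => ⟨⟨c, hc⟩, rfl⟩) hσ α hcop ?_
  intro k hk
  apply hfix
  rw [hφ']
  exact hk

/-- **O2a: (h4) for a standard field automorphism of `PΩ⁻_{2m+2}`.** -/
theorem lbal_om_h4_field (hm : 3 ≤ m) (a b : F)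
    (hab : ∀ z₁ z₂ : F, z₁ ^ 2 + a * z₁ * z₂ + b * z₂ ^ 2 = 0 → z₁ = 0 ∧ z₂ = 0)
    (σ : F ≃+* F) (ha : σ a = a) (hb : σ b = b) {p : ℕ} [Fact p.Prime] (hσ : orderOf σ = p)
    (φ : MulAut (Cfsg.POmega F (Cfsg.quadFormMinus m F a b)))
    (hφ : Cfsg.IsFieldAutPOmegaOf (Cfsg.quadFormMinus m F a b) σ φ)
    (α : MulAut (Cfsg.POmega F (Cfsg.quadFormMinus m F a b))) (hcop : (orderOf α).Coprime p)
    (hfix : ∀ k : Cfsg.POmega F (Cfsg.quadFormMinus m F a b), φ k = k → α k = k) : α = 1 :=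
  lbal_omf_h4_minus_aux hm a b hab σ ha hb hσ (Cfsg.quadFormMinus m F a b)
    (funext (fun v => (minusForm_apply F m a b v).symm)) φ hφ α hcop hfix

end Minus

end Cfsg.Agent.LBal
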