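import Mathlib
import Cfsg.Agent.LBal.MG4

set_option autoImplicit false
set_option linter.unusedSectionVars false
set_option linter.style.haveILetI false

/-!
# LBal, S2733 piece O3b (helper5): hypothesis (h4) for an isometric involution of determinant `-1`

`lbal_om_h4_inv`: `Q` a quadratic form with nondegenerate polar form on `ι → F`, `|ι| ≥ 8`,
`F` finite of odd order, `g` an isometric involution of determinant `-1`; an automorphism of
`PΩ(Q)` of odd order fixing every fixed point of `Phi g` is trivial.  One of the two eigenspaces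
of `g` has dimension at least five (the `-1`-eigenspace has odd dimension), and
`lbal_m_g4_psi` (file `MG4`) applies to it.
-/

namespace Cfsg.Agent.LBal

open Module Matrix Cfsg.Agent.Helper8.QuadForm Cfsg.Agent.Helper8.WittQuad
  Cfsg.Agent.Helper8.OrthOrder
  Cfsg.Agent.Helper8.Siegel Cfsg.Agent.Helper8.SiegelGeom Cfsg.Agent.Helper8.SiegelGroup
  Cfsg.Agent.Helper8.SiegelPrim Cfsg.Agent.Helper8.SiegelSimple Cfsg.Agent.Helper8.AutO
  Cfsg.Agent.Helper8.Reflections Cfsg.Agent.Helper8.ReflMatrix Cfsg.Agent.Helper8.OmegaSimple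
  Cfsg.Agent.Helper8.AutImageOrth Cfsg.Agent.Helper8.AutImageIdx Cfsg.Agent.Helper8.AutImagePsi
  Cfsg.Agent.Helper8.AutImage

section Det

variable {F : Type*} [Field F]

theorem lbal_om_h4i_two_ne_zero [Fintype F] (hF : Odd (Fintype.card F)) : (2 : F) ≠ 0 := by
  apply Ring.two_ne_zero
  intro h
  have := FiniteField.even_card_iff_char_two.mp h
  rw [Nat.odd_iff] at hF
  omega

/-- the determinant of an involution. -/
theorem lbal_om_h4i_det_invol {V : Type*} [AddCommGroup V] [Module F V] [FiniteDimensional F V]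
    (f : V →ₗ[F] V) (hsq : ∀ v, f (f v) = v) :
    LinearMap.det f = (-1) ^ finrank F ↥(LinearMap.ker (f + LinearMap.id)) := by
  obtain ⟨W, hW⟩ : ∃ W : Submodule F V, W = LinearMap.ker (f + LinearMap.id) := ⟨_, rfl⟩
  rw [← hW]
  have hmem : ∀ v, v ∈ W ↔ f v = -v := by
    intro v
    rw [hW, LinearMap.mem_ker, LinearMap.add_apply, LinearMap.id_apply, add_eq_zero_iff_eq_neg]
  have he : W ≤ W.comap f := by
    intro w hw
    rw [Submodule.mem_comap, hmem, hsq]
    rw [hmem] at hw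
    rw [hw, neg_neg]
  rw [LinearMap.det_eq_det_mul_det W f he]
  have h1 : LinearMap.restrict f (p := W) (q := W) he = (-1 : F) • LinearMap.id := by
    apply LinearMap.ext
    intro w
    apply Subtype.ext
    rw [LinearMap.coe_restrict_apply, LinearMap.smul_apply, LinearMap.id_apply,
      (hmem w).mp w.2]
    simp
  have h2 : W.mapQ W f he = LinearMap.id := by
    apply LinearMap.ext
    intro w
    induction w using Submodule.Quotient.induction_on with
    | H v =>
      rw [Submodule.mapQ_apply, LinearMap.id_apply, Submodule.Quotient.eq, hmem, map_sub, hsq]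
      abel
  rw [h1, h2, LinearMap.det_smul, LinearMap.det_id, LinearMap.det_id, mul_one, mul_one]

end Det

variable {F : Type*} [Field F] [Fintype F] {ι : Type} [Fintype ι] [DecidableEq ι]
  (Q : QuadraticForm F (ι → F))

/-- **(h4), core version with the surjectivity of `Psi` as a hypothesis.** -/
theorem lbal_om_h4i_core (h2 : (2 : F) ≠ 0) (hQ : (QuadraticMap.polarBilin Q).Nondegenerate)
    (h5 : 5 ≤ Fintype.card ι) (hsurj : Function.Surjective (Psi (Q := Q)))
    (U : Submodule F (ι → F))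
    (hdec : ∀ x : ι → F, ∃ y ∈ U, ∃ z : ι → F,
      (∀ w ∈ U, QuadraticMap.polar Q z w = 0) ∧ x = y + z)
    (hU5 : 5 ≤ finrank F ↥U) (α : MulAut (Cfsg.POmega F ⇑Q))
    (hodd : (orderOf α).Coprime 2)
    (hL2 : ∀ u w, u ∈ U → w ∈ U → Q u = 0 → QuadraticMap.polar Q u w = 0 →
      α ((EPG Q hQ h5).symm (pr (sgT Q u w))) = (EPG Q hQ h5).symm (pr (sgT Q u w)))
    (hL12 : ∀ (u v : ι → F) (hu : Q u ≠ 0) (hv : Q v = Q u),
      (∀ w ∈ U, QuadraticMap.polar Q u w = 0) → v ∈ U →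
      α ((EPG Q hQ h5).symm (pr (lbal_m_g4_rr Q h2 hQ h5 hu hv)))
        = (EPG Q hQ h5).symm (pr (lbal_m_g4_rr Q h2 hQ h5 hu hv))) :
    α = 1 := by
  have hodd' : Odd (orderOf α) := Nat.coprime_two_right.mp hodd
  obtain ⟨k, hk⟩ := hodd'
  obtain ⟨β, hβ⟩ : ∃ β, β = α ^ (k + 1) := ⟨_, rfl⟩
  have hββ : β * β = α := by
    rw [hβ, ← pow_add]
    have : k + 1 + (k + 1) = orderOf α + 1 := by omega
    rw [this, pow_succ, pow_orderOf_eq_one, one_mul]
  obtain ⟨γ, hγ⟩ := PsiM_surjective Q hQ h5 hsurj β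
  have htr : ∀ s : ↥(SG Q), α ((EPG Q hQ h5).symm (pr s)) = (EPG Q hQ h5).symm (pr s) →
      Psi γ (pr s) = pr s := by
    intro s hs
    have h1 : β ((EPG Q hQ h5).symm (pr s)) = (EPG Q hQ h5).symm (pr s) := by
      rw [hβ]
      exact lbal_m_g4_pow_fix α _ hs _
    rw [← hγ, PsiM_apply, MulEquiv.apply_symm_apply] at h1
    exact (EPG Q hQ h5).symm.injective h1
  have h4 := lbal_m_g4_psi Q h2 hQ h5 U hdec hU5 γ
    (fun u w huU hwU hu huw => htr _ (hL2 u w huU hwU hu huw))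
    (fun u v hu hv huU hvU => htr _ (hL12 u v hu hv huU hvU))
  have h6 : α * α = 1 := by
    rw [← hββ, ← hγ, ← map_mul, ← map_mul]
    have h8 : γ * γ * (γ * γ) ∈ (PsiM Q hQ h5).ker := by
      rw [ker_PsiM]
      exact h4
    exact h8
  have h9 : orderOf α ∣ 2 := orderOf_dvd_of_pow_eq_one (by rw [pow_two]; exact h6)
  exact orderOf_eq_one_iff.mp (hodd.eq_one_of_dvd h9)

/-- an element of the Siegel group commuting with the similarity `g` gives a fixed point of
`Phi g`. -/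
theorem lbal_om_h4i_Phi_fix (hQ : (QuadraticMap.polarBilin Q).Nondegenerate)
    (h5 : 5 ≤ Fintype.card ι) (g : ↥(Cfsg.Geo.quadSimilarityGroup (F := F) ⇑Q)) (s : ↥(SG Q))
    (hs : ∀ x, ap s (((g : GL ι F) : Matrix ι ι F) *ᵥ x)
      = ((g : GL ι F) : Matrix ι ι F) *ᵥ ap s x) :
    Phi ⇑Q g ((EPG Q hQ h5).symm (pr s)) = (EPG Q hQ h5).symm (pr s) := by
  rw [← PsiM_simGamma Q hQ h5 g, PsiM_apply, MulEquiv.apply_symm_apply, Psi_pr]
  congr 2
  apply ext_ap
  intro x
  obtain ⟨y, rfl⟩ : ∃ y, gap (simGamma Q g) y = x :=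
    ⟨gap (simGamma Q g)⁻¹ x, gap_gap_inv _ x⟩
  rw [ap_conjS_gap, gap_simGamma]
  exact (hs y).symm

/-- **(h4) for an isometric involution one of whose eigenspaces `U` (eigenvalue `ε = ± 1`) has
dimension at least five.** -/
theorem lbal_om_h4i_eigen (h2 : (2 : F) ≠ 0) (hQ : (QuadraticMap.polarBilin Q).Nondegenerate)
    (h5 : 5 ≤ Fintype.card ι) (hsurj : Function.Surjective (Psi (Q := Q)))
    (g : ↥(Cfsg.Geo.quadSimilarityGroup (F := F) ⇑Q))
    (hg2 : ((g : GL ι F) : Matrix ι ι F) * ((g : GL ι F) : Matrix ι ι F) = 1)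
    (hiso : ∀ v, Q (((g : GL ι F) : Matrix ι ι F) *ᵥ v) = Q v)
    {ε : F} (hε : ε * ε = 1) (U : Submodule F (ι → F))
    (hU : ∀ x, x ∈ U ↔ ((g : GL ι F) : Matrix ι ι F) *ᵥ x = ε • x)
    (hU5 : 5 ≤ finrank F ↥U) (α : MulAut (Cfsg.POmega F ⇑Q))
    (hodd : (orderOf α).Coprime 2)
    (hα : ∀ k, Phi ⇑Q g k = k → α k = k) : α = 1 := by
  have hnd : Nondeg Q := (nondeg_iff Q).mp hQ
  obtain ⟨M, hM⟩ : ∃ M : Matrix ι ι F, M = ((g : GL ι F) : Matrix ι ι F) := ⟨_, rfl⟩
  rw [← hM] at hU hg2 hiso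
  have hMM : ∀ x, M *ᵥ (M *ᵥ x) = x := by
    intro x
    rw [mulVec_mulVec, hg2, one_mulVec]
  have hMp : ∀ x y, QuadraticMap.polar Q (M *ᵥ x) (M *ᵥ y) = QuadraticMap.polar Q x y := by
    intro x y
    unfold QuadraticMap.polar
    rw [← mulVec_add, hiso, hiso, hiso]
  have hεM : ∀ w ∈ U, ε • (M *ᵥ w) = w := by
    intro w hw
    rw [(hU w).mp hw, smul_smul, hε, one_smul]
  have hdec : ∀ x : ι → F, ∃ y ∈ U, ∃ z : ι → F,
      (∀ w ∈ U, QuadraticMap.polar Q z w = 0) ∧ x = y + z := by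
    intro x
    refine ⟨(2 : F)⁻¹ • (x + ε • (M *ᵥ x)), ?_, (2 : F)⁻¹ • (x - ε • (M *ᵥ x)), ?_, ?_⟩
    · have e : M *ᵥ (x + ε • (M *ᵥ x)) = ε • (x + ε • (M *ᵥ x)) := by
        rw [mulVec_add, mulVec_smul, hMM, smul_add, smul_smul, hε, one_smul, add_comm]
      rw [hU, mulVec_smul, e, smul_comm]
    · intro w hw
      have hz : M *ᵥ ((2 : F)⁻¹ • (x - ε • (M *ᵥ x)))
          = -(ε • ((2 : F)⁻¹ • (x - ε • (M *ᵥ x)))) := by
        have e' : M *ᵥ (x - ε • (M *ᵥ x)) = -(ε • (x - ε • (M *ᵥ x))) := by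
          rw [mulVec_sub, mulVec_smul, hMM, smul_sub, smul_smul, hε, one_smul, neg_sub]
        rw [mulVec_smul, e', smul_neg, smul_comm]
      have h1 := hMp ((2 : F)⁻¹ • (x - ε • (M *ᵥ x))) w
      rw [hz, (hU w).mp hw, QuadraticMap.polar_neg_left, QuadraticMap.polar_smul_left,
        QuadraticMap.polar_smul_right, smul_eq_mul, smul_eq_mul, ← mul_assoc, hε, one_mul] at h1
      have h3 : (2 : F) * QuadraticMap.polar Q ((2 : F)⁻¹ • (x - ε • (M *ᵥ x))) w = 0 := by
        linear_combination -h1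
      rcases mul_eq_zero.mp h3 with h | h
      · exact absurd h h2
      · exact h
    · rw [← smul_add]
      have : x + ε • (M *ᵥ x) + (x - ε • (M *ᵥ x)) = (2 : F) • x := by rw [two_smul]; abel
      rw [this, smul_smul, inv_mul_cancel₀ h2, one_smul]
  have hperpM : ∀ u : ι → F, (∀ w ∈ U, QuadraticMap.polar Q u w = 0) →
      M *ᵥ u = (-ε) • u := by
    intro u huU
    have hmem : u + ε • (M *ᵥ u) ∈ U := by
      rw [hU, mulVec_add, mulVec_smul, hMM, smul_add, smul_smul, hε, one_smul, add_comm]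
    have hperp : ∀ w ∈ U, QuadraticMap.polar Q (u + ε • (M *ᵥ u)) w = 0 := by
      intro w hw
      have h1 := hMp u (ε • w)
      rw [mulVec_smul, hεM w hw, QuadraticMap.polar_smul_right, huU w hw, smul_zero] at h1
      rw [QuadraticMap.polar_add_left, QuadraticMap.polar_smul_left, h1, huU w hw, smul_zero,
        add_zero]
    have h0 : u + ε • (M *ᵥ u) = 0 := by
      apply hnd
      intro x
      obtain ⟨y, hy, z, hz, rfl⟩ := hdec x
      rw [QuadraticMap.polar_add_right, hperp y hy, QuadraticMap.polar_comm, hz _ hmem, add_zero]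
    have h1 : ε • (M *ᵥ u) = -u := (eq_neg_of_add_eq_zero_right h0)
    have h3 : M *ᵥ u = ε • (ε • (M *ᵥ u)) := by rw [smul_smul, hε, one_smul]
    rw [h3, h1, smul_neg, neg_smul]
  have hneg : (-ε) * (-ε) = 1 := by rw [neg_mul_neg]; exact hε
  apply lbal_om_h4i_core Q h2 hQ h5 hsurj U hdec hU5 α hodd
  · intro u w huU hwU hu huw
    apply hα
    apply lbal_om_h4i_Phi_fix
    intro x
    rw [← hM, ap_sgT hu huw, ap_sgT hu huw]
    have e1 : QuadraticMap.polar Q (M *ᵥ x) w = ε * QuadraticMap.polar Q x w := by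
      have := hMp x (ε • w)
      rwa [mulVec_smul, hεM w hwU, QuadraticMap.polar_smul_right, smul_eq_mul] at this
    have e2 : QuadraticMap.polar Q (M *ᵥ x) u = ε * QuadraticMap.polar Q x u := by
      have := hMp x (ε • u)
      rwa [mulVec_smul, hεM u huU, QuadraticMap.polar_smul_right, smul_eq_mul] at this
    rw [e1, e2, mulVec_sub, mulVec_sub, mulVec_add, mulVec_smul, mulVec_smul, mulVec_smul,
      (hU u).mp huU, (hU w).mp hwU]
    simp only [smul_smul]
    congr 1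
    · congr 1
      · congr 2
        ring
      · congr 1
        ring
    · congr 1
      ring
  · intro u v hu hv huU hvU
    apply hα
    apply lbal_om_h4i_Phi_fix
    intro x
    rw [← hM, lbal_m_g4_ap_rr, lbal_m_g4_ap_rr]
    rw [lbal_m_g4_refl_comm Q M hMp hneg (hperpM u huU),
      lbal_m_g4_refl_comm Q M hMp hε ((hU v).mp hvU)]

/-- **O3b: (h4) for an isometric involution of determinant `-1`.** -/
theorem lbal_om_h4_inv (hodd : Odd (Fintype.card F))
    (hQ : (QuadraticMap.polarBilin Q).Nondegenerate) (h8 : 8 ≤ Fintype.card ι)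
    (heven : Even (Fintype.card ι)) (hsurj : Function.Surjective (Psi (Q := Q)))
    (g : ↥(Cfsg.Geo.quadSimilarityGroup (F := F) ⇑Q))
    (hg2 : ((g : GL ι F) : Matrix ι ι F) * ((g : GL ι F) : Matrix ι ι F) = 1)
    (hiso : ∀ v, Q (((g : GL ι F) : Matrix ι ι F) *ᵥ v) = Q v)
    (hdet : ((g : GL ι F) : Matrix ι ι F).det = -1)
    (α : MulAut (Cfsg.POmega F ⇑Q)) (hcop : (orderOf α).Coprime 2)
    (hfix : ∀ k : Cfsg.POmega F ⇑Q, Phi ⇑Q g k = k → α k = k) : α = 1 := by
  have h2 := lbal_om_h4i_two_ne_zero hodd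
  obtain ⟨M, hM⟩ : ∃ M : Matrix ι ι F, M = ((g : GL ι F) : Matrix ι ι F) := ⟨_, rfl⟩
  obtain ⟨f, hf⟩ : ∃ f : (ι → F) →ₗ[F] (ι → F), f = Matrix.toLin' M := ⟨_, rfl⟩
  have hfx : ∀ x, f x = M *ᵥ x := by
    intro x
    rw [hf, Matrix.toLin'_apply]
  have hsq : ∀ v, f (f v) = v := by
    intro v
    rw [hfx, hfx, mulVec_mulVec, hM, hg2, one_mulVec]
  obtain ⟨Up, hUpdef⟩ : ∃ Up : Submodule F (ι → F), Up = LinearMap.ker (f - LinearMap.id) :=
    ⟨_, rfl⟩
  obtain ⟨Um, hUmdef⟩ : ∃ Um : Submodule F (ι → F), Um = LinearMap.ker (f + LinearMap.id) :=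
    ⟨_, rfl⟩
  have hUp : ∀ x, x ∈ Up ↔ M *ᵥ x = (1 : F) • x := by
    intro x
    rw [hUpdef, LinearMap.mem_ker, LinearMap.sub_apply, LinearMap.id_apply, sub_eq_zero, hfx,
      one_smul]
  have hUm : ∀ x, x ∈ Um ↔ M *ᵥ x = (-1 : F) • x := by
    intro x
    rw [hUmdef, LinearMap.mem_ker, LinearMap.add_apply, LinearMap.id_apply,
      add_eq_zero_iff_eq_neg, hfx, neg_smul, one_smul]
  have hdetf : LinearMap.det f = -1 := by rw [hf, LinearMap.det_toLin', hM, hdet]
  have hb := lbal_om_h4i_det_invol f hsq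
  rw [← hUmdef, hdetf] at hb
  have hbodd : Odd (finrank F ↥Um) := by
    by_contra h
    rw [Nat.not_odd_iff_even] at h
    rw [h.neg_one_pow] at hb
    apply h2
    have h3 : (2 : F) = 1 - (-1) := by ring
    rw [h3, hb, sub_self]
  have hsum : Fintype.card ι ≤ finrank F ↥Up + finrank F ↥Um := by
    have h1 := LinearMap.finrank_range_add_finrank_ker (f - LinearMap.id)
    have hle : LinearMap.range (f - LinearMap.id) ≤ Um := by
      rintro _ ⟨x, rfl⟩
      rw [hUmdef, LinearMap.mem_ker, LinearMap.add_apply, LinearMap.id_apply,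
        LinearMap.sub_apply, LinearMap.id_apply, map_sub, hsq]
      abel
    have h3 := Submodule.finrank_mono hle
    rw [Module.finrank_fintype_fun_eq_card, ← hUpdef] at h1
    omega
  by_cases h5p : 5 ≤ finrank F ↥Up
  · exact lbal_om_h4i_eigen Q h2 hQ (by omega) hsurj g hg2 hiso (ε := 1) (by ring) Up
      (by rw [← hM]; exact hUp) h5p α hcop hfix
  · have h5m : 5 ≤ finrank F ↥Um := by
      obtain ⟨k, hk⟩ := hbodd
      omega
    exact lbal_om_h4i_eigen Q h2 hQ (by omega) hsurj g hg2 hiso (ε := -1) (by ring) Um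
      (by rw [← hM]; exact hUm) h5m α hcop hfix

end Cfsg.Agent.LBal
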