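import Mathlib
import Cfsg.Agent.Helper8.AutOv

set_option autoImplicit false
set_option linter.unusedSectionVars false

/-!
# LBal (S2733), piece O4b, abstract part (helper7)

Let `(W, Q)` be a nondegenerate quadratic space of dimension at least five over a finite field `K`
and `T : W → W` an additive bijection commuting with every element of the Siegel group `SG Q`.

* `lbal_om_q4_homog`: `T` is `K`-homogeneous (trick T2: the linear family `sgT u (κ • e)` of
  Siegel transformations of a totally singular pair);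
* `lbal_om_q4_scalar`: if moreover `Q (T x) = lam * Q x`, then `T` is a scalar.
-/

namespace Cfsg.Agent.LBal

open Module Cfsg.Agent.Helper8.QuadForm Cfsg.Agent.Helper8.WittQuad Cfsg.Agent.Helper8.OrthOrder
  Cfsg.Agent.Helper8.Siegel Cfsg.Agent.Helper8.SiegelGeom Cfsg.Agent.Helper8.SiegelGroup
  Cfsg.Agent.Helper8.SiegelPrim Cfsg.Agent.Helper8.SiegelSimple Cfsg.Agent.Helper8.AutO

variable {K : Type*} [Field K] [Finite K] {W : Type*} [AddCommGroup W] [Module K W]
  [FiniteDimensional K W] (Q : QuadraticForm K W)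

/-- homogeneity on the singular vectors -/
theorem lbal_om_q4_homog_sing (hQ : Nondeg Q) (h5 : 5 ≤ finrank K W) (T : W → W)
    (hadd : ∀ x y, T (x + y) = T x + T y)
    (hcomm : ∀ (s : ↥(SG Q)) (x : W), T (ap s x) = ap s (T x))
    {u : W} (hu : Q u = 0) (κ : K) : T (κ • u) = κ • T u := by
  have hT0 : T 0 = 0 := by
    have := hadd 0 0
    rw [add_zero] at this
    exact left_eq_add.mp this
  by_cases hu0 : u = 0
  · rw [hu0, smul_zero, hT0, smul_zero]
  obtain ⟨e, f, hue, -, -⟩ := exists_two_ts hQ h5 hu0 hu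
  obtain ⟨x₀, hx₀u, hx₀e⟩ := exists_dual_pair hQ hue.li
  -- the linear family
  have hfam : ∀ μ : K, ∀ x : W, ap (sgT Q u (μ • e)) x
      = x + (μ * QuadraticMap.polar Q x e) • u - (QuadraticMap.polar Q x u * μ) • e := by
    intro μ x
    have huw : QuadraticMap.polar Q u (μ • e) = 0 := by
      rw [QuadraticMap.polar_smul_right, hue.ab, smul_zero]
    rw [ap_sgT hu huw, QuadraticMap.polar_smul_right, QuadraticMap.map_smul, hue.qb, smul_zero,
      zero_mul, zero_smul, sub_zero, smul_eq_mul, smul_smul]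
  -- the value at `x₀`
  have hval : ∀ μ : K, T (μ • u) = μ • (QuadraticMap.polar Q (T x₀) e • u
      - QuadraticMap.polar Q (T x₀) u • e) := by
    intro μ
    have h1 := hcomm (sgT Q u (μ • e)) x₀
    rw [hfam μ x₀, hfam μ (T x₀), hx₀u, hx₀e, mul_one, zero_mul, zero_smul, sub_zero, hadd] at h1
    have h2 : T (μ • u) = (μ * QuadraticMap.polar Q (T x₀) e) • u
        - (QuadraticMap.polar Q (T x₀) u * μ) • e := by
      have h3 : T x₀ + T (μ • u) = T x₀ + ((μ * QuadraticMap.polar Q (T x₀) e) • u
          - (QuadraticMap.polar Q (T x₀) u * μ) • e) := by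
        rw [h1]
        abel
      exact add_left_cancel h3
    rw [h2, smul_sub, smul_smul, smul_smul, mul_comm μ (QuadraticMap.polar Q (T x₀) u)]
  have h1 := hval 1
  rw [one_smul, one_smul] at h1
  rw [hval κ, ← h1]

/-- **T2**: an additive map commuting with the Siegel group is homogeneous. -/
theorem lbal_om_q4_homog (hQ : Nondeg Q) (h5 : 5 ≤ finrank K W) (T : W → W)
    (hadd : ∀ x y, T (x + y) = T x + T y)
    (hcomm : ∀ (s : ↥(SG Q)) (x : W), T (ap s x) = ap s (T x))
    (κ : K) (x : W) : T (κ • x) = κ • T x := by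
  have hT0 : T 0 = 0 := by
    have := hadd 0 0
    rw [add_zero] at this
    exact left_eq_add.mp this
  have hx := top_le_span_singular hQ (by omega) x
  revert κ
  induction hx using Submodule.span_induction with
  | mem u hu =>
    intro κ
    exact lbal_om_q4_homog_sing Q hQ h5 T hadd hcomm hu κ
  | zero =>
    intro κ
    rw [smul_zero, hT0, smul_zero]
  | add a b _ _ iha ihb =>
    intro κ
    rw [smul_add, hadd, hadd, iha, ihb, smul_add]
  | smul μ a _ iha =>
    intro κ
    rw [smul_smul, iha, iha, smul_smul]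

/-- **the commutant of the Siegel group among the similarities consists of scalars.** -/
theorem lbal_om_q4_scalar (hQ : Nondeg Q) (h5 : 5 ≤ finrank K W) (T : W → W)
    (hadd : ∀ x y, T (x + y) = T x + T y) (hbij : Function.Bijective T)
    (hcomm : ∀ (s : ↥(SG Q)) (x : W), T (ap s x) = ap s (T x))
    (lam : K) (hlam : lam ≠ 0) (hsim : ∀ x, Q (T x) = lam * Q x) :
    ∃ e : K, ∀ x, T x = e • x := by
  have hhom := lbal_om_q4_homog Q hQ h5 T hadd hcomm
  have hSS : SemiSim Q T (1 : K ≃+* K) lam :=
    ⟨hlam, hadd, fun c x => by rw [RingAut.one_apply]; exact hhom c x,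
      fun x => by rw [RingAut.one_apply]; exact hsim x, hbij⟩
  -- the linear equivalence
  obtain ⟨L, hL⟩ : ∃ L : W ≃ₗ[K] W, ∀ x, L x = T x := by
    refine ⟨LinearEquiv.ofBijective
      { toFun := T, map_add' := hadd, map_smul' := fun c x => by
          rw [RingHom.id_apply]; exact hhom c x } hbij, fun x => rfl⟩
  have hfix : ∀ u, u ≠ 0 → Q u = 0 → ∃ t : K, L u = t • u := by
    intro u hu0 hu
    have hTu0 : T u ≠ 0 := hSS.ne_zero hu0
    have hTu : Q (T u) = 0 := hSS.sing hu
    have hle : rootSub Q u ≤ rootSub Q (T u) := by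
      intro s hs
      obtain ⟨w, hw, rfl⟩ := (mem_rootSub_iff u s).mp hs
      have hw' : QuadraticMap.polar Q (T u) (lam⁻¹ • T w) = 0 := by
        rw [QuadraticMap.polar_smul_right, hSS.polar, hw, map_zero, mul_zero, smul_zero]
      have heq : sgT Q u w = sgT Q (T u) (lam⁻¹ • T w) := by
        apply ext_ap
        intro y
        obtain ⟨x, rfl⟩ := hbij.2 y
        rw [← hcomm]
        have h1 := hSS.conj_sieg hu hw x
        exact h1
      rw [heq]
      exact sgT_mem_rootSub hw'
    have := mem_span_of_rootSub_le hQ h5 hu0 hu hTu0 hTu hle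
    obtain ⟨t, ht⟩ := Submodule.mem_span_singleton.mp this
    exact ⟨t, by rw [hL, ht]⟩
  obtain ⟨l, hl⟩ := exists_scalar_of_fix Q hQ h5 L hfix
  exact ⟨l, fun x => by rw [← hL, hl]⟩

end Cfsg.Agent.LBal
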