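import Mathlib
import Cfsg.Agent.LBal.NoCore
import Cfsg.Agent.LBal.Abs
import Cfsg.Agent.LBal.AbsB
import Cfsg.Agent.Helper8.AutOzzi
import Cfsg.Agent.Helper8.GrInvI
import Cfsg.Agent.Helper8.CenterCard
import Cfsg.Agent.LBal.MQuadExt
import Cfsg.Agent.LBal.OmH4NsqA

set_option autoImplicit false
set_option linter.unusedSectionVars false
set_option linter.style.haveILetI false
set_option linter.unusedVariables false

/-!
# LBal (S2733), piece O4b (helper7)

`lbal_om_h4_nsq`: let `g` be a similarity of the nondegenerate quadratic form `Q` (dimension `2l`,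
`l ≥ 5`, odd characteristic) with `g² = c` a nonsquare scalar and multiplier `c`.  An automorphism
`α` of `PΩ(Q)` of odd order fixing every fixed point of the automorphism `Phi g` induced by `g` is
trivial.

Route: `α = β²` with `β = PsiM γ₀` fixing the same points (squares kill the sign `±1`), so
`T = gap (γ₀ * γ₀)` commutes EXACTLY with every element of `Ω(Q)` commuting with `g`; among them are
the images of the Siegel group of helper4's `F(√c)`-form `lbal_mq_Q'` (perfect, hence inside `Ω`);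
the abstract part (`OmH4NsqA`) makes `T` an `F(√c)`-scalar `e`; `e² ∈ F` forces `e ∈ F ∪ F·g`, so
`α ∈ {1, Phi g}` and `α = 1` since its order is odd.
-/

namespace Cfsg.Agent.LBal

open Module Matrix Cfsg Cfsg.Agent.Helper8.QuadForm Cfsg.Agent.Helper8.WittQuad
  Cfsg.Agent.Helper8.OrthOrder Cfsg.Agent.Helper8.AutImagePsi Cfsg.Agent.Helper8.AutImageOrth
  Cfsg.Agent.Helper8.StdForms Cfsg.Agent.Helper8.AutImage Cfsg.Agent.Helper8.AutImageKer
  Cfsg.Agent.Helper8.AutO Cfsg.Agent.Helper8.AutSp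
  Cfsg.Agent.Helper8.SiegelGroup Cfsg.Agent.Helper8.SiegelSimple Cfsg.Agent.Helper8.ReflMatrix
  Cfsg.Agent.Helper8.CenterCard

variable {F : Type*} [Field F] [Fintype F]
variable {ι : Type} [Fintype ι] [DecidableEq ι] (Q : QuadraticForm F (ι → F))

/-- an automorphism fixing a point stays so under powers -/
theorem lbal_om_q4_pow_fix {G : Type*} [Group G] (α : MulAut G) (x : G) (h : α x = x) (k : ℕ) :
    (α ^ k) x = x := by
  induction k with
  | zero => rw [pow_zero, MulAut.one_apply]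
  | succ k ih => rw [pow_succ, MulAut.mul_apply, h, ih]

/-- **T1**: if `PsiM γ₀` fixes every fixed point of `Phi g`, then the square of `gap γ₀` commutes
exactly with every element of `Ω(Q)` commuting with `g`. -/
theorem lbal_om_q4_commute (h2 : (2 : F) ≠ 0) (hQ : (QuadraticMap.polarBilin Q).Nondegenerate)
    (h5 : 5 ≤ Fintype.card ι) (g : ↥(Cfsg.Geo.quadSimilarityGroup (F := F) ⇑Q))
    (γ₀ : ↥(GammaO Q))
    (hfix : ∀ k : Cfsg.POmega F ⇑Q, Phi ⇑Q g k = k → PsiM Q hQ h5 γ₀ k = k)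
    (s : ↥(Cfsg.Omega F ⇑Q))
    (hs : ((g : GL ι F) : Matrix ι ι F) * omat Q s = omat Q s * ((g : GL ι F) : Matrix ι ι F))
    (v : ι → F) :
    gap γ₀ (gap γ₀ (omat Q s *ᵥ v)) = omat Q s *ᵥ gap γ₀ (gap γ₀ v) := by
  have hss := semiSim_gap γ₀
  have hPhi : Phi ⇑Q g (QuotientGroup.mk s) = QuotientGroup.mk s := by
    rw [Phi_mk]
    congr 1
    apply Subtype.ext
    apply Subtype.ext
    rw [conjOmega_val]
    have hs' : (g : GL ι F) * ((s : ↥(Cfsg.isometryGroup F ⇑Q)) : GL ι F)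
        = ((s : ↥(Cfsg.isometryGroup F ⇑Q)) : GL ι F) * (g : GL ι F) := by
      apply Units.ext
      rw [Units.val_mul, Units.val_mul]
      exact hs
    rw [hs', mul_inv_cancel_right]
  obtain ⟨s', hs'⟩ := exists_omega_conj Q hQ h5 γ₀ s
  have hmk := PsiM_mk Q hQ h5 γ₀ s s' hs'
  have hk := hfix _ hPhi
  rw [hmk] at hk
  have hz : s'⁻¹ * s ∈ Subgroup.center ↥(Cfsg.Omega F ⇑Q) := QuotientGroup.eq.mp hk
  have hval : (((s'⁻¹ * s : ↥(Cfsg.Omega F ⇑Q)).1 : GL ι F) : Matrix ι ι F)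
      = (((s'.1 : GL ι F)⁻¹ : GL ι F) : Matrix ι ι F) * omat Q s := by
    show (((s'.1 : GL ι F)⁻¹ * (s.1 : GL ι F) : GL ι F) : Matrix ι ι F) = _
    rw [Units.val_mul]
    rfl
  have hinv : omat Q s' * (((s'.1 : GL ι F)⁻¹ : GL ι F) : Matrix ι ι F) = 1 := by
    show ((s'.1 : GL ι F) : Matrix ι ι F) * (((s'.1 : GL ι F)⁻¹ : GL ι F) : Matrix ι ι F) = 1
    rw [← Units.val_mul, mul_inv_cancel, Units.val_one]
  rcases center_cases Q h2 hQ (by omega) (s'⁻¹ * s) hz with h1 | h1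
  · -- `s' = s`
    have he : omat Q s = omat Q s' := by
      rw [hval] at h1
      calc omat Q s = (omat Q s' * (((s'.1 : GL ι F)⁻¹ : GL ι F) : Matrix ι ι F)) * omat Q s := by
            rw [hinv, Matrix.one_mul]
        _ = omat Q s' := by rw [Matrix.mul_assoc, h1, Matrix.mul_one]
    rw [← hs' v, ← he, ← hs' (gap γ₀ v), ← he]
  · -- `s' = - s`
    have he : omat Q s = - omat Q s' := by
      rw [hval] at h1
      calc omat Q s = (omat Q s' * (((s'.1 : GL ι F)⁻¹ : GL ι F) : Matrix ι ι F)) * omat Q s := by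
            rw [hinv, Matrix.one_mul]
        _ = - omat Q s' := by rw [Matrix.mul_assoc, h1, Matrix.mul_neg, Matrix.mul_one]
    have e1 : ∀ w, gap γ₀ (omat Q s *ᵥ w) = -(omat Q s *ᵥ gap γ₀ w) := by
      intro w
      rw [← hs' w, he, Matrix.neg_mulVec, neg_neg]
    rw [e1, hss.map_neg, e1, neg_neg]

section Ext

variable (c : F) [hF : Fact (∀ r : F, r ^ 2 ≠ c + 0 * r)] (gL : (ι → F) →ₗ[F] (ι → F))
  (hsq : ∀ v, gL (gL v) = c • v)
  (hadj : ∀ x y, QuadraticMap.polar Q (gL x) y = QuadraticMap.polar Q x (gL y))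
  (hc0 : c ≠ 0) (h2 : (2 : F) ≠ 0)

/-- the matrix isometry of `Q` attached to an element of the Siegel group of the form over
`F(√c)`. -/
noncomputable def lbal_om_q4_mat :
    ↥(SG (lbal_mq_Q' c gL hsq Q hadj hc0 h2)) →* ↥(Cfsg.isometryGroup F ⇑Q) :=
  (isomEquiv Q).symm.toMonoidHom.comp
    ((lbal_mq_res c gL hsq Q hadj hc0 h2).comp (SG (lbal_mq_Q' c gL hsq Q hadj hc0 h2)).subtype)

theorem lbal_om_q4_mat_mulVec (σ : ↥(SG (lbal_mq_Q' c gL hsq Q hadj hc0 h2))) (v : ι → F) :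
    (((lbal_om_q4_mat Q c gL hsq hadj hc0 h2 σ : ↥(Cfsg.isometryGroup F ⇑Q)) : GL ι F) :
        Matrix ι ι F) *ᵥ v
      = (lbal_mq_of c gL hsq).symm (ap σ (lbal_mq_of c gL hsq v)) := by
  rw [← isomEquiv_apply]
  show ((isomEquiv Q ((isomEquiv Q).symm
    (lbal_mq_res c gL hsq Q hadj hc0 h2 (σ : ↥(Isom (lbal_mq_Q' c gL hsq Q hadj hc0 h2)))))).1 :
      (ι → F) ≃ₗ[F] (ι → F)) v = _
  rw [MulEquiv.apply_symm_apply, lbal_mq_res_apply]
  rfl

theorem lbal_om_q4_mat_mem (hQ' : Nondeg (lbal_mq_Q' c gL hsq Q hadj hc0 h2))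
    (h5' : 5 ≤ finrank (lbal_mq_K c) (lbal_mq_V c gL hsq))
    (σ : ↥(SG (lbal_mq_Q' c gL hsq Q hadj hc0 h2))) :
    lbal_om_q4_mat Q c gL hsq hadj hc0 h2 σ ∈ Cfsg.Omega F ⇑Q := by
  have h1 : σ ∈ commutator ↥(SG (lbal_mq_Q' c gL hsq Q hadj hc0 h2)) := by
    rw [commutator_SG_eq_top _ hQ' h5']
    exact Subgroup.mem_top _
  have hle : (commutator ↥(SG (lbal_mq_Q' c gL hsq Q hadj hc0 h2))).map
      (lbal_om_q4_mat Q c gL hsq hadj hc0 h2) ≤ commutator ↥(Cfsg.isometryGroup F ⇑Q) := by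
    rw [commutator_def, Subgroup.map_commutator, commutator_def]
    exact Subgroup.commutator_mono le_top le_top
  exact hle ⟨σ, h1, rfl⟩

end Ext

/-- **O4b**: an odd-order automorphism of `PΩ(Q)` fixing every fixed point of the automorphism
induced by a similarity `g` with `g² = c` a nonsquare (and multiplier `c`) is trivial. -/
theorem lbal_om_h4_nsq (hodd : Odd (Fintype.card F))
    (hQ : (QuadraticMap.polarBilin Q).Nondegenerate) {l : ℕ} (hl : Odd l) (hl5 : 5 ≤ l)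
    (hcard : Fintype.card ι = 2 * l) (hsurj : Function.Surjective (Psi (Q := Q)))
    (g : ↥(Cfsg.Geo.quadSimilarityGroup (F := F) ⇑Q)) (c : F) (hc : ¬ IsSquare c)
    (hg2 : ((g : GL ι F) : Matrix ι ι F) * ((g : GL ι F) : Matrix ι ι F)
      = c • (1 : Matrix ι ι F))
    (hmult : ∀ v, Q (((g : GL ι F) : Matrix ι ι F) *ᵥ v) = c * Q v)
    (α : MulAut (Cfsg.POmega F ⇑Q)) (hcop : (orderOf α).Coprime 2)
    (hfix : ∀ k : Cfsg.POmega F ⇑Q, Phi ⇑Q g k = k → α k = k) : α = 1 := by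
  classical
  have h2 : (2 : F) ≠ 0 := Cfsg.Agent.Helper8.OmegaStd.two_ne_zero_of_odd hodd
  have h5 : 5 ≤ Fintype.card ι := by omega
  have hnd : Nondeg Q := (nondeg_iff Q).mp hQ
  haveI : Nonempty ι := Fintype.card_pos_iff.mp (by omega)
  haveI : Nontrivial (ι → F) := Function.nontrivial
  obtain ⟨G, hG⟩ : ∃ G : Matrix ι ι F, G = ((g : GL ι F) : Matrix ι ι F) := ⟨_, rfl⟩
  rw [← hG] at hg2 hmult
  obtain ⟨gL, hgL⟩ : ∃ gL : (ι → F) →ₗ[F] (ι → F), ∀ v, gL v = G *ᵥ v :=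
    ⟨Matrix.mulVecLin G, fun v => rfl⟩
  have hsq : ∀ v, gL (gL v) = c • v := by
    intro v
    rw [hgL, hgL, Matrix.mulVec_mulVec, hg2, Matrix.smul_mulVec, Matrix.one_mulVec]
  have hc0 : c ≠ 0 := by
    rintro rfl
    exact hc ⟨0, by rw [mul_zero]⟩
  have hpol : ∀ x y, QuadraticMap.polar Q (gL x) (gL y) = c * QuadraticMap.polar Q x y := by
    intro x y
    unfold QuadraticMap.polar
    rw [← map_add, hgL, hgL, hgL, hmult, hmult, hmult]
    ring
  have hadj : ∀ x y, QuadraticMap.polar Q (gL x) y = QuadraticMap.polar Q x (gL y) := by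
    intro x y
    have h := hpol x (gL y)
    rw [hsq, QuadraticMap.polar_smul_right, smul_eq_mul] at h
    exact mul_left_cancel₀ hc0 h
  haveI hF : Fact (∀ r : F, r ^ 2 ≠ c + 0 * r) := lbal_mq_fact_of_not_isSquare hc
  have hQ' : Nondeg (lbal_mq_Q' c gL hsq Q hadj hc0 h2) :=
    lbal_mq_nondeg c gL hsq Q hadj hc0 h2 hnd
  have hfr : finrank (lbal_mq_K c) (lbal_mq_V c gL hsq) = l := by
    have h1 := lbal_mq_finrank c gL hsq
    rw [Module.finrank_fintype_fun_eq_card, hcard] at h1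
    omega
  have h5' : 5 ≤ finrank (lbal_mq_K c) (lbal_mq_V c gL hsq) := by omega
  -- the square root of `α`
  obtain ⟨m, hm⟩ : Odd (orderOf α) := Nat.Coprime.odd_of_right hcop
  obtain ⟨β, hβ⟩ : ∃ β : MulAut (Cfsg.POmega F ⇑Q), β = α ^ (m + 1) := ⟨_, rfl⟩
  have hββ : β * β = α := by
    rw [hβ, ← pow_add]
    have h1 : m + 1 + (m + 1) = orderOf α + 1 := by omega
    rw [h1, pow_succ, pow_orderOf_eq_one, one_mul]
  have hβfix : ∀ k : Cfsg.POmega F ⇑Q, Phi ⇑Q g k = k → β k = k := by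
    intro k hk
    rw [hβ]
    exact lbal_om_q4_pow_fix α k (hfix k hk) (m + 1)
  obtain ⟨γ₀, hγ₀⟩ := PsiM_surjective Q hQ h5 hsurj β
  have hγfix : ∀ k : Cfsg.POmega F ⇑Q, Phi ⇑Q g k = k → PsiM Q hQ h5 γ₀ k = k := by
    intro k hk
    rw [hγ₀]
    exact hβfix k hk
  have hα : PsiM Q hQ h5 (γ₀ * γ₀) = α := by rw [map_mul, hγ₀, hββ]
  obtain ⟨T, hT⟩ : ∃ T : (ι → F) → (ι → F), ∀ v, T v = gap (γ₀ * γ₀) v := ⟨_, fun v => rfl⟩
  have hTT : ∀ v, T v = gap γ₀ (gap γ₀ v) := fun v => by rw [hT, gap_mul]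
  have hSS : SemiSim Q T (sigmaOf (γ₀ * γ₀)) (lamOf (γ₀ * γ₀)) := by
    have h := semiSim_gap (γ₀ * γ₀)
    have hfun : T = gap (γ₀ * γ₀) := funext hT
    rw [hfun]
    exact h
  obtain ⟨τ, hτ⟩ : ∃ τ : F ≃+* F, τ = sigmaOf (γ₀ * γ₀) := ⟨_, rfl⟩
  obtain ⟨lam, hlam⟩ : ∃ lam : F, lam = lamOf (γ₀ * γ₀) := ⟨_, rfl⟩
  rw [← hτ, ← hlam] at hSS
  -- commutation with the Siegel group of `Q'`
  have hcommM : ∀ (σ : ↥(SG (lbal_mq_Q' c gL hsq Q hadj hc0 h2))) (v : ι → F),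
      T ((lbal_mq_of c gL hsq).symm (ap σ (lbal_mq_of c gL hsq v)))
        = (lbal_mq_of c gL hsq).symm (ap σ (lbal_mq_of c gL hsq (T v))) := by
    intro σ v
    have hmem := lbal_om_q4_mat_mem Q c gL hsq hadj hc0 h2 hQ' h5' σ
    obtain ⟨s, hs⟩ : ∃ s : ↥(Cfsg.Omega F ⇑Q),
        s = ⟨lbal_om_q4_mat Q c gL hsq hadj hc0 h2 σ, hmem⟩ := ⟨_, rfl⟩
    have hmv : ∀ w, omat Q s *ᵥ w
        = (lbal_mq_of c gL hsq).symm (ap σ (lbal_mq_of c gL hsq w)) := by
      intro w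
      rw [hs]
      exact lbal_om_q4_mat_mulVec Q c gL hsq hadj hc0 h2 σ w
    have hsG : ((g : GL ι F) : Matrix ι ι F) * omat Q s
        = omat Q s * ((g : GL ι F) : Matrix ι ι F) := by
      rw [← hG]
      apply matrix_ext
      intro w
      rw [← Matrix.mulVec_mulVec, ← Matrix.mulVec_mulVec, hmv, hmv, ← hgL, ← hgL]
      exact (lbal_mq_res_g c gL hsq Q hadj hc0 h2
        (σ : ↥(Isom (lbal_mq_Q' c gL hsq Q hadj hc0 h2))) w).symm
    have h := lbal_om_q4_commute Q h2 hQ h5 g γ₀ hγfix s hsG v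
    rw [hmv, ← hTT, ← hTT, hmv] at h
    exact h
  -- the transported map
  obtain ⟨T', hT'⟩ : ∃ T' : lbal_mq_V c gL hsq → lbal_mq_V c gL hsq,
      ∀ x, T' x = lbal_mq_of c gL hsq (T ((lbal_mq_of c gL hsq).symm x)) := ⟨_, fun x => rfl⟩
  have hT'of : ∀ v, T' (lbal_mq_of c gL hsq v) = lbal_mq_of c gL hsq (T v) := by
    intro v
    rw [hT', LinearEquiv.symm_apply_apply]
  have hadd' : ∀ x y, T' (x + y) = T' x + T' y := by
    intro x y
    rw [hT', hT', hT', map_add, hSS.add, map_add]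
  have hcomm' : ∀ (σ : ↥(SG (lbal_mq_Q' c gL hsq Q hadj hc0 h2))) (x : lbal_mq_V c gL hsq),
      T' (ap σ x) = ap σ (T' x) := by
    intro σ x
    obtain ⟨v, rfl⟩ := (lbal_mq_of c gL hsq).surjective x
    rw [hT'of, hT', hcommM σ v, LinearEquiv.apply_symm_apply]
  have hbij' : Function.Bijective T' := by
    have hfun : T' = (lbal_mq_of c gL hsq) ∘ T ∘ (lbal_mq_of c gL hsq).symm := funext hT'
    rw [hfun]
    exact (lbal_mq_of c gL hsq).bijective.comp
      (hSS.bij.comp (lbal_mq_of c gL hsq).symm.bijective)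
  have hhom := lbal_om_q4_homog (lbal_mq_Q' c gL hsq Q hadj hc0 h2) hQ' h5' T' hadd' hcomm'
  -- `T` is `F`-linear
  have hτ1 : ∀ t : F, τ t = t := by
    intro t
    obtain ⟨v, hv⟩ := exists_ne (0 : ι → F)
    have h1 := hhom (algebraMap F (lbal_mq_K c) t) (lbal_mq_of c gL hsq v)
    rw [algebraMap_smul, algebraMap_smul, hT'of, ← map_smul, hT'of, ← map_smul, hSS.smul] at h1
    have h3 := (lbal_mq_of c gL hsq).injective h1
    have h4 : (τ t - t) • T v = 0 := by rw [sub_smul, h3, sub_self]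
    rcases smul_eq_zero.mp h4 with h | h
    · exact sub_eq_zero.mp h
    · exact absurd h (hSS.ne_zero hv)
  -- `T` commutes with `g`
  have hTg : ∀ v, T (gL v) = gL (T v) := by
    intro v
    have h1 := hhom (⟨0, 1⟩ : lbal_mq_K c) (lbal_mq_of c gL hsq v)
    rw [lbal_mq_root_smul, hT'of, hT'of, lbal_mq_root_smul] at h1
    exact (lbal_mq_of c gL hsq).injective h1
  have hlam0 : lam ≠ 0 := hSS.lam_ne
  have hQT : ∀ v, Q (T v) = lam * Q v := by
    intro v
    rw [hSS.map_Q, hτ1]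
  have hsim' : ∀ x, lbal_mq_Q' c gL hsq Q hadj hc0 h2 (T' x)
      = algebraMap F (lbal_mq_K c) lam * lbal_mq_Q' c gL hsq Q hadj hc0 h2 x := by
    intro x
    obtain ⟨v, rfl⟩ := (lbal_mq_of c gL hsq).surjective x
    rw [hT'of]
    apply QuadraticAlgebra.ext
    · rw [QuadraticAlgebra.re_mul, QuadraticAlgebra.algebraMap_re, QuadraticAlgebra.algebraMap_im,
        lbal_mq_Q'_re, lbal_mq_Q'_re, hQT]
      ring
    · rw [QuadraticAlgebra.im_mul, QuadraticAlgebra.algebraMap_re, QuadraticAlgebra.algebraMap_im,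
        lbal_mq_Q'_im, lbal_mq_Q'_im, ← hTg, hSS.polar, hτ1]
      ring
  have hlam' : algebraMap F (lbal_mq_K c) lam ≠ 0 := by
    intro h
    have := congrArg QuadraticAlgebra.re h
    rw [QuadraticAlgebra.algebraMap_re] at this
    exact hlam0 this
  obtain ⟨e, he⟩ := lbal_om_q4_scalar (lbal_mq_Q' c gL hsq Q hadj hc0 h2) hQ' h5' T' hadd' hbij'
    hcomm' (algebraMap F (lbal_mq_K c) lam) hlam' hsim'
  have hTe : ∀ v, T v = e.re • v + e.im • gL v := by
    intro v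
    have h1 := he (lbal_mq_of c gL hsq v)
    rw [hT'of, lbal_mq_smul_def] at h1
    exact (lbal_mq_of c gL hsq).injective h1
  have hne : ∃ v, Q v ≠ 0 := by
    obtain ⟨v, hv⟩ := exists_repr Q hnd
      (by rw [Module.finrank_fintype_fun_eq_card]; omega) 1
    exact ⟨v, by rw [hv]; exact one_ne_zero⟩
  have hee : e * e = algebraMap F (lbal_mq_K c) lam := by
    apply lbal_mq_scalar_sq c gL hsq Q hadj hc0 h2 hne e lam
    intro v
    rw [lbal_mq_symm_smul, LinearEquiv.symm_apply_apply, ← hTe, hQT]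
  have him : e.re * e.im = 0 := by
    have h1 := congrArg QuadraticAlgebra.im hee
    rw [QuadraticAlgebra.im_mul, QuadraticAlgebra.algebraMap_im] at h1
    have h3 : (2 : F) * (e.re * e.im) = 0 := by
      linear_combination h1
    rcases mul_eq_zero.mp h3 with h | h
    · exact absurd h h2
    · exact h
  obtain ⟨v₀, hv₀⟩ := exists_ne (0 : ι → F)
  have hPsiS : ∀ u : Fˣ, PsiM Q hQ h5 (scalarGamma (Q := Q) u) = 1 := by
    intro u
    have h1 : scalarGamma (Q := Q) u ∈ (PsiM Q hQ h5).ker := by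
      rw [ker_PsiM]
      exact scalarGamma_le_ker ⟨u, rfl⟩
    exact MonoidHom.mem_ker.mp h1
  rcases mul_eq_zero.mp him with hre | him0
  · -- `e = e.im √c`: `α = Phi g`
    have hTv : ∀ v, T v = e.im • (G *ᵥ v) := by
      intro v
      rw [hTe, hre, zero_smul, zero_add, hgL]
    have him1 : e.im ≠ 0 := by
      intro h
      have h1 := hTv v₀
      rw [h, zero_smul] at h1
      exact hSS.ne_zero hv₀ h1
    have hγ : γ₀ * γ₀ = scalarGamma (Q := Q) (Units.mk0 e.im him1) * simGamma Q g := by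
      apply ext_gap
      intro v
      rw [← hT, hTv, gap_mul, gap_scalarGamma, gap_simGamma, Units.val_mk0, hG]
    have hαg : α = Phi ⇑Q g := by
      rw [← hα, hγ, map_mul, hPsiS, one_mul, PsiM_simGamma]
    have hgg : Phi ⇑Q (g * g) = 1 := by
      rw [Phi_eq_one_iff Q h2 hQ h5]
      refine ⟨c, ?_⟩
      rw [Subgroup.coe_mul, Units.val_mul, ← hG]
      exact hg2
    have hα2 : α ^ 2 = 1 := by
      rw [pow_two, hαg, ← map_mul, hgg]
    have hdvd : orderOf α ∣ 2 := orderOf_dvd_of_pow_eq_one hα2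
    have h1 : orderOf α = 1 := hcop.eq_one_of_dvd hdvd
    exact orderOf_eq_one_iff.mp h1
  · -- `e ∈ F`: `α = 1`
    have hTv : ∀ v, T v = e.re • v := by
      intro v
      rw [hTe, him0, zero_smul, add_zero]
    have hre1 : e.re ≠ 0 := by
      intro h
      have h1 := hTv v₀
      rw [h, zero_smul] at h1
      exact hSS.ne_zero hv₀ h1
    have hγ : γ₀ * γ₀ = scalarGamma (Q := Q) (Units.mk0 e.re hre1) := by
      apply ext_gap
      intro v
      rw [← hT, hTv, gap_scalarGamma, Units.val_mk0]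
    rw [← hα, hγ, hPsiS]

end Cfsg.Agent.LBal
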