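import Mathlib
import Cfsg.Agent.LBal.SimpleCore
import Cfsg.Agent.Helper8.AutOzzd
import Cfsg.Agent.Helper8.AutOzzg
import Cfsg.Agent.Helper8.AutOzzi
import Cfsg.Agent.Helper8.AutOzq
import Cfsg.Agent.Helper8.OmegaSimple
import Cfsg.Agent.S2726
import Cfsg.Agent.S2729

set_option autoImplicit false

/-!
LBal (S2733), piece O2b (= MF3 of the scout): the inner-diagonal group of `PΩ⁻_{2m+2}(F)`, `m ≥ 3`, has no nontrivial
normal `p'`-subgroup for every odd prime `p` dividing its order.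
-/

namespace Cfsg.Agent.LBal

open Cfsg Module Cfsg.Agent.Helper8.StdForms Cfsg.Agent.Helper8.AutO
  Cfsg.Agent.Helper8.OmegaSimple

variable {F : Type*} [Field F] [Fintype F]

/-- the index set of the minus-type form has `2 (m + 1)` elements -/
theorem lbal_m_f3_card_idx (m : ℕ) : Fintype.card ((Fin m ⊕ Fin m) ⊕ Fin 2) = 2 * (m + 1) := by
  simp only [Fintype.card_sum, Fintype.card_fin]; ring

/-- the facts about `PΩ⁻` for a general form `Q'` equal to the minus-type form -/
theorem lbal_m_f3_gen {m : ℕ} (hm : 3 ≤ m) (a b : F)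
    (hab : ∀ z₁ z₂ : F, z₁ ^ 2 + a * z₁ * z₂ + b * z₂ ^ 2 = 0 → z₁ = 0 ∧ z₂ = 0)
    (Q' : ((Fin m ⊕ Fin m) ⊕ Fin 2 → F) → F) (hQ' : Q' = ⇑(minusForm F m a b)) :
    IsSimpleGroup (Cfsg.POmega F Q') ∧
    Function.Injective (MulAut.conj : Cfsg.POmega F Q' →* MulAut (Cfsg.POmega F Q')) ∧
    Cfsg.Inn (Cfsg.POmega F Q') ≤
      Cfsg.autSubgroupOf (fun β : Cfsg.POmega F Q' ≃* Cfsg.POmega F Q' =>
        ∃ g : GL ((Fin m ⊕ Fin m) ⊕ Fin 2) F, g ∈ Cfsg.Geo.quadSimilarityGroup (F := F) Q' ∧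
        Cfsg.PreservesSingularClassesMinus m a b
          (g : Matrix ((Fin m ⊕ Fin m) ⊕ Fin 2) ((Fin m ⊕ Fin m) ⊕ Fin 2) F) ∧
        Cfsg.IsInducedBySemilinearPOmega Q' g (RingEquiv.refl F) β) ∧
    ((2 : F) = 0 →
      Cfsg.autSubgroupOf (fun β : Cfsg.POmega F Q' ≃* Cfsg.POmega F Q' =>
        ∃ g : GL ((Fin m ⊕ Fin m) ⊕ Fin 2) F, g ∈ Cfsg.Geo.quadSimilarityGroup (F := F) Q' ∧
        Cfsg.PreservesSingularClassesMinus m a b
          (g : Matrix ((Fin m ⊕ Fin m) ⊕ Fin 2) ((Fin m ⊕ Fin m) ⊕ Fin 2) F) ∧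
        Cfsg.IsInducedBySemilinearPOmega Q' g (RingEquiv.refl F) β) ≤
      Cfsg.Inn (Cfsg.POmega F Q')) := by
  subst hQ'
  have hne : ∃ v, minusForm F m a b v ≠ 0 := Cfsg.Agent.S2726.minus_ne (by omega) a b
  have hnd := minusForm_nondeg F m hab
  have h5 : 5 ≤ Fintype.card ((Fin m ⊕ Fin m) ⊕ Fin 2) := by
    rw [lbal_m_f3_card_idx]; omega
  refine ⟨isSimpleGroup_POmega (minusForm F m a b) hnd h5,
    conj_injective_POmega (minusForm F m a b) hnd h5, ?_, ?_⟩
  · rw [inndiag_minus_eq_cpAut m a b hab hne]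
    exact Inn_le_cpAut (minusForm F m a b) hnd hne (m + 1) (card_idx_minus m)
  · intro h2
    rw [inndiag_minus_eq_cpAut m a b hab hne]
    have : Nontrivial ((Fin m ⊕ Fin m) ⊕ Fin 2 → F) := by
      obtain ⟨v, hv⟩ := hne
      refine ⟨⟨v, 0, ?_⟩⟩
      intro h
      apply hv
      rw [h, map_zero]
    exact cpAut_le_Inn_of_char_two (minusForm F m a b) hnd hne (m + 1) (card_idx_minus m) h5 h2

/-- a finite group with a surjection onto a group of order `k` whose kernel has order `n`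
has order `k * n` -/
theorem lbal_m_f3_card_of_hom {G C : Type*} [Group G] [Finite G] [Group C] (φ : G →* C)
    (hφ : Function.Surjective φ) : Nat.card G = Nat.card C * Nat.card φ.ker := by
  rw [← Nat.card_congr (QuotientGroup.quotientKerEquivOfSurjective φ hφ).toEquiv]
  exact Subgroup.card_eq_card_quotient_mul_card_subgroup φ.ker

/-- **LBal O2b** -/
theorem lbal_noCore_inndiag_minus {m : ℕ} (hm : 3 ≤ m) (a b : F)
    (hab : ∀ z₁ z₂ : F, z₁ ^ 2 + a * z₁ * z₂ + b * z₂ ^ 2 = 0 → z₁ = 0 ∧ z₂ = 0)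
    {p : ℕ} [Fact p.Prime] (hp2 : p ≠ 2)
    (hp : p ∣ Nat.card ↥(Cfsg.inndiagPOmegaMinus m F a b)) :
    lbal_NoCore p ↥(Cfsg.inndiagPOmegaMinus m F a b) := by
  have hQeq : Cfsg.quadFormMinus m F a b = ⇑(minusForm F m a b) :=
    funext (fun v => (minusForm_apply F m a b v).symm)
  obtain ⟨hsimp, hinj, hle, hge⟩ := lbal_m_f3_gen hm a b hab _ hQeq
  have hle' : Cfsg.Inn (Cfsg.POmega F (Cfsg.quadFormMinus m F a b)) ≤
      Cfsg.inndiagPOmegaMinus m F a b := hle
  have hinn : ∀ k : Cfsg.POmega F (Cfsg.quadFormMinus m F a b),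
      MulAut.conj k ∈ Cfsg.inndiagPOmegaMinus m F a b := fun k => hle' ⟨k, rfl⟩
  have hfin : Finite (Cfsg.POmega F (Cfsg.quadFormMinus m F a b)) := inferInstance
  -- the order of `Inn`
  have hInn : Nat.card ↥((Cfsg.Inn (Cfsg.POmega F (Cfsg.quadFormMinus m F a b))).subgroupOf
      (Cfsg.inndiagPOmegaMinus m F a b)) ∣
      Nat.card (Cfsg.POmega F (Cfsg.quadFormMinus m F a b)) := by
    rw [Nat.card_congr (Subgroup.subgroupOfEquivOfLe hle').toEquiv]
    exact Subgroup.card_range_dvd _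
  have hpodd : ¬ p ∣ 4 := by
    intro h
    have h2 : p ∣ 2 ^ 2 := h
    have h3 := (Fact.out : p.Prime).dvd_of_dvd_pow h2
    exact hp2 ((Nat.prime_dvd_prime_iff_eq Fact.out Nat.prime_two).mp h3)
  -- `p` divides the order of `PΩ⁻`
  have hpK : p ∣ Nat.card (Cfsg.POmega F (Cfsg.quadFormMinus m F a b)) := by
    by_cases h2 : (2 : F) = 0
    · have heq : Cfsg.inndiagPOmegaMinus m F a b =
          Cfsg.Inn (Cfsg.POmega F (Cfsg.quadFormMinus m F a b)) :=
        le_antisymm (hge h2) hle'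
      rw [heq] at hp
      exact dvd_trans hp (Subgroup.card_range_dvd _)
    · have hodd : Odd (Fintype.card F) := by
        by_contra hcon
        rw [Nat.not_odd_iff_even] at hcon
        apply h2
        have h3 : ((Fintype.card F : ℕ) : F) = 0 := Nat.cast_card_eq_zero F
        obtain ⟨q, hpr, n, hq⟩ := FiniteField.card' F
        have hq2 : q = 2 := by
          rw [hq.2] at hcon
          have := (Nat.Prime.even_iff hq.1).mp ((Nat.even_pow.mp hcon).1)
          exact this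
        have : CharP F q := hpr
        subst hq2
        exact_mod_cast CharP.cast_eq_zero F 2
      have hres := Cfsg.Agent.S2729.result hodd hm a b hab
      by_cases hc : Even m ∧ Fintype.card F % 4 = 3
      · obtain ⟨φ, hφs, hφk⟩ := hres.1 hc
        have h1 := lbal_m_f3_card_of_hom φ hφs
        rw [hφk] at h1
        rw [h1] at hp
        rcases (Nat.Prime.dvd_mul Fact.out).mp hp with h | h
        · exfalso
          apply hpodd
          have : Nat.card (Multiplicative (ZMod 4)) = 4 := by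
            rw [Nat.card_eq_fintype_card]; rfl
          rwa [this] at h
        · exact dvd_trans h hInn
      · obtain ⟨φ, hφs, hφk⟩ := hres.2 hc
        have h1 := lbal_m_f3_card_of_hom φ hφs
        rw [hφk] at h1
        rw [h1] at hp
        rcases (Nat.Prime.dvd_mul Fact.out).mp hp with h | h
        · exfalso
          apply hpodd
          have : Nat.card (Multiplicative (ZMod 2)) = 2 := by
            rw [Nat.card_eq_fintype_card]; rfl
          rw [this] at h
          exact dvd_trans h (by norm_num)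
        · exact dvd_trans h hInn
  have hncop : ¬ (Nat.card (Cfsg.POmega F (Cfsg.quadFormMinus m F a b))).Coprime p := by
    intro hc
    have := Nat.Coprime.eq_one_of_dvd hc.symm hpK
    exact (Fact.out : p.Prime).one_lt.ne' this
  exact lbal_noCore_of_simple hinj hncop _ hinn

end Cfsg.Agent.LBal
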