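import Mathlib
import Cfsg.Agent.LBal.PGUCore

set_option autoImplicit false

/-!
`PGU_n(q₀)`, `n ≥ 3`, `(n, q₀) ≠ (3, 2)`, has no nontrivial normal `p'`-subgroup for every prime
`p` dividing the order of `PSU_n(q₀)` (for the unitary member S2687 of the local balance cluster).
-/

namespace Cfsg.Agent.LBal

open Matrix Cfsg Cfsg.Agent.Helper8.AutSU Cfsg.Agent.Helper8.SURoot

variable {F : Type*} [Field F]

theorem lbal_noCore_pgu_gen [Fintype F] {n q₀ : ℕ} (hF : Fintype.card F = q₀ ^ 2)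
    (h3 : 3 ≤ n) (h32 : ¬ (n = 3 ∧ q₀ = 2)) {p : ℕ}
    (hp : ¬ (Nat.card (PSU n F q₀)).Coprime p) : lbal_NoCore p (Cfsg.PGU n F q₀) := by
  obtain ⟨k, rfl⟩ : ∃ k, n = k + 1 + 2 := ⟨n - 3, by omega⟩
  have : Fact (Fintype.card F = q₀ ^ 2) := ⟨hF⟩
  obtain ⟨r, hr⟩ := CharP.exists F
  have := hr
  have : Fact r.Prime := ⟨CharP.char_is_prime F r⟩
  have hk : 1 ≤ k + 1 := by omega
  have : IsSimpleGroup (PSU (k + 1 + 2) F q₀) :=
    Cfsg.Agent.Helper7.SUSimp.isSimpleGroup_PSU (F := F) (q := q₀) (k := k + 1) hk h32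
  have hinn : ∀ x : PSU (k + 1 + 2) F q₀, MulAut.conj x ∈
      (psuConj : GU (k + 1 + 2) F q₀ →* MulAut (PSU (k + 1 + 2) F q₀)).range := by
    intro x
    obtain ⟨s, rfl⟩ := pr_surjective x
    exact ⟨toGU s, psuConj_toGU s⟩
  have hD := lbal_noCore_of_simple (conj_injective (F := F) (q := q₀) r hk) hp
    (psuConj : GU (k + 1 + 2) F q₀ →* MulAut (PSU (k + 1 + 2) F q₀)).range hinn
  have hker : (Geo.scalars (Fin (k + 1 + 2)) F).subgroupOf (GU (k + 1 + 2) F q₀) =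
      (psuConj : GU (k + 1 + 2) F q₀ →* MulAut (PSU (k + 1 + 2) F q₀)).ker := by
    ext g
    rw [Subgroup.mem_subgroupOf, mem_ker_psuConj_iff_scalar r hk]
    constructor
    · rintro ⟨μ, hμ⟩
      exact ⟨μ, hμ.symm⟩
    · rintro ⟨μ, hμ⟩
      exact ⟨μ, hμ.symm⟩
  exact lbal_noCore_congr ((QuotientGroup.quotientMulEquivOfEq hker).trans
    (QuotientGroup.quotientKerEquivRange _)) hD

end Cfsg.Agent.LBal
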