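import Mathlib
import Cfsg.Agent.LBal.PGUCore

set_option autoImplicit false

/-!
LBal [U-div]: a prime dividing the order of `PGU_n(q₀)`, `n ≥ 3`, divides the order of `PSU_n(q₀)`
(`|PGU_n(q₀)| = |SU_n(q₀)| = gcd(n, q₀ + 1) · |PSU_n(q₀)|`, and `(q₀ + 1) ∣ |PSU_n(q₀)|`).
-/

namespace Cfsg.Agent.LBal

open Matrix Cfsg Cfsg.Agent.Helper8.AutSU Cfsg.Agent.Helper8.SURoot

variable {F : Type*} [Field F]

/-- `(q + 1)³` divides the product formula for `|GU_n(q)|` when `n ≥ 3` -/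
theorem lbal_pgu_dvd_prod (q n : ℕ) (h3 : 3 ≤ n) :
    (q + 1) ^ 3 ∣ ∏ i ∈ Finset.range n, (if Even i then q ^ (i + 1) + 1 else q ^ (i + 1) - 1) := by
  have hsub : Finset.range 3 ⊆ Finset.range n := Finset.range_subset_range.mpr h3
  refine dvd_trans ?_ (Finset.prod_dvd_prod_of_subset _ _
    (fun i => if Even i then q ^ (i + 1) + 1 else q ^ (i + 1) - 1) hsub)
  rw [Finset.prod_range_succ, Finset.prod_range_succ, Finset.prod_range_one]
  have e0 : Even 0 := by decide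
  have e1 : ¬ Even 1 := by decide
  have e2 : Even 2 := by decide
  rw [if_pos e0, if_neg e1, if_pos e2]
  have h1 : q + 1 ∣ q ^ (0 + 1) + 1 := by simp
  have h2 : q + 1 ∣ q ^ (1 + 1) - 1 := by
    have : q ^ (1 + 1) - 1 = (q + 1) * (q - 1) := by
      have := Nat.sq_sub_sq q 1
      simpa using this
    rw [this]
    exact Dvd.intro _ rfl
  have h3' : q + 1 ∣ q ^ (2 + 1) + 1 := by
    have := Odd.nat_add_dvd_pow_add_pow q 1 (by decide : Odd 3)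
    simpa using this
  have : (q + 1) ^ 3 = (q + 1) * (q + 1) * (q + 1) := by ring
  rw [this]
  exact mul_dvd_mul (mul_dvd_mul h1 h2) h3'

variable [Fintype F]

/-- the order of `PGU_n(q)` is the order of `SU_n(q)` -/
theorem lbal_pgu_card_eq {k q₀ : ℕ} [hF : Fact (Fintype.card F = q₀ ^ 2)] :
    Nat.card (Cfsg.PGU (k + 1 + 2) F q₀) = Nat.card (SU (k + 1 + 2) F q₀) := by
  obtain ⟨r, hr⟩ := CharP.exists F
  have := hr
  have : Fact r.Prime := ⟨CharP.char_is_prime F r⟩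
  have hk : 1 ≤ k + 1 := by omega
  have hker : (Geo.scalars (Fin (k + 1 + 2)) F).subgroupOf (GU (k + 1 + 2) F q₀) =
      (psuConj : GU (k + 1 + 2) F q₀ →* MulAut (PSU (k + 1 + 2) F q₀)).ker := by
    ext g
    rw [Subgroup.mem_subgroupOf, mem_ker_psuConj_iff_scalar r hk]
    constructor
    · rintro ⟨μ, hμ⟩
      exact ⟨μ, hμ.symm⟩
    · rintro ⟨μ, hμ⟩
      exact ⟨μ, hμ.symm⟩
  rw [← card_quot_ker (F := F) (q := q₀) r hk]
  exact Nat.card_congr (QuotientGroup.quotientMulEquivOfEq hker).toEquiv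

/-- `q + 1` divides the order of `PSU_n(q)` for `n ≥ 3` -/
theorem lbal_pgu_succ_dvd_psu {n q₀ : ℕ} (hF₀ : Fintype.card F = q₀ ^ 2) (h3 : 3 ≤ n) :
    q₀ + 1 ∣ Nat.card (Cfsg.PSU n F q₀) := by
  have : Fact (Fintype.card F = q₀ ^ 2) := ⟨hF₀⟩
  have h1 := Cfsg.Agent.Helper8.GUOrder.card_SU (K := F) (q := q₀) (n := n) hF₀ (by omega)
  have h2 := Cfsg.Agent.Helper8.GUOrder.card_GU (K := F) (q := q₀) hF₀ n
  have h4 := card_SU_eq (F := F) (q := q₀) (N := n) (by omega)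
  -- `(q+1)^3 ∣ |GU|`
  have h5 : (q₀ + 1) ^ 3 ∣ Nat.card (GU n F q₀) := by
    rw [h2]
    exact Dvd.dvd.mul_left (lbal_pgu_dvd_prod q₀ n h3) _
  -- `(q+1)^2 ∣ |SU|`
  have h6 : (q₀ + 1) ^ 2 ∣ Nat.card (SU n F q₀) := by
    rw [← h1] at h5
    have : (q₀ + 1) ^ 3 = (q₀ + 1) * (q₀ + 1) ^ 2 := by ring
    rw [this] at h5
    exact (Nat.mul_dvd_mul_iff_left (Nat.succ_pos q₀)).mp h5
  -- cancel the gcd
  obtain ⟨e, he⟩ := Nat.gcd_dvd_right n (q₀ + 1)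
  have hd : 0 < Nat.gcd n (q₀ + 1) := Nat.gcd_pos_of_pos_right _ (Nat.succ_pos q₀)
  rw [h4] at h6
  have h7 : (q₀ + 1) ^ 2 = Nat.gcd n (q₀ + 1) * (e * (q₀ + 1)) := by
    rw [pow_two]
    nth_rewrite 1 [he]
    ring
  rw [h7] at h6
  have h8 := (Nat.mul_dvd_mul_iff_left hd).mp h6
  exact dvd_trans (Dvd.intro_left e rfl) h8

/-- **LBal [U-div]** -/
theorem lbal_pgu_prime_dvd {n q₀ p : ℕ} (hF₀ : Fintype.card F = q₀ ^ 2) (h3 : 3 ≤ n)
    (hp : p.Prime) (h : p ∣ Nat.card (Cfsg.PGU n F q₀)) : p ∣ Nat.card (Cfsg.PSU n F q₀) := by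
  obtain ⟨k, rfl⟩ : ∃ k, n = k + 1 + 2 := ⟨n - 3, by omega⟩
  have : Fact (Fintype.card F = q₀ ^ 2) := ⟨hF₀⟩
  rw [lbal_pgu_card_eq, card_SU_eq (F := F) (q := q₀) (N := k + 1 + 2) (by omega)] at h
  rcases (Nat.Prime.dvd_mul hp).mp h with h1 | h1
  · exact dvd_trans (dvd_trans h1 (Nat.gcd_dvd_right _ _)) (lbal_pgu_succ_dvd_psu hF₀ h3)
  · exact h1

end Cfsg.Agent.LBal
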