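import Mathlib
import Cfsg.Prelude.Def_LieTypeDatum
import Cfsg.Agent.LBal.NoCore
import Cfsg.Agent.Helper7.SUSimpC
import Cfsg.Agent.Helper8.AutSUzg
import Cfsg.Agent.Helper8.AutSUk
import Cfsg.Agent.Helper8.GUOrder

set_option autoImplicit false
set_option linter.unusedSectionVars false
set_option linter.style.haveILetI false

/-! LBal (S2687) small case (helper7): `PGU_3(2)` has no nontrivial normal subgroup of order
prime to `3`. -/

namespace Cfsg.Agent.LBal

open Matrix Cfsg Cfsg.Agent.Helper7.Herm Cfsg.Agent.Helper7.SUSimp Cfsg.Agent.Helper8.AutSU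
  Cfsg.Agent.Helper8.GUOrder

open scoped Pointwise

variable {F : Type*} [Field F] {q N : ℕ}

theorem lbal_pgs_mg_mulVec_ne_zero (g : GU N F q) {u : Fin N → F} (hu : u ≠ 0) : mg g *ᵥ u ≠ 0 := by
  intro h
  apply hu
  rw [← mg_inv_mulVec' g u, h, Matrix.mulVec_zero]

/-- the action of the general unitary group on the isotropic points -/
noncomputable instance lbal_pgs_guActIPt : MulAction (GU N F q) (IPt N F q) where
  smul g p := ⟨p.1.map (mg g).mulVecLin, by
    obtain ⟨u, hu0, hu, hp⟩ := p.2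
    refine ⟨mg g *ᵥ u, lbal_pgs_mg_mulVec_ne_zero g hu0, by rw [herm_mg, hu], ?_⟩
    rw [hp, Submodule.map_span, Set.image_singleton]
    rfl⟩
  one_smul p := Subtype.ext (by
    show p.1.map (mg (1 : GU N F q)).mulVecLin = p.1
    have : mg (1 : GU N F q) = 1 := rfl
    rw [this, Matrix.mulVecLin_one, Submodule.map_id])
  mul_smul g h p := Subtype.ext (by
    show p.1.map (mg (g * h)).mulVecLin = (p.1.map (mg h).mulVecLin).map (mg g).mulVecLin
    have : mg (g * h) = mg g * mg h := rfl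
    rw [this, Matrix.mulVecLin_mul, Submodule.map_comp])

theorem lbal_pgs_gu_smul_mkPt (g : GU N F q) {u : Fin N → F} (hu0 : u ≠ 0)
    (hu : hermForm N F q u u = 0) :
    g • mkPt u hu0 hu = mkPt (mg g *ᵥ u) (lbal_pgs_mg_mulVec_ne_zero g hu0) (by rw [herm_mg, hu]) := by
  apply Subtype.ext
  show (Submodule.span F {u}).map (mg g).mulVecLin = Submodule.span F {mg g *ᵥ u}
  rw [Submodule.map_span, Set.image_singleton]
  rfl

theorem lbal_pgs_toGU_smul (s : SU N F q) (p : IPt N F q) : (toGU s) • p = s • p := rfl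


section Prim

variable [Fintype F] {k : ℕ} [hF : Fact (Fintype.card F = q ^ 2)]

/-- the identity map of the isotropic points, equivariant along `SU → GU` -/
def lbal_pgs_idEquivariant (N : ℕ) (F : Type*) [Field F] (q : ℕ) :
    IPt N F q →ₑ[(toGU : SU N F q → GU N F q)] IPt N F q where
  toFun p := p
  map_smul' _ _ := rfl

theorem lbal_pgs_isPreprimitive_gu_IPt :
    MulAction.IsPreprimitive (GU (k + 2) F q) (IPt (k + 2) F q) := by
  haveI := isPreprimitive_IPt (F := F) (q := q) (k := k)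
  exact MulAction.IsPreprimitive.of_surjective (f := lbal_pgs_idEquivariant (k + 2) F q)
    (fun p => ⟨p, rfl⟩)

/-- a unitary matrix fixing every isotropic point is scalar -/
theorem lbal_pgs_scalar_of_fix_IPt (g : GU (k + 2) F q)
    (h : ∀ p : IPt (k + 2) F q, g • p = p) :
    (g : GL (Fin (k + 2)) F) ∈ Geo.scalars (Fin (k + 2)) F := by
  have hall : ∀ x : Fin (k + 2) → F, x ≠ 0 → hermForm (k + 2) F q x x = 0 →
      ∃ d : F, mg g *ᵥ x = d • x := by
    intro x hx0 hx
    have h1 := h (mkPt x hx0 hx)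
    rw [lbal_pgs_gu_smul_mkPt, mkPt_eq_iff] at h1
    obtain ⟨t, ht, ht'⟩ := h1
    refine ⟨t⁻¹, ?_⟩
    have h2 : t⁻¹ • x = mg g *ᵥ x := by
      conv_lhs => rw [ht', smul_smul, inv_mul_cancel₀ ht, one_smul]
    exact h2.symm
  obtain ⟨c, hc⟩ := scalar_of_fix_points hall
  have hgc : mg g = c • (1 : Matrix (Fin (k + 2)) (Fin (k + 2)) F) := by
    apply Matrix.toLin'.injective
    apply LinearMap.ext
    intro v
    rw [Matrix.toLin'_apply, hc, map_smul, Matrix.toLin'_one, LinearMap.smul_apply,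
      LinearMap.id_apply]
  have hc0 : c ≠ 0 := by
    intro h0
    have h3 := mg_inv_mulVec' g (Pi.single 0 1)
    rw [hc, h0, zero_smul, Matrix.mulVec_zero] at h3
    have h4 := congrFun h3 0
    rw [Pi.zero_apply, Pi.single_eq_same] at h4
    exact zero_ne_one h4
  rw [Geo.mem_scalars_iff]
  exact ⟨Units.mk0 c hc0, hgc⟩

end Prim

section Count

variable [Fintype F]

/-- the nonzero isotropic vectors -/
abbrev lbal_pgs_IsoVec (N : ℕ) (F : Type*) [Field F] (q : ℕ) : Type _ :=
  {v : Fin N → F // v ≠ 0 ∧ hermForm N F q v v = 0}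

/-- a chosen spanning vector of an isotropic point -/
noncomputable def lbal_pgs_rep (p : IPt N F q) : Fin N → F := Classical.choose p.2

theorem lbal_pgs_rep_ne_zero (p : IPt N F q) : lbal_pgs_rep p ≠ 0 := (Classical.choose_spec p.2).1

theorem lbal_pgs_rep_iso (p : IPt N F q) : hermForm N F q (lbal_pgs_rep p) (lbal_pgs_rep p) = 0 :=
  (Classical.choose_spec p.2).2.1

theorem lbal_pgs_mkPt_rep (p : IPt N F q) :
    mkPt (lbal_pgs_rep p) (lbal_pgs_rep_ne_zero p) (lbal_pgs_rep_iso p) = p :=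
  Subtype.ext (Classical.choose_spec p.2).2.2.symm

theorem lbal_pgs_exists_coeff (v : lbal_pgs_IsoVec N F q) :
    ∃ t : F, t ≠ 0 ∧ v.1 = t • lbal_pgs_rep (mkPt v.1 v.2.1 v.2.2) := by
  have h := lbal_pgs_mkPt_rep (mkPt v.1 v.2.1 v.2.2)
  rw [mkPt_eq_iff] at h
  exact h

/-- the coefficient of an isotropic vector with respect to the chosen vector of its point -/
noncomputable def lbal_pgs_coeff (v : lbal_pgs_IsoVec N F q) : F := Classical.choose (lbal_pgs_exists_coeff v)

theorem lbal_pgs_coeff_ne_zero (v : lbal_pgs_IsoVec N F q) : lbal_pgs_coeff v ≠ 0 :=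
  (Classical.choose_spec (lbal_pgs_exists_coeff v)).1

theorem lbal_pgs_coeff_spec (v : lbal_pgs_IsoVec N F q) :
    v.1 = lbal_pgs_coeff v • lbal_pgs_rep (mkPt v.1 v.2.1 v.2.2) :=
  (Classical.choose_spec (lbal_pgs_exists_coeff v)).2

theorem lbal_pgs_coeff_eq (v : lbal_pgs_IsoVec N F q) (p : IPt N F q) (t : F)
    (hp : mkPt v.1 v.2.1 v.2.2 = p) (hv : v.1 = t • lbal_pgs_rep p) : lbal_pgs_coeff v = t := by
  subst hp
  have h1 := lbal_pgs_coeff_spec v
  have h2 : (t - lbal_pgs_coeff v) • lbal_pgs_rep (mkPt v.1 v.2.1 v.2.2) = 0 := by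
    rw [sub_smul, ← hv, ← h1, sub_self]
  rcases smul_eq_zero.mp h2 with h3 | h3
  · exact (sub_eq_zero.mp h3).symm
  · exact absurd h3 (lbal_pgs_rep_ne_zero _)

theorem lbal_pgs_smul_rep_iso (p : IPt N F q) (t : Fˣ) :
    (t : F) • lbal_pgs_rep p ≠ 0 ∧ hermForm N F q ((t : F) • lbal_pgs_rep p) ((t : F) • lbal_pgs_rep p) = 0 := by
  refine ⟨smul_ne_zero t.ne_zero (lbal_pgs_rep_ne_zero p), ?_⟩
  rw [hermForm_smul_left, hermForm_smul_right, lbal_pgs_rep_iso, mul_zero, mul_zero]

/-- nonzero isotropic vectors = isotropic points × nonzero scalars -/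
noncomputable def lbal_pgs_isoVecEquiv (N : ℕ) (F : Type*) [Field F] [Fintype F] (q : ℕ) :
    lbal_pgs_IsoVec N F q ≃ IPt N F q × Fˣ where
  toFun v := (mkPt v.1 v.2.1 v.2.2, Units.mk0 (lbal_pgs_coeff v) (lbal_pgs_coeff_ne_zero v))
  invFun x := ⟨(x.2 : F) • lbal_pgs_rep x.1, lbal_pgs_smul_rep_iso x.1 x.2⟩
  left_inv v := by
    apply Subtype.ext
    exact (lbal_pgs_coeff_spec v).symm
  right_inv x := by
    obtain ⟨p, t⟩ := x
    have h1 : mkPt ((t : F) • lbal_pgs_rep p) (lbal_pgs_smul_rep_iso p t).1 (lbal_pgs_smul_rep_iso p t).2 = p := by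
      have := mkPt_eq_of_smul (lbal_pgs_rep_ne_zero p) (lbal_pgs_rep_iso p) (lbal_pgs_smul_rep_iso p t).1
        (lbal_pgs_smul_rep_iso p t).2 (t := (t : F)) rfl
      rw [← this, lbal_pgs_mkPt_rep]
    apply Prod.ext
    · exact h1
    · apply Units.ext
      exact lbal_pgs_coeff_eq ⟨(t : F) • lbal_pgs_rep p, lbal_pgs_smul_rep_iso p t⟩ p t h1 rfl


/-- isotropic vectors = nonzero isotropic vectors plus the zero vector -/
noncomputable def lbal_pgs_isoOptionEquiv (N : ℕ) (F : Type*) [Field F] [Fintype F] (q : ℕ) :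
    Option (lbal_pgs_IsoVec N F q) ≃ {v : Fin N → F // hermForm N F q v v = 0} where
  toFun o := Option.elim o ⟨0, by
      unfold hermForm
      simp⟩ (fun v => ⟨v.1, v.2.2⟩)
  invFun w := by
    classical
    exact if h : w.1 = 0 then none else some ⟨w.1, h, w.2⟩
  left_inv o := by
    classical
    cases o with
    | none => simp
    | some v =>
      have : v.1 ≠ 0 := v.2.1
      simp [this]
  right_inv w := by
    classical
    by_cases h : w.1 = 0
    · simp only [h, dite_true, Option.elim_none]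
      exact Subtype.ext h.symm
    · simp [h]

theorem lbal_pgs_card_IPt_three_two (hF : Fintype.card F = 2 ^ 2) : Nat.card (IPt 3 F 2) = 9 := by
  classical
  have hA := (A_closed hF 3).1
  have h28 : A 3 F 2 0 = 28 := by
    have : (2 : ℤ) * (A 3 F 2 0 : ℤ) = 56 := by
      rw [show ((2 : ℕ) : ℤ) = 2 from rfl] at hA
      rw [hA]
      norm_num
    omega
  unfold A at h28
  rw [← Nat.card_congr (lbal_pgs_isoOptionEquiv 3 F 2)] at h28
  have hfin : Finite (lbal_pgs_IsoVec 3 F 2) := inferInstance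
  rw [Finite.card_option] at h28
  have h27 : Nat.card (lbal_pgs_IsoVec 3 F 2) = 27 := by omega
  rw [Nat.card_congr (lbal_pgs_isoVecEquiv 3 F 2), Nat.card_prod] at h27
  have h3 : Nat.card Fˣ = 3 := by
    rw [Nat.card_eq_fintype_card, Fintype.card_units, hF]
    norm_num
  rw [h3] at h27
  omega

end Count


/-- scalar unitary matrices fix every isotropic point -/
theorem lbal_pgs_scalar_smul_IPt (g : GU N F q)
    (hg : (g : GL (Fin N) F) ∈ Geo.scalars (Fin N) F) (p : IPt N F q) : g • p = p := by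
  rw [Geo.mem_scalars_iff] at hg
  obtain ⟨c, hc⟩ := hg
  obtain ⟨u, hu0, hu, rfl⟩ := exists_rep p
  rw [lbal_pgs_gu_smul_mkPt]
  symm
  apply mkPt_eq_of_smul (t := (c : F))
  show mg g *ᵥ u = (c : F) • u
  have : mg g = (c : F) • (1 : Matrix (Fin N) (Fin N) F) := hc
  rw [this, Matrix.smul_mulVec, Matrix.one_mulVec]

/-- **`PGU_3(2)` has no nontrivial normal subgroup of order prime to `3`.** -/
theorem lbal_noCore_pgu_three_two {F : Type*} [Field F] [Fintype F]
    (hF : Fintype.card F = 2 ^ 2) : lbal_NoCore 3 (Cfsg.PGU 3 F 2) := by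
  intro N hN hcop
  haveI : Fact (Fintype.card F = 2 ^ 2) := ⟨hF⟩
  set Z : Subgroup ↥(GU 3 F 2) := (Geo.scalars (Fin 3) F).subgroupOf (GU 3 F 2) with hZ
  set Nt : Subgroup ↥(GU 3 F 2) := N.comap (QuotientGroup.mk' Z) with hNt
  haveI hNtn : Nt.Normal := hN.comap _
  haveI := lbal_pgs_isPreprimitive_gu_IPt (F := F) (q := 2) (k := 1)
  by_cases hfix : MulAction.fixedPoints Nt (IPt 3 F 2) = Set.univ
  · -- `Nt` acts trivially
    rw [Subgroup.eq_bot_iff_forall]
    intro x hx
    obtain ⟨g, rfl⟩ := QuotientGroup.mk'_surjective Z x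
    have hg : g ∈ Nt := hx
    apply (QuotientGroup.eq_one_iff g).mpr
    rw [hZ, Subgroup.mem_subgroupOf]
    apply lbal_pgs_scalar_of_fix_IPt (k := 1)
    intro p
    have hp : p ∈ MulAction.fixedPoints Nt (IPt 3 F 2) := by
      rw [hfix]
      trivial
    exact hp ⟨g, hg⟩
  · -- `Nt` is transitive
    exfalso
    haveI : MulAction.IsPretransitive Nt (IPt 3 F 2) :=
      MulAction.IsQuasiPreprimitive.isPretransitive_of_normal hfix
    have hne : Nonempty (IPt 3 F 2) := by
      have := lbal_pgs_card_IPt_three_two hF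
      by_contra hemp
      rw [not_nonempty_iff] at hemp
      rw [Nat.card_of_isEmpty] at this
      omega
    obtain ⟨p⟩ := hne
    have h1 : (MulAction.stabilizer Nt p).index = 9 := by
      rw [MulAction.index_stabilizer_of_transitive, lbal_pgs_card_IPt_three_two hF]
    have hle : Z.subgroupOf Nt ≤ MulAction.stabilizer Nt p := by
      intro g hg
      rw [Subgroup.mem_subgroupOf, hZ, Subgroup.mem_subgroupOf] at hg
      rw [MulAction.mem_stabilizer_iff]
      exact lbal_pgs_scalar_smul_IPt (g : ↥(GU 3 F 2)) hg p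
    have h2 := Subgroup.index_dvd_of_le hle
    rw [h1] at h2
    have h3 : (Z.subgroupOf Nt).index = Nat.card N := by
      have hker : (QuotientGroup.mk' Z).ker = Z := QuotientGroup.ker_mk' Z
      have := Subgroup.relIndex_ker (K := Nt) (QuotientGroup.mk' Z)
      rw [hker] at this
      rw [← Subgroup.relIndex, this, hNt,
        Subgroup.map_comap_eq_self_of_surjective (QuotientGroup.mk'_surjective Z)]
    rw [h3] at h2
    have h4 : (3 : ℕ) ∣ Nat.card N := dvd_trans (by norm_num) h2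
    have := Nat.Coprime.eq_one_of_dvd hcop.symm h4
    omega

end Cfsg.Agent.LBal
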