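import Mathlib
import Cfsg.Agent.LBal.PGUSmall
import Cfsg.Agent.LBal.PGUDvd

set_option autoImplicit false
set_option linter.unusedSectionVars false
set_option linter.style.haveILetI false

/-! LBal (S2687) small case, arithmetic wrapper (helper7): `|PGU_3(2)| = 216`, so an odd prime
dividing it is `3`. -/

namespace Cfsg.Agent.LBal

open Matrix Cfsg Cfsg.Agent.Helper8.GUOrder

theorem lbal_pgs_card_pgu_three_two {F : Type*} [Field F] [Fintype F]
    (hF : Fintype.card F = 2 ^ 2) : Nat.card (Cfsg.PGU 3 F 2) = 216 := by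
  haveI : Fact (Fintype.card F = 2 ^ 2) := ⟨hF⟩
  have h1 : Nat.card (Cfsg.PGU 3 F 2) = Nat.card (SU 3 F 2) :=
    lbal_pgu_card_eq (F := F) (k := 0) (q₀ := 2)
  have h2 := card_SU (K := F) (q := 2) (n := 3) hF (by norm_num)
  have h3 := card_GU (K := F) (q := 2) hF 3
  have h4 : (∏ i ∈ Finset.range 3,
      (if Even i then 2 ^ (i + 1) + 1 else 2 ^ (i + 1) - 1 : ℕ)) = 81 := by
    decide
  rw [h4] at h3
  rw [h1]
  norm_num at h3
  omega

/-- the `(3, 2)` case in the form needed by the case split of `lbal_noCore_pgu_dvd` -/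
theorem lbal_noCore_pgu_three_two' {F : Type*} [Field F] [Fintype F]
    (hF : Fintype.card F = 2 ^ 2) {p : ℕ} (hp : p.Prime) (hp2 : p ≠ 2)
    (hdvd : p ∣ Nat.card (Cfsg.PGU 3 F 2)) : lbal_NoCore p (Cfsg.PGU 3 F 2) := by
  rw [lbal_pgs_card_pgu_three_two hF] at hdvd
  have h216 : (216 : ℕ) = 2 ^ 3 * 3 ^ 3 := by norm_num
  rw [h216] at hdvd
  have hp3 : p = 3 := by
    rcases (Nat.Prime.dvd_mul hp).mp hdvd with h | h
    · exact absurd ((Nat.prime_dvd_prime_iff_eq hp Nat.prime_two).mp (hp.dvd_of_dvd_pow h)) hp2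
    · exact (Nat.prime_dvd_prime_iff_eq hp Nat.prime_three).mp (hp.dvd_of_dvd_pow h)
  subst hp3
  exact lbal_noCore_pgu_three_two hF

end Cfsg.Agent.LBal
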