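import Mathlib
import Cfsg.Agent.LBal.PGUCoreB
import Cfsg.Agent.LBal.PGUDvd
import Cfsg.Agent.LBal.PGUSmallB

set_option autoImplicit false

/-!
LBal piece Q5 (for S2687): `PGU_n(q₀)`, `n ≥ 3`, has no nontrivial normal `p'`-subgroup for every
prime `p` different from the characteristic that divides its order.
-/

namespace Cfsg.Agent.LBal

open Cfsg

theorem lbal_noCore_pgu_dvd {F₀ : Type*} [Field F₀] [Fintype F₀] {q₀ n : ℕ}
    (hF₀ : Fintype.card F₀ = q₀ ^ 2) (r : ℕ) [Fact r.Prime] [CharP F₀ r] (h3 : 3 ≤ n) {p : ℕ}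
    [Fact p.Prime] (hpr : p ≠ r) (hp : p ∣ Nat.card (Cfsg.PGU n F₀ q₀)) :
    lbal_NoCore p (Cfsg.PGU n F₀ q₀) := by
  have hpp : p.Prime := Fact.out
  by_cases h32 : n = 3 ∧ q₀ = 2
  · obtain ⟨rfl, rfl⟩ := h32
    -- the characteristic is `2`
    have hr2 : r = 2 := by
      have hcard : Fintype.card F₀ = 2 ^ 2 := hF₀
      have h2 : ((2 : ℕ) : F₀) = 0 := by
        obtain ⟨m, hm, hm'⟩ := FiniteField.card F₀ r
        have hrr : r.Prime := Fact.out
        have : r ∣ 2 ^ 2 := by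
          rw [← hcard, hm']
          exact dvd_pow_self r (PNat.ne_zero m)
        have hr2 : r = 2 := (Nat.prime_dvd_prime_iff_eq hrr Nat.prime_two).mp
          (hrr.dvd_of_dvd_pow this)
        subst hr2
        exact CharP.cast_eq_zero F₀ 2
      have hrr : r.Prime := Fact.out
      exact (Nat.prime_dvd_prime_iff_eq hrr Nat.prime_two).mp
        ((CharP.cast_eq_zero_iff F₀ r 2).mp h2)
    exact lbal_noCore_pgu_three_two' hF₀ hpp (by rw [← hr2]; exact hpr) hp
  · have hdvd : p ∣ Nat.card (Cfsg.PSU n F₀ q₀) := lbal_pgu_prime_dvd hF₀ h3 hpp hp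
    apply lbal_noCore_pgu_gen hF₀ h3 h32
    intro hcop
    have := Nat.Coprime.eq_one_of_dvd hcop.symm hdvd
    exact hpp.one_lt.ne' this

end Cfsg.Agent.LBal
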