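import Mathlib
import Cfsg.Agent.Helper8.AutSUzl
import Cfsg.Agent.Helper8.UGrB
import Cfsg.Agent.Helper8.AutSLnGFa

set_option autoImplicit false

/-!
Q1 of the local balance criterion for `PSU_n` (S2687): an automorphism of prime order `p` that is
not inner-diagonal is, for odd `p`, conjugate under the inner-diagonal group to a standard field
automorphism of order `p`, and for `p = 2` an involutory graph automorphism `ugraphAut A` with
`A` symmetric or skew-symmetric (helper8).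
-/

namespace Cfsg.Agent.LBal

open Matrix Cfsg Cfsg.Agent.Helper8.AutSU Cfsg.Agent.Helper8.UGr Cfsg.Agent.Helper8.GrAut

variable {F : Type*} [Field F] [Fintype F] {q k : ℕ} [hF : Fact (Fintype.card F = q ^ 2)]

/-! ### Q1: classification -/

theorem lbal_u_q_pow (r : ℕ) [hr : Fact r.Prime] [CharP F r] : ∃ f : ℕ, q = r ^ f := by
  obtain ⟨m, -, hm⟩ := FiniteField.card F r
  have h1 : q ∣ r ^ (m : ℕ) := by
    rw [← hm, hF.out, pow_two]
    exact dvd_mul_right q q
  obtain ⟨j, -, hj⟩ := (Nat.dvd_prime_pow hr.out).mp h1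
  exact ⟨j, hj⟩

/-- an involution of `F` is the `q`-th power map -/
theorem lbal_u_eq_frobE (r : ℕ) [Fact r.Prime] [CharP F r] (σ : F ≃+* F) (hσ : orderOf σ = 2) :
    σ = frobE F q := by
  obtain ⟨f, hq⟩ := lbal_u_q_pow (F := F) (q := q) r
  have hcard : Fintype.card F = r ^ (2 * f) := by rw [hF.out, hq, ← pow_mul, mul_comm]
  obtain ⟨-, h2⟩ := Cfsg.Agent.Helper8.AutSLn.involution_eq_frob hcard σ hσ
  ext a
  rw [h2, frobE_apply, hq, Nat.mul_div_cancel_left f two_pos]

theorem lbal_u_classify (r : ℕ) [Fact r.Prime] [CharP F r] (hk : 1 ≤ k)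
    (hkq : ¬ (k = 1 ∧ q = 2)) {p : ℕ} [hp : Fact p.Prime] (β : MulAut (PSU (k + 2) F q))
    (hord : orderOf β = p) (hnot : ¬ Cfsg.IsInnerDiagonalAutPSU β) :
    (Odd p ∧ ∃ (h : GU (k + 2) F q) (σ : F ≃+* F), orderOf σ = p ∧
        β = psuConj h * psuField σ * (psuConj h)⁻¹) ∨
    (p = 2 ∧ ∃ A : GU (k + 2) F q, β = ugraphAut A ∧
      (((A : GL (Fin (k + 2)) F) : Matrix (Fin (k + 2)) (Fin (k + 2)) F).transpose =
          ((A : GL (Fin (k + 2)) F) : Matrix (Fin (k + 2)) (Fin (k + 2)) F) ∨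
        ((A : GL (Fin (k + 2)) F) : Matrix (Fin (k + 2)) (Fin (k + 2)) F).transpose =
          -((A : GL (Fin (k + 2)) F) : Matrix (Fin (k + 2)) (Fin (k + 2)) F))) := by
  obtain ⟨g, σ, rfl⟩ := aut_PSU_standard r hk hkq β
  have hσ1 : σ ≠ 1 := by
    rintro rfl
    apply hnot
    rw [map_one, mul_one]
    exact isInnerDiagonal_psuConj g
  have hy : (psuConj g * psuField σ : MulAut (PSU (k + 2) F q)) ^ p = 1 := by
    rw [← hord, pow_orderOf_eq_one]
  have hσp : σ ^ p = 1 := by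
    have h1 := hy
    rw [Cfsg.Agent.Helper8.AutSU.psa_pow] at h1
    exact (Cfsg.Agent.Helper8.AutSU.eq_one_of_psa_eq_one r hk h1).1
  have hσord : orderOf σ = p := orderOf_eq_prime hσp hσ1
  rcases hp.out.eq_two_or_odd' with h2 | hodd
  · right
    subst h2
    refine ⟨rfl, g, ?_, ?_⟩
    · rw [lbal_u_eq_frobE (q := q) r σ hσord]
      rfl
    · rw [lbal_u_eq_frobE (q := q) r σ hσord] at hord
      exact (orderOf_ugraphAut_eq_two_iff r hk g).mp hord
  · left
    refine ⟨hodd, ?_⟩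
    obtain ⟨f, hq⟩ := lbal_u_q_pow (F := F) (q := q) r
    have hx : Cfsg.IsFieldAutClassPSU (psuField σ : MulAut (PSU (k + 2) F q)) :=
      ⟨1, psuField σ, σ, hσ1, by rw [hσord]; exact hodd, isFieldAut_psuField σ, by
        rw [one_mul, inv_one, mul_one]⟩
    have hxr : orderOf (psuField σ : MulAut (PSU (k + 2) F q)) = p := by
      rw [orderOf_injective _ (psuField_injective (F := F) (q := q) r hk) σ, hσord]
    have hδ : (psuConj g : MulAut (PSU (k + 2) F q)) ∈ Cfsg.inndiagPSU (k + 2) F q := by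
      rw [inndiagPSU_eq]
      exact ⟨g, rfl⟩
    obtain ⟨h', hh', e⟩ := (coset_conj_psu r hk hkq f hq _ _ hx hp.out hxr hδ).mp hord
    rw [inndiagPSU_eq] at hh'
    obtain ⟨h, rfl⟩ := hh'
    exact ⟨h, σ, hσord, e⟩

end Cfsg.Agent.LBal
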