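import Mathlib
import Cfsg.Agent.Helper8.UGrB
import Cfsg.Agent.LBal.H4Field

set_option autoImplicit false
set_option linter.unusedSectionVars false

/-!
Piece Q2 of the local balance swarm (S2687): an automorphism of `PSU_n(q)` of order prime to an
odd prime `p` fixing every fixed point of a field automorphism of order `p` is trivial.
-/

namespace Cfsg.Agent.LBal

open Matrix Cfsg Cfsg.Agent.Helper7.Herm Cfsg.Agent.Helper8.GUOrder Cfsg.Agent.Helper8.SURoot
open Cfsg.Agent.Helper8.AutSU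

variable {F : Type*} [Field F] [Fintype F] {q k N : ℕ} [hF : Fact (Fintype.card F = q ^ 2)]

/-- the fixed field of a field automorphism of odd prime order is not inside the fixed field of
the `q`-power map -/
theorem lbal_u_exists_moved (σ : F ≃+* F) {p : ℕ} (hp : p.Prime) (hp2 : p ≠ 2)
    (hσ : orderOf σ = p) : ∃ c : F, σ c = c ∧ c ^ q ≠ c := by
  by_contra hcon
  push Not at hcon
  have h1 : frobE F q ∈ Subgroup.zpowers σ :=
    lbal_mem_zpowers_of_fixes σ (frobE F q) (fun c hc => by rw [frobE_apply]; exact hcon c hc)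
  have h2 : orderOf (frobE F q) ∣ orderOf σ := orderOf_dvd_of_mem_zpowers h1
  rw [Cfsg.Agent.Helper8.UGr.orderOf_frobE, hσ] at h2
  exact hp2 ((Nat.prime_dvd_prime_iff_eq Nat.prime_two hp).mp h2).symm

/-- the trace is onto inside the fixed field -/
theorem lbal_u_trace (σ : F ≃+* F) {c₀ : F} (hc₀ : σ c₀ = c₀) (hne : c₀ ^ q ≠ c₀) (ν : F)
    (hν : σ ν = ν) (hνq : ν ^ q = ν) : ∃ a : F, σ a = a ∧ a + a ^ q = ν := by
  obtain ⟨c₁, hc₁, hd⟩ : ∃ c₁ : F, σ c₁ = c₁ ∧ c₁ + c₁ ^ q ≠ 0 := by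
    by_cases h2 : (1 + 1 : F) = 0
    · refine ⟨c₀, hc₀, fun h => hne ?_⟩
      linear_combination h - c₀ * h2
    · exact ⟨1, map_one σ, by rw [one_pow]; exact h2⟩
  have hdq : (c₁ + c₁ ^ q) ^ q = c₁ + c₁ ^ q := by rw [b_add, bb, add_comm]
  refine ⟨ν * c₁ * (c₁ + c₁ ^ q)⁻¹, ?_, ?_⟩
  · rw [map_mul, map_mul, map_inv₀, map_add, map_pow, hν, hc₁]
  · rw [mul_pow, mul_pow, inv_pow, hdq, hνq]
    field_simp

/-- transvections with rational centre and rational parameter are fixed by the field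
automorphism -/
theorem lbal_u_fix_TU (σ : F ≃+* F) {v : Fin N → F} (hσv : sv σ v = v)
    (hv : hermForm N F q v v = 0) {s : F} (hσs : σ s = s) (hs : s ^ q + s = 0) :
    (psuField σ : MulAut (PSU N F q)) (pr (TU q v s)) = pr (TU q v s) := by
  rw [psuField_pr]
  congr 1
  have h1 := sa_TU (1 : GU N F q) σ hv hs
  have h2 : sa (1 : GU N F q) σ = suField σ := by
    unfold sa
    rw [map_one, one_mul]
  have h3 : sm (1 : GU N F q) σ v = v := by
    unfold sm
    rw [mg_one_mulVec, hσv]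
  rw [h2, h3, hσs] at h1
  exact h1

/-- a semilinear automorphism fixing a transvection fixes its centre -/
theorem lbal_u_par (r : ℕ) [Fact r.Prime] [CharP F r] (hN : 1 ≤ N) (g : GU N F q) (τ : F ≃+* F)
    {v : Fin N → F} (hv0 : v ≠ 0) (hv : hermForm N F q v v = 0) {s : F} (hs0 : s ≠ 0)
    (hs : s ^ q + s = 0)
    (h : (psuConj g * psuField τ : MulAut (PSU N F q)) (pr (TU q v s)) = pr (TU q v s)) :
    ∃ c : F, sm g τ v = c • v := by
  have hv' : hermForm N F q (sm g τ v) (sm g τ v) = 0 := by rw [h_sm, hv, map_zero]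
  have h1 : pr (TU q (sm g τ v) (τ s)) = pr (TU q v s) := by
    rw [← sa_TU g τ hv hs, ← psa_pr]
    exact h
  have h2 : TU q (sm g τ v) (τ s) = TU q v s :=
    eq_of_pr_eq r hN h1 (m₁ := 1) (m₂ := 1)
      (by rw [pow_one]; exact TU_pow_char r hv' (tz_map τ hs))
      (by rw [pow_one]; exact TU_pow_char r hv hs)
  obtain ⟨x, hx⟩ := exists_herm_eq_one (q := q) hv0
  have h4 : mt (TU q (sm g τ v) (τ s)) *ᵥ x = mt (TU q v s) *ᵥ x := by rw [h2]
  rw [TU_mulVec hv' (tz_map τ hs), TU_mulVec hv hs, hx, mul_one] at h4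
  have h5 : (τ s * hermForm N F q x (sm g τ v)) • sm g τ v = s • v := add_left_cancel h4
  have hc0 : τ s * hermForm N F q x (sm g τ v) ≠ 0 := by
    intro h0
    rw [h0, zero_smul] at h5
    exact smul_ne_zero hs0 hv0 h5.symm
  refine ⟨(τ s * hermForm N F q x (sm g τ v))⁻¹ * s, ?_⟩
  rw [← smul_smul, ← h5, smul_smul, inv_mul_cancel₀ hc0, one_smul]

/-- vectors supported on the first three coordinates -/
def lbal_u_vec3 (hk : 1 ≤ k) (x y z : F) : Fin (k + 2) → F :=
  Fin.cons x (Fin.cons y (Pi.single (⟨0, hk⟩ : Fin k) z))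

omit [Fintype F] hF in
theorem lbal_u_h_vec3 (hk : 1 ≤ k) (x y z x' y' z' : F) :
    hermForm (k + 2) F q (lbal_u_vec3 hk x y z) (lbal_u_vec3 hk x' y' z') =
      x * x' ^ q + y * y' ^ q + z * z' ^ q := by
  unfold lbal_u_vec3
  rw [h_cons2]
  congr 1
  unfold hermForm
  rw [Finset.sum_eq_single (⟨0, hk⟩ : Fin k)]
  · rw [Pi.single_eq_same, Pi.single_eq_same]
  · intro j _ hj
    rw [Pi.single_eq_of_ne hj, zero_mul]
  · intro h
    exact absurd (Finset.mem_univ _) h

omit [Fintype F] hF in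
theorem lbal_u_sv_vec3 (σ : F ≃+* F) (hk : 1 ≤ k) (x y z : F) :
    sv σ (lbal_u_vec3 hk x y z) = lbal_u_vec3 hk (σ x) (σ y) (σ z) := by
  ext i
  unfold sv lbal_u_vec3
  refine Fin.cases ?_ (fun i => ?_) i
  · simp
  · refine Fin.cases ?_ (fun i => ?_) i
    · simp
    · simp only [Fin.cons_succ]
      rw [Pi.single_apply, Pi.single_apply, apply_ite σ, map_zero]

/-- the geometric core: a semilinear map fixing all rational isotropic points has field part
trivial on the fixed field and scalar linear part -/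
theorem lbal_u_core (σ τ : F ≃+* F) (g : GU N F q)
    (hT : ∀ ν : F, σ ν = ν → ν ^ q = ν → ∃ a : F, σ a = a ∧ a + a ^ q = ν)
    {t₀ : F} (ht₀σ : σ t₀ = t₀) (ht₀0 : t₀ ≠ 0) (ht₀ : t₀ ^ q + t₀ = 0)
    (H : ∀ v : Fin N → F, sv σ v = v → v ≠ 0 → hermForm N F q v v = 0 →
      ∃ c : F, sm g τ v = c • v)
    {e y w₀ : Fin N → F} (heσ : sv σ e = e) (hyσ : sv σ y = y) (hwσ : sv σ w₀ = w₀)
    (hee : hermForm N F q e e = 0) (hyy : hermForm N F q y y = 0)
    (hey : hermForm N F q e y = 1) (hw0 : w₀ ≠ 0) (hwe : hermForm N F q w₀ e = 0)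
    (hwy : hermForm N F q w₀ y = 0) :
    (∀ β : F, σ β = β → τ β = β) ∧ ∃ c : F, ∀ v : Fin N → F, mg g *ᵥ v = c • v := by
  have hye : hermForm N F q y e = 1 := h_eq_one_of_swap hey
  have he0 : e ≠ 0 := by
    rintro rfl
    rw [hermForm_zero_left] at hey
    exact zero_ne_one hey
  have hy0 : y ≠ 0 := by
    rintro rfl
    rw [hermForm_zero_left] at hye
    exact zero_ne_one hye
  obtain ⟨ce, hce⟩ := H e heσ he0 hee
  obtain ⟨cy, hcy⟩ := H y hyσ hy0 hyy
  have hcc : cy * ce ^ q = 1 := by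
    have h1 := h_sm g τ y e
    rw [hcy, hce, hye, map_one, hermForm_smul_left, hermForm_smul_right, hye, mul_one] at h1
    exact h1
  have hce0 : ce ^ q ≠ 0 := by
    intro h0
    rw [h0, mul_zero] at hcc
    exact zero_ne_one hcc
  have hcy0 : cy ≠ 0 := by
    intro h0
    rw [h0, zero_mul] at hcc
    exact zero_ne_one hcc
  have G : ∀ w : Fin N → F, sv σ w = w → hermForm N F q w e = 0 → hermForm N F q w y = 0 →
      ∀ β γ : F, σ β = β → σ γ = γ → γ + γ ^ q + β * β ^ q * hermForm N F q w w = 0 →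
      τ β • sm g τ w = (cy * β) • w + (cy * γ - τ γ * ce) • e := by
    intro w hwσ' hwe' hwy' β γ hβ hγ hiso
    have hew : hermForm N F q e w = 0 := h_eq_zero_of_swap hwe'
    have hyw : hermForm N F q y w = 0 := h_eq_zero_of_swap hwy'
    obtain ⟨u, hu⟩ : ∃ u : Fin N → F, u = y + β • w + γ • e := ⟨_, rfl⟩
    have huσ : sv σ u = u := by
      rw [hu, sv_add, sv_add, sv_smul, sv_smul, hyσ, hwσ', heσ, hβ, hγ]
    have hue : hermForm N F q u e = 1 := by
      rw [hu, hermForm_add_left, hermForm_add_left, hermForm_smul_left, hermForm_smul_left, hye,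
        hwe', hee]
      ring
    have huu : hermForm N F q u u = 0 := by
      rw [hu]
      simp only [hermForm_add_left, h_add_right, hermForm_smul_left, hermForm_smul_right, hyy,
        hyw, hye, hwy', hwe', hey, hew, hee]
      linear_combination hiso
    have hu0 : u ≠ 0 := by
      intro h0
      rw [h0, hermForm_zero_left] at hue
      exact zero_ne_one hue
    obtain ⟨cu, hcu⟩ := H u huσ hu0 huu
    have hcu' : cu = cy := by
      have h1 := h_sm g τ u e
      rw [hcu, hce, hue, map_one, hermForm_smul_left, hermForm_smul_right, hue, mul_one] at h1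
      have : cu * ce ^ q = cy * ce ^ q := by rw [h1, hcc]
      exact mul_right_cancel₀ hce0 this
    have h2 : sm g τ u = cy • y + τ β • sm g τ w + τ γ • (ce • e) := by
      rw [hu, sm_add, sm_add, sm_smul, sm_smul, hcy, hce]
    rw [hcu, hcu', hu] at h2
    have h3 : τ β • sm g τ w = cy • (y + β • w + γ • e) - cy • y - τ γ • (ce • e) := by
      rw [h2]
      abel
    rw [h3]
    module
  have hW : ∀ w : Fin N → F, sv σ w = w → hermForm N F q w e = 0 → hermForm N F q w y = 0 →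
      sm g τ w = cy • w := by
    intro w hwσ' hwe' hwy'
    have hνσ : σ (-(hermForm N F q w w)) = -(hermForm N F q w w) := by
      rw [map_neg, ← h_sv, hwσ']
    have hνq : (-(hermForm N F q w w)) ^ q = -(hermForm N F q w w) := by
      rw [b_neg, ← h_swap]
    obtain ⟨γ, hγσ, hγ⟩ := hT _ hνσ hνq
    have h1 := G w hwσ' hwe' hwy' 1 γ (map_one σ) hγσ
      (by rw [one_pow, one_mul, one_mul]; linear_combination hγ)
    rw [map_one, one_smul, mul_one] at h1
    have h2 := h_sm g τ w y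
    rw [h1, hcy, hwy', map_zero, hermForm_add_left, hermForm_smul_left, hermForm_smul_left,
      hermForm_smul_right, hermForm_smul_right, hwy', hey] at h2
    have h3 : cy * γ - τ γ * ce = 0 := by
      have hcyq : cy ^ q ≠ 0 := pow_ne_zero q hcy0
      have : (cy * γ - τ γ * ce) * cy ^ q = 0 := by linear_combination h2
      exact (mul_eq_zero.mp this).resolve_right hcyq
    rw [h1, h3, zero_smul, add_zero]
  have hτ : ∀ β : F, σ β = β → τ β = β := by
    intro β hβ
    have hνσ : σ (-(β * β ^ q * hermForm N F q w₀ w₀)) =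
        -(β * β ^ q * hermForm N F q w₀ w₀) := by
      rw [map_neg, map_mul, map_mul, map_pow, hβ, ← h_sv, hwσ]
    have hνq : (-(β * β ^ q * hermForm N F q w₀ w₀)) ^ q =
        -(β * β ^ q * hermForm N F q w₀ w₀) := by
      rw [b_neg, mul_pow, mul_pow, bb, ← h_swap, mul_comm (β ^ q) β]
    obtain ⟨γ, hγσ, hγ⟩ := hT _ hνσ hνq
    have h1 := G w₀ hwσ hwe hwy β γ hβ hγσ (by linear_combination hγ)
    rw [hW w₀ hwσ hwe hwy] at h1
    have h2 := congrArg (fun v => hermForm N F q v y) h1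
    simp only [hermForm_add_left, hermForm_smul_left, hwy, hey, mul_zero, zero_add, mul_one]
      at h2
    have hδ : cy * γ - τ γ * ce = 0 := by linear_combination -h2
    rw [hδ, zero_smul, add_zero] at h1
    have h3 : (τ β * cy - cy * β) • w₀ = 0 := by
      rw [sub_smul, mul_smul, h1, sub_self]
    have h4 := (smul_eq_zero.mp h3).resolve_right hw0
    have h5 : cy * (τ β - β) = 0 := by linear_combination h4
    exact sub_eq_zero.mp ((mul_eq_zero.mp h5).resolve_left hcy0)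
  have hcecy : ce = cy := by
    have h1 := G w₀ hwσ hwe hwy 0 t₀ (map_zero σ) ht₀σ
      (by rw [zero_mul, zero_mul, add_zero, add_comm]; exact ht₀)
    rw [map_zero, zero_smul, mul_zero, zero_smul, zero_add, hτ t₀ ht₀σ] at h1
    have h2 := (smul_eq_zero.mp h1.symm).resolve_right he0
    have h3 : t₀ * (cy - ce) = 0 := by linear_combination h2
    have h4 := (mul_eq_zero.mp h3).resolve_left ht₀0
    exact (sub_eq_zero.mp h4).symm
  have hrat : ∀ v : Fin N → F, sv σ v = v → mg g *ᵥ v = cy • v := by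
    intro v hvσ
    have hτv : sv τ v = v := by
      ext i
      exact hτ _ (congrFun hvσ i)
    have hsm : sm g τ v = mg g *ᵥ v := by
      unfold sm
      rw [hτv]
    obtain ⟨a, ha⟩ : ∃ a : F, a = hermForm N F q v y := ⟨_, rfl⟩
    obtain ⟨b, hb⟩ : ∃ b : F, b = hermForm N F q v e := ⟨_, rfl⟩
    have haσ : σ a = a := by rw [ha, ← h_sv, hvσ, hyσ]
    have hbσ : σ b = b := by rw [hb, ← h_sv, hvσ, heσ]
    obtain ⟨w, hw⟩ : ∃ w : Fin N → F, w = v + (-a) • e + (-b) • y := ⟨_, rfl⟩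
    have hwσ' : sv σ w = w := by
      rw [hw, sv_add, sv_add, sv_smul, sv_smul, map_neg, map_neg, haσ, hbσ, hvσ, heσ, hyσ]
    have hwe' : hermForm N F q w e = 0 := by
      rw [hw, hermForm_add_left, hermForm_add_left, hermForm_smul_left, hermForm_smul_left, hee,
        hye, ← hb]
      ring
    have hwy' : hermForm N F q w y = 0 := by
      rw [hw, hermForm_add_left, hermForm_add_left, hermForm_smul_left, hermForm_smul_left, hey,
        hyy, ← ha]
      ring
    have h1 := hW w hwσ' hwe' hwy'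
    have hv : v = w + a • e + b • y := by
      rw [hw]
      module
    rw [← hsm]
    conv_lhs => rw [hv]
    rw [sm_add, sm_add, sm_smul, sm_smul, h1, hce, hcy, hτ a haσ, hτ b hbσ, hcecy]
    conv_rhs => rw [hv]
    module
  refine ⟨hτ, cy, fun v => ?_⟩
  have hM : mg g = cy • (1 : Matrix (Fin N) (Fin N) F) := by
    ext i j
    have hs : sv σ (Pi.single j (1 : F)) = Pi.single j 1 := by
      ext l
      unfold sv
      rw [Pi.single_apply]
      split_ifs <;> simp
    have h1 := congrFun (hrat _ hs) i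
    rw [mulVec_single_one] at h1
    simpa [Matrix.one_apply, Pi.single_apply, eq_comm] using h1
  rw [hM, smul_mulVec, one_mulVec]

omit [Fintype F] hF in
/-- `-1` is a sum of two squares in the prime field -/
theorem lbal_u_sq_add_sq (r : ℕ) [Fact r.Prime] [CharP F r] :
    ∃ a b : ℕ, (a : F) ^ 2 + (b : F) ^ 2 + 1 = 0 := by
  obtain ⟨a, b, hab⟩ := ZMod.sq_add_sq r (-1 : ZMod r)
  refine ⟨a.val, b.val, ?_⟩
  have h1 : ((a.val ^ 2 + b.val ^ 2 + 1 : ℕ) : ZMod r) = 0 := by
    push_cast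
    rw [ZMod.natCast_zmod_val, ZMod.natCast_zmod_val, hab]
    ring
  have h2 : ((a.val ^ 2 + b.val ^ 2 + 1 : ℕ) : F) = 0 := by
    rw [CharP.cast_eq_zero_iff F r]
    exact (ZMod.natCast_eq_zero_iff _ _).mp h1
  exact_mod_cast h2

theorem lbal_u_natCast_pow (n : ℕ) : (n : F) ^ q = n := by
  have h := map_natCast (frobE F q) n
  rwa [frobE_apply] at h

/-- a rational hyperbolic pair and a rational vector orthogonal to it -/
theorem lbal_u_exists_triple (r : ℕ) [Fact r.Prime] [CharP F r] (hk : 1 ≤ k) (σ : F ≃+* F)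
    (hT : ∀ ν : F, σ ν = ν → ν ^ q = ν → ∃ a : F, σ a = a ∧ a + a ^ q = ν) :
    ∃ e y w₀ : Fin (k + 2) → F, sv σ e = e ∧ sv σ y = y ∧ sv σ w₀ = w₀ ∧
      hermForm (k + 2) F q e e = 0 ∧ hermForm (k + 2) F q y y = 0 ∧
      hermForm (k + 2) F q e y = 1 ∧ w₀ ≠ 0 ∧ hermForm (k + 2) F q w₀ e = 0 ∧
      hermForm (k + 2) F q w₀ y = 0 := by
  obtain ⟨a, b, hab⟩ := lbal_u_sq_add_sq (F := F) r
  have haq : (a : F) ^ q = a := lbal_u_natCast_pow a
  have hbq : (b : F) ^ q = b := lbal_u_natCast_pow b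
  obtain ⟨a₁, ha₁σ, ha₁⟩ := hT (-1) (by rw [map_neg, map_one]) (by rw [b_neg, b_one])
  refine ⟨lbal_u_vec3 hk a b 1, lbal_u_vec3 hk (a₁ * a) (a₁ * b) (1 + a₁),
    lbal_u_vec3 hk b (-a) 0, ?_, ?_, ?_, ?_, ?_, ?_, ?_, ?_, ?_⟩
  · rw [lbal_u_sv_vec3, map_natCast, map_natCast, map_one]
  · rw [lbal_u_sv_vec3, map_mul, map_mul, map_add, map_natCast, map_natCast, map_one, ha₁σ]
  · rw [lbal_u_sv_vec3, map_neg, map_natCast, map_natCast, map_zero]
  · rw [lbal_u_h_vec3, haq, hbq, one_pow]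
    linear_combination hab
  · rw [lbal_u_h_vec3, mul_pow, mul_pow, haq, hbq, b_add, b_one]
    linear_combination (a₁ * a₁ ^ q) * hab + ha₁
  · rw [lbal_u_h_vec3, mul_pow, mul_pow, haq, hbq, b_add, b_one]
    linear_combination (a₁ ^ q) * hab
  · intro h0
    have h1 := congrFun h0 0
    have h2 := congrFun h0 (Fin.succ 0)
    unfold lbal_u_vec3 at h1 h2
    rw [Fin.cons_zero, Pi.zero_apply] at h1
    rw [Fin.cons_succ, Fin.cons_zero, Pi.zero_apply, neg_eq_zero] at h2
    rw [h1, h2] at hab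
    norm_num at hab
  · rw [lbal_u_h_vec3, haq, hbq, one_pow]
    ring
  · rw [lbal_u_h_vec3, mul_pow, mul_pow, haq, hbq]
    ring

/-- **Q2**: an automorphism of order prime to the odd prime `p` fixing the fixed points of a field
automorphism of order `p` is trivial. -/
theorem lbal_u_h4_field (r : ℕ) [Fact r.Prime] [CharP F r] (hk : 1 ≤ k)
    (hkq : ¬ (k = 1 ∧ q = 2)) (σ : F ≃+* F) {p : ℕ} [Fact p.Prime] (hp2 : p ≠ 2)
    (hσ : orderOf σ = p) (α : MulAut (PSU (k + 2) F q)) (hcop : (orderOf α).Coprime p)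
    (hfix : ∀ x : PSU (k + 2) F q,
      (psuField σ : MulAut (PSU (k + 2) F q)) x = x → α x = x) : α = 1 := by
  obtain ⟨g, τ, rfl⟩ := aut_PSU_standard r hk hkq α
  obtain ⟨c₀, hc₀, hne⟩ := lbal_u_exists_moved (q := q) σ (Fact.out : p.Prime) hp2 hσ
  have hT := lbal_u_trace (q := q) σ hc₀ hne
  have ht₀σ : σ (c₀ - c₀ ^ q) = c₀ - c₀ ^ q := by rw [map_sub, map_pow, hc₀]
  have ht₀0 : c₀ - c₀ ^ q ≠ 0 := fun h => hne (sub_eq_zero.mp h).symm
  have ht₀ : (c₀ - c₀ ^ q) ^ q + (c₀ - c₀ ^ q) = 0 := by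
    rw [b_sub, bb]
    ring
  have H : ∀ v : Fin (k + 2) → F, sv σ v = v → v ≠ 0 → hermForm (k + 2) F q v v = 0 →
      ∃ c : F, sm g τ v = c • v := fun v hσv hv0 hv =>
    lbal_u_par r (by omega) g τ hv0 hv ht₀0 ht₀ (hfix _ (lbal_u_fix_TU σ hσv hv ht₀σ ht₀))
  obtain ⟨e, y, w₀, heσ, hyσ, hwσ, hee, hyy, hey, hw0, hwe, hwy⟩ :=
    lbal_u_exists_triple r hk σ hT
  obtain ⟨hτ, c, hc⟩ := lbal_u_core σ τ g hT ht₀σ ht₀0 ht₀ H heσ hyσ hwσ hee hyy hey hw0 hwe hwy
  have hg1 : (psuConj g : MulAut (PSU (k + 2) F q)) = 1 := psuConj_eq_one_of_scalar hc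
  obtain ⟨j, hj⟩ := Subgroup.mem_zpowers_iff.mp (lbal_mem_zpowers_of_fixes σ τ hτ)
  have hpow : (psuConj g * psuField τ : MulAut (PSU (k + 2) F q)) ^ p = 1 := by
    rw [hg1, one_mul, ← hj, map_zpow, ← zpow_natCast, ← _root_.zpow_mul, mul_comm,
      _root_.zpow_mul, zpow_natCast, ← map_pow, ← hσ, pow_orderOf_eq_one, map_one,
      _root_.one_zpow]
  have hdvd : orderOf (psuConj g * psuField τ : MulAut (PSU (k + 2) F q)) ∣ p :=
    orderOf_dvd_of_pow_eq_one hpow
  have h1 : orderOf (psuConj g * psuField τ : MulAut (PSU (k + 2) F q)) = 1 :=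
    Nat.Coprime.eq_one_of_dvd hcop hdvd
  exact orderOf_eq_one_iff.mp h1

end Cfsg.Agent.LBal
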