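import Mathlib
import Cfsg.Agent.LBal.H4OrthC

set_option autoImplicit false

/-!
Piece Q4 of the local balance swarm (S2687), part A: the core lemma of `H4OrthB/C` relative to a
subfield: a semilinear map `(G, T)` commuting with the involutions `ρ_x ρ_u` of a diagonal
symmetric form for all vectors `x ⊥ u` with coordinates in a subfield `K₀` fixes `K₀` pointwise
and is a scalar.  (Adapted from helper1's `lbal_orth_core`.)
-/

namespace Cfsg.Agent.LBal

open Matrix

variable {F : Type*} [Field F] {n : ℕ}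

/-- the hypothesis of the relative core lemma -/
def lbal_u4_Hyp (K₀ : Subfield F) (d : Fin n → F) (G : Matrix (Fin n) (Fin n) F)
    (T : F ≃+* F) : Prop :=
  ∀ (x u : Fin n → F) (hx : lbal_bd d x x ≠ 0) (hu : lbal_bd d u u ≠ 0),
    (∀ a, x a ∈ K₀) → (∀ a, u a ∈ K₀) → lbal_bd d x u = 0 →
    G * (lbal_J d x u hx hu : Matrix (Fin n) (Fin n) F).map T =
      (lbal_J d x u hx hu : Matrix (Fin n) (Fin n) F) * G

theorem lbal_u4_single_mem (K₀ : Subfield F) (i : Fin n) {c : F} (hc : c ∈ K₀) (a : Fin n) :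
    (Pi.single i c : Fin n → F) a ∈ K₀ := by
  by_cases h : a = i
  · rw [h, Pi.single_eq_same]
    exact hc
  · rw [Pi.single_eq_of_ne h]
    exact K₀.zero_mem

theorem lbal_u4_add_mem (K₀ : Subfield F) {x y : Fin n → F} (hx : ∀ a, x a ∈ K₀)
    (hy : ∀ a, y a ∈ K₀) (a : Fin n) : (x + y) a ∈ K₀ := by
  rw [Pi.add_apply]
  exact K₀.add_mem (hx a) (hy a)

theorem lbal_u4_bd_mem (K₀ : Subfield F) {d x y : Fin n → F} (hd : ∀ a, d a ∈ K₀)
    (hx : ∀ a, x a ∈ K₀) (hy : ∀ a, y a ∈ K₀) : lbal_bd d x y ∈ K₀ := by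
  unfold lbal_bd
  exact K₀.sum_mem fun a _ => K₀.mul_mem (K₀.mul_mem (hx a) (hd a)) (hy a)

theorem lbal_u4_two_mem (K₀ : Subfield F) : (2 : F) ∈ K₀ := by
  have : (2 : F) = 1 + 1 := by norm_num
  rw [this]
  exact K₀.add_mem K₀.one_mem K₀.one_mem

/-- the entries of the involutions are in the subfield -/
theorem lbal_u4_J_mem (K₀ : Subfield F) {d x u : Fin n → F} (hd : ∀ a, d a ∈ K₀)
    (hxK : ∀ a, x a ∈ K₀) (huK : ∀ a, u a ∈ K₀) (hx : lbal_bd d x x ≠ 0)
    (hu : lbal_bd d u u ≠ 0) (hxu : lbal_bd d x u = 0) (a b : Fin n) :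
    (lbal_J d x u hx hu : Matrix (Fin n) (Fin n) F) a b ∈ K₀ := by
  rw [lbal_J_apply d x u hx hu hxu]
  have h2 := lbal_u4_two_mem K₀
  refine K₀.sub_mem (K₀.sub_mem ?_ ?_) ?_
  · split_ifs
    · exact K₀.one_mem
    · exact K₀.zero_mem
  · exact K₀.mul_mem (K₀.div_mem h2 (lbal_u4_bd_mem K₀ hd hxK hxK))
      (K₀.mul_mem (hxK b) (K₀.mul_mem (hd a) (hxK a)))
  · exact K₀.mul_mem (K₀.div_mem h2 (lbal_u4_bd_mem K₀ hd huK huK))
      (K₀.mul_mem (huK b) (K₀.mul_mem (hd a) (huK a)))

/-- step 1: `G` is diagonal -/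
theorem lbal_u4_offdiag (h3 : 3 ≤ n) (h2 : (2 : F) ≠ 0) (K₀ : Subfield F) (d : Fin n → F)
    (hd : ∀ a, d a ≠ 0)
    (G : Matrix (Fin n) (Fin n) F) (T : F ≃+* F) (H : lbal_u4_Hyp K₀ d G T)
    (a i : Fin n) (hai : a ≠ i) : G a i = 0 := by
  obtain ⟨k, hka, hki⟩ := lbal_exists_third h3 a i
  have hx : lbal_bd d (Pi.single i (1 : F)) (Pi.single i 1) ≠ 0 := by
    rw [lbal_bd_single_left, Pi.single_eq_same, one_mul, mul_one]
    exact hd i
  have hu : lbal_bd d (Pi.single k (1 : F)) (Pi.single k 1) ≠ 0 := by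
    rw [lbal_bd_single_left, Pi.single_eq_same, one_mul, mul_one]
    exact hd k
  have hxu : lbal_bd d (Pi.single i (1 : F)) (Pi.single k 1) = 0 := by
    rw [lbal_bd_single_left, Pi.single_eq_of_ne hki.symm, mul_zero]
  have hxx : lbal_bd d (Pi.single i (1 : F)) (Pi.single i 1) = d i := by
    rw [lbal_bd_single_left, Pi.single_eq_same, one_mul, mul_one]
  have E := H _ _ hx hu (lbal_u4_single_mem K₀ i K₀.one_mem) (lbal_u4_single_mem K₀ k K₀.one_mem) hxu
  have hcol : ∀ b, (lbal_J d (Pi.single i (1 : F)) (Pi.single k 1) hx hu :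
      Matrix (Fin n) (Fin n) F) b i = if b = i then -1 else 0 := by
    intro b
    rw [lbal_J_apply d _ _ hx hu hxu, hxx, Pi.single_eq_same, Pi.single_eq_of_ne hki.symm]
    by_cases hb : b = i
    · rw [if_pos hb, if_pos hb, hb, Pi.single_eq_same]
      have hdi := hd i
      simp only [zero_mul, mul_zero, sub_zero, one_mul, mul_one]
      field_simp
      ring
    · rw [if_neg hb, if_neg hb, Pi.single_eq_of_ne hb]
      ring
  have hrow : ∀ b, (lbal_J d (Pi.single i (1 : F)) (Pi.single k 1) hx hu :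
      Matrix (Fin n) (Fin n) F) a b = if a = b then 1 else 0 := by
    intro b
    rw [lbal_J_apply d _ _ hx hu hxu, Pi.single_eq_of_ne hai, Pi.single_eq_of_ne hka.symm]
    ring
  have E1 := congrFun (congrFun E a) i
  rw [Matrix.mul_apply, Matrix.mul_apply] at E1
  rw [Finset.sum_eq_single i, Finset.sum_eq_single a] at E1
  · rw [Matrix.map_apply, hcol, hrow, if_pos rfl, if_pos rfl, map_neg, map_one] at E1
    have : (2 : F) * G a i = 0 := by linear_combination -E1
    rcases mul_eq_zero.mp this with h | h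
    · exact absurd h h2
    · exact h
  · intro b _ hb
    rw [hrow, if_neg (Ne.symm hb), zero_mul]
  · intro h
    exact absurd (Finset.mem_univ a) h
  · intro b _ hb
    rw [Matrix.map_apply, hcol, if_neg hb, map_zero, mul_zero]
  · intro h
    exact absurd (Finset.mem_univ i) h

/-- step 2: the field automorphism fixes the subfield -/
theorem lbal_u4_T (h3 : 3 ≤ n) (h2 : (2 : F) ≠ 0) (K₀ : Subfield F) (d : Fin n → F)
    (hd : ∀ a, d a ≠ 0) (hdK : ∀ a, d a ∈ K₀)
    (G : GL (Fin n) F) (T : F ≃+* F)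
    (H : lbal_u4_Hyp K₀ d (G : Matrix (Fin n) (Fin n) F) T) : ∀ c ∈ K₀, T c = c := by
  have hc3 : 3 ≤ Fintype.card (Fin n) := by rw [Fintype.card_fin]; exact h3
  obtain ⟨i, j, k, hij, hik, hjk⟩ := Fintype.two_lt_card_iff.mp hc3
  have hG := lbal_u4_offdiag h3 h2 K₀ d hd (G : Matrix (Fin n) (Fin n) F) T H
  have hGi := lbal_orth_diag_ne_zero G hG i
  obtain ⟨x, hxdef⟩ : ∃ x : Fin n → F, x = Pi.single k 1 := ⟨_, rfl⟩
  have hxK : ∀ a, x a ∈ K₀ := by
    rw [hxdef]
    exact lbal_u4_single_mem K₀ k K₀.one_mem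
  have hxi : x i = 0 := by rw [hxdef, Pi.single_eq_of_ne hik]
  have hx : lbal_bd d x x ≠ 0 := by
    rw [hxdef, lbal_bd_single_left, Pi.single_eq_same, one_mul, mul_one]
    exact hd k
  -- the basic invariance
  have key : ∀ c ∈ K₀, d i + c * d j * c ≠ 0 →
      T (d i / (d i + c * d j * c)) = d i / (d i + c * d j * c) := by
    intro c hcK hN
    obtain ⟨u, hudef⟩ : ∃ u : Fin n → F, u = Pi.single i 1 + Pi.single j c := ⟨_, rfl⟩
    have huK : ∀ a, u a ∈ K₀ := by
      rw [hudef]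
      exact lbal_u4_add_mem K₀ (lbal_u4_single_mem K₀ i K₀.one_mem) (lbal_u4_single_mem K₀ j hcK)
    have hui : u i = 1 := by
      rw [hudef, Pi.add_apply, Pi.single_eq_same, Pi.single_eq_of_ne hij, add_zero]
    have huu : lbal_bd d u u = d i + c * d j * c := by
      rw [hudef]
      exact lbal_bd_two d i j hij c
    have hu : lbal_bd d u u ≠ 0 := by
      rw [huu]
      exact hN
    have hxu : lbal_bd d x u = 0 := by
      rw [hxdef, hudef, lbal_bd_single_left, Pi.add_apply, Pi.single_eq_of_ne hik.symm,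
        Pi.single_eq_of_ne hjk.symm, add_zero, mul_zero]
    have E := H x u hx hu hxK huK hxu
    have e1 := lbal_orth_entry _ _ hG T E i i
    have hs : (lbal_J d x u hx hu : Matrix (Fin n) (Fin n) F) i i =
        1 - 2 * (d i / (d i + c * d j * c)) := by
      rw [lbal_J_apply d x u hx hu hxu, huu, if_pos rfl, hxi, hui]
      ring
    rw [hs] at e1
    have e2 : T (1 - 2 * (d i / (d i + c * d j * c))) = 1 - 2 * (d i / (d i + c * d j * c)) := by
      apply mul_left_cancel₀ hGi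
      rw [e1, mul_comm]
    rw [map_sub, map_one, map_mul, map_ofNat] at e2
    have e3 : (2 : F) * T (d i / (d i + c * d j * c)) = 2 * (d i / (d i + c * d j * c)) := by
      linear_combination -e2
    exact mul_left_cancel₀ h2 e3
  have hdi := hd i
  have hdj := hd j
  have key2 : ∀ c ∈ K₀, T (c * c * (d j / d i)) = c * c * (d j / d i) := by
    intro c hcK
    by_cases hN : d i + c * d j * c = 0
    · have : c * c * (d j / d i) = -1 := by
        field_simp
        linear_combination hN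
      rw [this, map_neg, map_one]
    · have h1 := key c hcK hN
      have h3' : T ((d i / (d i + c * d j * c))⁻¹) = (d i / (d i + c * d j * c))⁻¹ := by
        rw [map_inv₀, h1]
      have h4 : (d i / (d i + c * d j * c))⁻¹ = 1 + c * c * (d j / d i) := by
        field_simp
      rw [h4, map_add, map_one] at h3'
      exact add_left_cancel h3'
  have hδ : T (d j / d i) = d j / d i := by
    have := key2 1 K₀.one_mem
    rwa [one_mul, one_mul] at this
  have hδ0 : d j / d i ≠ 0 := div_ne_zero hdj hdi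
  have hsq : ∀ c ∈ K₀, T c * T c = c * c := by
    intro c hcK
    have := key2 c hcK
    rw [map_mul, map_mul, hδ] at this
    exact mul_right_cancel₀ hδ0 this
  intro c hcK
  have h5 := hsq (c + 1) (K₀.add_mem hcK K₀.one_mem)
  rw [map_add, map_one] at h5
  have h6 := hsq c hcK
  have h7 : (2 : F) * T c = 2 * c := by linear_combination h5 - h6
  exact mul_left_cancel₀ h2 h7

/-- the linking lemma -/
theorem lbal_u4_link (h2 : (2 : F) ≠ 0) (K₀ : Subfield F) (d : Fin n → F) (hdK : ∀ a, d a ∈ K₀)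
    (G : Matrix (Fin n) (Fin n) F) (hG : ∀ a i, a ≠ i → G a i = 0) (T : F ≃+* F)
    (hT : ∀ c ∈ K₀, T c = c)
    (H : lbal_u4_Hyp K₀ d G T) (x u : Fin n → F) (hxK : ∀ a, x a ∈ K₀) (huK : ∀ a, u a ∈ K₀)
    (hx : lbal_bd d x x ≠ 0)
    (hu : lbal_bd d u u ≠ 0) (hxu : lbal_bd d x u = 0) (i j : Fin n) (hij : i ≠ j)
    (hxij : x j * x i = 0) (hui : u i ≠ 0) (huj : u j ≠ 0) (hdi : d i ≠ 0) :
    G i i = G j j := by
  have E := H x u hx hu hxK huK hxu
  have e1 := lbal_orth_entry _ _ hG T E i j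
  rw [hT _ (lbal_u4_J_mem K₀ hdK hxK huK hx hu hxu i j)] at e1
  have hs : (lbal_J d x u hx hu : Matrix (Fin n) (Fin n) F) i j =
      -(2 / lbal_bd d u u * (u j * (d i * u i))) := by
    rw [lbal_J_apply d x u hx hu hxu, if_neg hij]
    have : x j * (d i * x i) = 0 := by
      rw [mul_left_comm, hxij, mul_zero]
    rw [this]
    ring
  have hne : (lbal_J d x u hx hu : Matrix (Fin n) (Fin n) F) i j ≠ 0 := by
    rw [hs]
    exact neg_ne_zero.mpr (mul_ne_zero (div_ne_zero h2 hu) (mul_ne_zero huj (mul_ne_zero hdi hui)))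
  rw [mul_comm] at e1
  exact mul_left_cancel₀ hne e1

/-- step 3: the diagonal entries agree -/
theorem lbal_u4_diag_eq (h3 : 3 ≤ n) (h2 : (2 : F) ≠ 0) (K₀ : Subfield F) (d : Fin n → F)
    (hd : ∀ a, d a ≠ 0) (hdK : ∀ a, d a ∈ K₀)
    (G : Matrix (Fin n) (Fin n) F) (hG : ∀ a i, a ≠ i → G a i = 0) (T : F ≃+* F)
    (hT : ∀ c ∈ K₀, T c = c)
    (H : lbal_u4_Hyp K₀ d G T) (i j : Fin n) (hij : i ≠ j) : G i i = G j j := by
  obtain ⟨k, hki, hkj⟩ := lbal_exists_third h3 i j
  have hdi := hd i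
  have hdj := hd j
  have hdk := hd k
  have h1K : (1 : F) ∈ K₀ := K₀.one_mem
  have hm1K : (-1 : F) ∈ K₀ := K₀.neg_mem K₀.one_mem
  by_cases hgood : ∃ c ∈ K₀, c ≠ 0 ∧ d i + c * d j * c ≠ 0
  · obtain ⟨c, hcK, hc0, hN⟩ := hgood
    obtain ⟨x, hxdef⟩ : ∃ x : Fin n → F, x = Pi.single k 1 := ⟨_, rfl⟩
    obtain ⟨u, hudef⟩ : ∃ u : Fin n → F, u = Pi.single i 1 + Pi.single j c := ⟨_, rfl⟩
    have hxK : ∀ a, x a ∈ K₀ := by
      rw [hxdef]
      exact lbal_u4_single_mem K₀ k h1K
    have huK : ∀ a, u a ∈ K₀ := by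
      rw [hudef]
      exact lbal_u4_add_mem K₀ (lbal_u4_single_mem K₀ i h1K) (lbal_u4_single_mem K₀ j hcK)
    have hxi : x i = 0 := by rw [hxdef, Pi.single_eq_of_ne hki.symm]
    have hui : u i = 1 := by
      rw [hudef, Pi.add_apply, Pi.single_eq_same, Pi.single_eq_of_ne hij, add_zero]
    have huj : u j = c := by
      rw [hudef, Pi.add_apply, Pi.single_eq_same, Pi.single_eq_of_ne hij.symm, zero_add]
    have huk : u k = 0 := by
      rw [hudef, Pi.add_apply, Pi.single_eq_of_ne hki, Pi.single_eq_of_ne hkj, add_zero]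
    have hx : lbal_bd d x x ≠ 0 := by
      rw [hxdef, lbal_bd_single_left, Pi.single_eq_same, one_mul, mul_one]
      exact hdk
    have hu : lbal_bd d u u ≠ 0 := by
      rw [hudef, lbal_bd_two d i j hij]
      exact hN
    have hxu : lbal_bd d x u = 0 := by
      rw [hxdef, lbal_bd_single_left, huk, mul_zero]
    exact lbal_u4_link h2 K₀ d hdK G hG T hT H x u hxK huK hx hu hxu i j hij
      (by rw [hxi, mul_zero])
      (by rw [hui]; exact one_ne_zero) (by rw [huj]; exact hc0) hdi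
  · push Not at hgood
    have h1 : d i + d j = 0 := by
      have := hgood 1 h1K one_ne_zero
      rwa [one_mul, mul_one] at this
    have hdj' : d j = -d i := by linear_combination h1
    have h4 : (d k - d i) * (d k + d i) = 0 := by
      have := hgood (d k / d i) (K₀.div_mem (hdK k) (hdK i)) (div_ne_zero hdk hdi)
      rw [hdj'] at this
      field_simp at this
      linear_combination -this
    obtain ⟨u, hudef⟩ : ∃ u : Fin n → F, u = Pi.single i 1 + Pi.single j 1 + Pi.single k 1 :=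
      ⟨_, rfl⟩
    have huK : ∀ a, u a ∈ K₀ := by
      rw [hudef]
      exact lbal_u4_add_mem K₀ (lbal_u4_add_mem K₀ (lbal_u4_single_mem K₀ i h1K)
        (lbal_u4_single_mem K₀ j h1K)) (lbal_u4_single_mem K₀ k h1K)
    have hui : u i = 1 := by
      rw [hudef, Pi.add_apply, Pi.add_apply, Pi.single_eq_same, Pi.single_eq_of_ne hij,
        Pi.single_eq_of_ne hki.symm, add_zero, add_zero]
    have huj : u j = 1 := by
      rw [hudef, Pi.add_apply, Pi.add_apply, Pi.single_eq_same, Pi.single_eq_of_ne hij.symm,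
        Pi.single_eq_of_ne hkj.symm, zero_add, add_zero]
    have huk : u k = 1 := by
      rw [hudef, Pi.add_apply, Pi.add_apply, Pi.single_eq_same, Pi.single_eq_of_ne hki,
        Pi.single_eq_of_ne hkj, zero_add, zero_add]
    have huu : lbal_bd d u u = d i + d j + d k := by
      rw [hudef, lbal_bd_three, ← hudef, hui, huj, huk]
      ring
    rcases mul_eq_zero.mp h4 with h5 | h5
    · -- `d k = d i`
      have hdk' : d k = d i := by linear_combination h5
      obtain ⟨x, hxdef⟩ : ∃ x : Fin n → F, x = Pi.single i 1 + Pi.single k (-1) := ⟨_, rfl⟩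
      have hxK : ∀ a, x a ∈ K₀ := by
        rw [hxdef]
        exact lbal_u4_add_mem K₀ (lbal_u4_single_mem K₀ i h1K) (lbal_u4_single_mem K₀ k hm1K)
      have hxj : x j = 0 := by
        rw [hxdef, Pi.add_apply, Pi.single_eq_of_ne hij.symm, Pi.single_eq_of_ne hkj.symm,
          add_zero]
      have hx : lbal_bd d x x ≠ 0 := by
        rw [hxdef, lbal_bd_two d i k hki.symm, hdk']
        have : d i + -1 * d i * -1 = 2 * d i := by ring
        rw [this]
        exact mul_ne_zero h2 hdi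
      have hu : lbal_bd d u u ≠ 0 := by
        rw [huu, hdj', hdk']
        have : d i + -d i + d i = d i := by ring
        rw [this]
        exact hdi
      have hxu : lbal_bd d x u = 0 := by
        rw [hxdef, lbal_bd_pair, hui, huk, hdk']
        ring
      exact lbal_u4_link h2 K₀ d hdK G hG T hT H x u hxK huK hx hu hxu i j hij
        (by rw [hxj, zero_mul])
        (by rw [hui]; exact one_ne_zero) (by rw [huj]; exact one_ne_zero) hdi
    · -- `d k = - d i = d j`
      have hdk' : d k = -d i := by linear_combination h5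
      obtain ⟨x, hxdef⟩ : ∃ x : Fin n → F, x = Pi.single j 1 + Pi.single k (-1) := ⟨_, rfl⟩
      have hxK : ∀ a, x a ∈ K₀ := by
        rw [hxdef]
        exact lbal_u4_add_mem K₀ (lbal_u4_single_mem K₀ j h1K) (lbal_u4_single_mem K₀ k hm1K)
      have hxi : x i = 0 := by
        rw [hxdef, Pi.add_apply, Pi.single_eq_of_ne hij, Pi.single_eq_of_ne hki.symm, add_zero]
      have hx : lbal_bd d x x ≠ 0 := by
        rw [hxdef, lbal_bd_two d j k hkj.symm, hdk', hdj']
        have : -d i + -1 * -d i * -1 = -(2 * d i) := by ring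
        rw [this]
        exact neg_ne_zero.mpr (mul_ne_zero h2 hdi)
      have hu : lbal_bd d u u ≠ 0 := by
        rw [huu, hdj', hdk']
        have : d i + -d i + -d i = -d i := by ring
        rw [this]
        exact neg_ne_zero.mpr hdi
      have hxu : lbal_bd d x u = 0 := by
        rw [hxdef, lbal_bd_pair, huj, huk, hdk', hdj']
        ring
      exact lbal_u4_link h2 K₀ d hdK G hG T hT H x u hxK huK hx hu hxu i j hij
        (by rw [hxi, mul_zero])
        (by rw [hui]; exact one_ne_zero) (by rw [huj]; exact one_ne_zero) hdi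

/-- **the relative core lemma** -/
theorem lbal_u4_core (h3 : 3 ≤ n) (h2 : (2 : F) ≠ 0) (K₀ : Subfield F) (d : Fin n → F)
    (hd : ∀ a, d a ≠ 0) (hdK : ∀ a, d a ∈ K₀)
    (G : GL (Fin n) F) (T : F ≃+* F)
    (H : lbal_u4_Hyp K₀ d (G : Matrix (Fin n) (Fin n) F) T) :
    (∀ c ∈ K₀, T c = c) ∧ G ∈ Subgroup.center (GL (Fin n) F) := by
  have hT := lbal_u4_T h3 h2 K₀ d hd hdK G T H
  refine ⟨hT, ?_⟩
  have hG := lbal_u4_offdiag h3 h2 K₀ d hd (G : Matrix (Fin n) (Fin n) F) T H
  have heq := lbal_u4_diag_eq h3 h2 K₀ d hd hdK (G : Matrix (Fin n) (Fin n) F) hG T hT H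
  rw [Matrix.GeneralLinearGroup.mem_center_iff_val_mem_range_scalar]
  have h0 : 0 < n := by omega
  refine ⟨(G : Matrix (Fin n) (Fin n) F) ⟨0, h0⟩ ⟨0, h0⟩, ?_⟩
  ext a b
  rw [Matrix.scalar_apply]
  by_cases hab : a = b
  · rw [hab, Matrix.diagonal_apply_eq]
    by_cases hb : b = ⟨0, h0⟩
    · rw [hb]
    · exact (heq b ⟨0, h0⟩ hb).symm
  · rw [Matrix.diagonal_apply_ne _ hab, hG a b hab]

end Cfsg.Agent.LBal
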