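import Mathlib
import Cfsg.Agent.LBal.H4OrthD
import Cfsg.Agent.Helper8.UGrG

set_option autoImplicit false

/-!
Piece Q4 of the local balance swarm (S2687), part B: the descent of a symmetric unitary matrix
`A`: there is `C ∈ GL_n(F)` with `A C̄ = C` (the columns of `C` are fixed by the Baer involution
`v ↦ A v̄`) and `C̄ diag(c) Cᵀ = 1` with `c` in the fixed field (the hermitian form is diagonal
on the columns of `C`).
-/

namespace Cfsg.Agent.LBal

open Matrix Cfsg Cfsg.Agent.Helper8.AutSU Cfsg.Agent.Helper8.UGr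
open Cfsg.Agent.Helper8.AutSLn (gls glStar fixField mem_fixField)
open Cfsg.Agent.Helper8.AutSLn.Descent (map_injective)

variable {F : Type*} [Field F] [Fintype F] {q k : ℕ} [hF : Fact (Fintype.card F = q ^ 2)]

/-- the fixed field of the `q`-power map, with its inclusion, is a field descent datum -/
theorem lbal_u4_FD :
    FD (frobE F q) (fixField (frobE F q)).subtype :=
  ⟨frobE_mul_self, frobE_ne_one, fun a => a.2, fun b hb => ⟨⟨b, hb⟩, rfl⟩⟩

/-- **the descent** -/
theorem lbal_u4_descent (h2 : (2 : F) ≠ 0) (A : GU (k + 2) F q)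
    (hA : ((A : GL (Fin (k + 2)) F) : Matrix (Fin (k + 2)) (Fin (k + 2)) F).transpose =
      ((A : GL (Fin (k + 2)) F) : Matrix (Fin (k + 2)) (Fin (k + 2)) F)) :
    ∃ (C Dg : GL (Fin (k + 2)) F) (c : Fin (k + 2) → F), (∀ a, c a ≠ 0) ∧
      (∀ a, c a ∈ fixField (frobE F q)) ∧
      (Dg : Matrix (Fin (k + 2)) (Fin (k + 2)) F) = Matrix.diagonal c ∧
      (A : GL (Fin (k + 2)) F) = C * (gls (frobE F q) C)⁻¹ ∧
      gls (frobE F q) C * Dg * glT C = 1 := by
  obtain ⟨K₀, hK₀⟩ : ∃ K₀ : Subfield F, K₀ = fixField (frobE F q) := ⟨_, rfl⟩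
  have D : FD (frobE F q) K₀.subtype := by
    rw [hK₀]
    exact lbal_u4_FD
  have S := SD.one (frobE F q)
  have hT : glT (A : GL (Fin (k + 2)) F) = (1 : Fˣ) • (A : GL (Fin (k + 2)) F) := by
    rw [one_smul]
    apply Units.ext
    rw [glT_coe]
    exact hA
  obtain ⟨B, M₀, X⟩ := desc_exists D S A hT
  have hM₀ : glT M₀ = M₀ := by
    have h1 := X.glT_map S hT
    rw [one_smul, glT_map] at h1
    exact map_injective K₀.subtype h1
  have h2' : (2 : K₀) ≠ 0 := by
    intro h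
    apply h2
    have := congrArg K₀.subtype h
    rw [map_ofNat, map_zero] at this
    exact this
  have hM₀' : (M₀ : Matrix (Fin (k + 2)) (Fin (k + 2)) K₀).transpose =
      (M₀ : Matrix (Fin (k + 2)) (Fin (k + 2)) K₀) := by
    have := congrArg (fun g : GL (Fin (k + 2)) K₀ => (g : Matrix (Fin (k + 2)) (Fin (k + 2)) K₀)) hM₀
    simpa [glT_coe] using this
  obtain ⟨P, d₀, hd₀, hP⟩ := lbal_exists_diag h2' M₀ hM₀'
  obtain ⟨Q, hQ⟩ : ∃ Q : GL (Fin (k + 2)) F, Q = Matrix.GeneralLinearGroup.map K₀.subtype P :=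
    ⟨_, rfl⟩
  have hQbar : gls (frobE F q) Q = Q := by
    rw [hQ]
    exact D.gls_map P
  obtain ⟨M, hMdef⟩ : ∃ M : GL (Fin (k + 2)) F, M = Matrix.GeneralLinearGroup.map K₀.subtype M₀ :=
    ⟨_, rfl⟩
  have hB := X.hB
  have hM := X.hM
  rw [one_smul] at hB hM
  rw [← hMdef] at hM
  refine ⟨B * Q⁻¹, Q * M * glT Q, fun a => K₀.subtype (d₀ a), ?_, ?_, ?_, ?_, ?_⟩
  · intro a h
    apply hd₀ a
    exact (map_eq_zero K₀.subtype).mp h
  · intro a
    rw [← hK₀]
    exact (d₀ a).2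
  · rw [Units.val_mul, Units.val_mul, glT_coe, hQ, hMdef]
    have h1 := congrArg (fun N : Matrix (Fin (k + 2)) (Fin (k + 2)) K₀ => N.map K₀.subtype) hP
    simp only [Matrix.map_mul, Matrix.transpose_map] at h1
    rw [Matrix.diagonal_map (map_zero _)] at h1
    exact h1
  · rw [map_mul, map_inv, hQbar, hB]
    group
  · rw [map_mul, map_inv, hQbar, glT_mul, glT_inv, hM]
    group

end Cfsg.Agent.LBal
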