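import Mathlib
import Cfsg.Agent.LBal.UH4OrthB

set_option autoImplicit false

/-!
Piece Q4 of the local balance swarm (S2687), part C: the fixed points of the graph automorphism
`ugraphAut A` coming from the rational isometries of the descended diagonal form.
-/

namespace Cfsg.Agent.LBal

open Matrix Cfsg Cfsg.Agent.Helper8.AutSU Cfsg.Agent.Helper8.UGr
open Cfsg.Agent.Helper8.AutSLn (gls glStar fixField mem_fixField)
open Cfsg.Agent.Helper8.SURoot (mt)

variable {F : Type*} [Field F] [Fintype F] {q k : ℕ} [hF : Fact (Fintype.card F = q ^ 2)]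

/-- the group-level descent data -/
structure lbal_u4_Data (A : GU (k + 2) F q) (C Dg : GL (Fin (k + 2)) F) : Prop where
  hA : (A : GL (Fin (k + 2)) F) = C * (gls (frobE F q) C)⁻¹
  hD : gls (frobE F q) C * Dg * glT C = 1
  hDT : glT Dg = Dg
  hDbar : gls (frobE F q) Dg = Dg

theorem lbal_u4_data_of_descent {A : GU (k + 2) F q} {C Dg : GL (Fin (k + 2)) F}
    {c : Fin (k + 2) → F} (hcK : ∀ a, c a ∈ fixField (frobE F q))
    (hdiag : (Dg : Matrix (Fin (k + 2)) (Fin (k + 2)) F) = Matrix.diagonal c)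
    (hA : (A : GL (Fin (k + 2)) F) = C * (gls (frobE F q) C)⁻¹)
    (hD : gls (frobE F q) C * Dg * glT C = 1) : lbal_u4_Data A C Dg := by
  refine ⟨hA, hD, ?_, ?_⟩
  · apply Units.ext
    rw [glT_coe, hdiag, Matrix.diagonal_transpose]
  · apply Units.ext
    ext i j
    show frobE F q ((Dg : Matrix (Fin (k + 2)) (Fin (k + 2)) F) i j) = _
    rw [hdiag, Matrix.diagonal_apply]
    split_ifs
    · exact (mem_fixField _ _).mp (hcK i)
    · exact map_zero _

/-- the conjugate of a rational isometry is unitary -/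
theorem lbal_u4_unitary {A : GU (k + 2) F q} {C Dg : GL (Fin (k + 2)) F}
    (X : lbal_u4_Data A C Dg) (Rg : GL (Fin (k + 2)) F) (hRbar : gls (frobE F q) Rg = Rg)
    (hR : Rg * Dg * glT Rg = Dg) :
    C * Rg * C⁻¹ ∈ GU (k + 2) F q := by
  rw [mem_GU_iff_star, glStar_eq]
  have h1 : C * Dg * gls (frobE F q) (glT C) = 1 := by
    have := congrArg glT X.hD
    rw [glT_mul, glT_mul, glT_glT, X.hDT, glT_one, ← gls_glT, ← mul_assoc] at this
    exact this
  have hX : gls (frobE F q) (glT C) = Dg⁻¹ * C⁻¹ := by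
    rw [← _root_.mul_inv_rev]
    exact eq_inv_of_mul_eq_one_right h1
  rw [glT_mul, glT_mul, glT_inv, map_mul, map_mul, map_inv, gls_glT (frobE F q) Rg, hRbar, hX]
  calc C * Rg * C⁻¹ * ((Dg⁻¹ * C⁻¹)⁻¹ * (glT Rg * (Dg⁻¹ * C⁻¹)))
      = C * (Rg * Dg * glT Rg) * Dg⁻¹ * C⁻¹ := by group
    _ = 1 := by
      rw [hR]
      group

/-- the conjugate of a rational matrix is fixed by `x ↦ A x̄ A⁻¹` -/
theorem lbal_u4_fix_gl {A : GU (k + 2) F q} {C Dg : GL (Fin (k + 2)) F}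
    (X : lbal_u4_Data A C Dg) (Rg : GL (Fin (k + 2)) F) (hRbar : gls (frobE F q) Rg = Rg) :
    (A : GL (Fin (k + 2)) F) * gls (frobE F q) (C * Rg * C⁻¹) * (A : GL (Fin (k + 2)) F)⁻¹ =
      C * Rg * C⁻¹ := by
  rw [X.hA, map_mul, map_mul, map_inv, hRbar]
  group

/-- **the fixed points** -/
theorem lbal_u4_exists_fixed {A : GU (k + 2) F q} {C Dg : GL (Fin (k + 2)) F}
    (X : lbal_u4_Data A C Dg) (Rg : GL (Fin (k + 2)) F) (hRbar : gls (frobE F q) Rg = Rg)
    (hR : Rg * Dg * glT Rg = Dg) (hdet : (Rg : Matrix (Fin (k + 2)) (Fin (k + 2)) F).det = 1) :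
    ∃ s : SU (k + 2) F q,
      mt s = ((C * Rg * C⁻¹ : GL (Fin (k + 2)) F) : Matrix (Fin (k + 2)) (Fin (k + 2)) F) ∧
      (ugraphAut A : MulAut (PSU (k + 2) F q)) (pr s) = pr s := by
  have hGU := lbal_u4_unitary X Rg hRbar hR
  have hdet' : ((C * Rg * C⁻¹ : GL (Fin (k + 2)) F) :
      Matrix (Fin (k + 2)) (Fin (k + 2)) F).det = 1 := by
    rw [Units.val_mul, Units.val_mul, Matrix.det_mul, Matrix.det_mul, hdet, mul_one,
      ← Matrix.det_mul, ← Units.val_mul, mul_inv_cancel, Units.val_one, Matrix.det_one]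
  obtain ⟨s, hs⟩ : ∃ s : SU (k + 2) F q, mt s =
      ((C * Rg * C⁻¹ : GL (Fin (k + 2)) F) : Matrix (Fin (k + 2)) (Fin (k + 2)) F) :=
    ⟨⟨⟨_, hdet'⟩, fun u v => hGU u v⟩, rfl⟩
  refine ⟨s, hs, ?_⟩
  unfold ugraphAut phi0
  rw [MulAut.mul_apply, psuField_pr, psuConj_pr]
  congr 1
  apply Subtype.ext
  apply Subtype.ext
  show mt (suConj A (suField (frobE F q) s)) = mt s
  rw [suConj_coe, suField_coe, hs]
  have := congrArg (fun g : GL (Fin (k + 2)) F => (g : Matrix (Fin (k + 2)) (Fin (k + 2)) F))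
    (lbal_u4_fix_gl X Rg hRbar)
  simp only [Units.val_mul] at this
  exact this

end Cfsg.Agent.LBal
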