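import Mathlib
import Cfsg.Agent.LBal.UH4OrthA
import Cfsg.Agent.LBal.UH4OrthC
import Cfsg.Agent.Helper8.AutSpzt
import Cfsg.Agent.Helper8.AutSUze
import Cfsg.Agent.Helper8.SUCenter

set_option autoImplicit false

/-!
Piece Q4 of the local balance swarm (S2687): an automorphism of `PSU_n(q)` (`n ≥ 3`, `q` odd) of odd
order fixing every fixed point of a graph automorphism `ugraphAut A` of orthogonal type
(`Aᵀ = A`) is trivial.
-/

namespace Cfsg.Agent.LBal

open Matrix Cfsg Cfsg.Agent.Helper8.AutSU Cfsg.Agent.Helper8.UGr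
open Cfsg.Agent.Helper8.AutSLn (gls glStar fixField mem_fixField)
open Cfsg.Agent.Helper8.SURoot (mt)

variable {F : Type*} [Field F] [Fintype F] {q k : ℕ} [hF : Fact (Fintype.card F = q ^ 2)]

theorem lbal_u4_pow_fix {G : Type*} [Group G] (α : MulAut G) (x : G) (h : α x = x) (j : ℕ) :
    (α ^ j) x = x := by
  induction j with
  | zero => rfl
  | succ j ih => rw [pow_succ, MulAut.mul_apply, h, ih]

/-- the square of a semilinear automorphism of `SU` -/
theorem lbal_u4_sq_su (g₀ : GU (k + 2) F q) (τ₀ : F ≃+* F) :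
    (suConj g₀ * suField τ₀ * (suConj g₀ * suField τ₀) : MulAut (SU (k + 2) F q)) =
      suConj (g₀ * guField τ₀ g₀) * suField (τ₀ * τ₀) := by
  rw [map_mul, map_mul]
  calc suConj g₀ * suField τ₀ * (suConj g₀ * suField τ₀)
      = suConj g₀ * (suField τ₀ * suConj g₀) * suField τ₀ := by simp only [mul_assoc]
    _ = suConj g₀ * suConj (guField τ₀ g₀) * (suField τ₀ * suField τ₀) := by
        rw [suField_mul_suConj]
        simp only [mul_assoc]

theorem lbal_u4_sq_psu (g₀ : GU (k + 2) F q) (τ₀ : F ≃+* F) :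
    (psuConj g₀ * psuField τ₀ * (psuConj g₀ * psuField τ₀) : MulAut (PSU (k + 2) F q)) =
      psuConj (g₀ * guField τ₀ g₀) * psuField (τ₀ * τ₀) := by
  rw [map_mul, map_mul]
  calc psuConj g₀ * psuField τ₀ * (psuConj g₀ * psuField τ₀)
      = psuConj g₀ * (psuField τ₀ * psuConj g₀) * psuField τ₀ := by simp only [mul_assoc]
    _ = psuConj g₀ * psuConj (guField τ₀ g₀) * (psuField τ₀ * psuField τ₀) := by
        rw [psuField_mul_psuConj]
        simp only [mul_assoc]

/-- **exactness after squaring**: if the semilinear automorphism `Φ` of `SU` fixes the class of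
an involution `s`, then `Φ ∘ Φ` fixes `s`. -/
theorem lbal_u4_exact (hk : 1 ≤ k) (g₀ : GU (k + 2) F q) (τ₀ : F ≃+* F) (s : SU (k + 2) F q)
    (hs2 : s * s = 1)
    (hfix : (psuConj g₀ * psuField τ₀ : MulAut (PSU (k + 2) F q)) (pr s) = pr s) :
    (suConj g₀ * suField τ₀ : MulAut (SU (k + 2) F q))
      ((suConj g₀ * suField τ₀ : MulAut (SU (k + 2) F q)) s) = s := by
  obtain ⟨Φ, hΦ⟩ : ∃ Φ : MulAut (SU (k + 2) F q), Φ = suConj g₀ * suField τ₀ := ⟨_, rfl⟩
  rw [← hΦ]
  have h1 : pr (Φ s) = pr s := by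
    rw [hΦ, MulAut.mul_apply, ← psuConj_pr, ← psuField_pr, ← MulAut.mul_apply]
    exact hfix
  obtain ⟨z, hzdef⟩ : ∃ z : SU (k + 2) F q, z = s⁻¹ * Φ s := ⟨_, rfl⟩
  have hzc : z ∈ Subgroup.center (SU (k + 2) F q) := by
    rw [hzdef]
    rw [pr_eq_mk, pr_eq_mk] at h1
    exact QuotientGroup.eq.mp h1.symm
  have hΦs : Φ s = s * z := by rw [hzdef, mul_inv_cancel_left]
  have hz2 : z * z = 1 := by
    have h2 : Φ s * Φ s = 1 := by rw [← map_mul, hs2, map_one]
    rw [hΦs] at h2
    have hcomm : z * s = s * z := (Subgroup.mem_center_iff.mp hzc s).symm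
    calc z * z = s * s * (z * z) := by rw [hs2, one_mul]
      _ = s * z * (s * z) := by
          rw [mul_assoc, mul_assoc, ← mul_assoc z s z, hcomm]
          simp only [mul_assoc]
      _ = 1 := h2
  obtain ⟨ζ, hζ, hζn, hzs⟩ := Cfsg.Agent.Helper8.SUCenter.center_eq_scal hF.out (by omega) z hzc
  have hmz : mt z = ζ • (1 : Matrix (Fin (k + 2)) (Fin (k + 2)) F) := by
    rw [hzs]
    rfl
  have hζ2 : ζ * ζ = 1 := by
    have h3 : mt (z * z) = mt (1 : SU (k + 2) F q) := by rw [hz2]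
    have h4 : mt (z * z) = mt z * mt z := rfl
    have h5 : mt (1 : SU (k + 2) F q) = 1 := rfl
    rw [h4, h5, hmz, Matrix.smul_mul, Matrix.mul_smul, Matrix.one_mul, smul_smul] at h3
    have := congrFun (congrFun h3 0) 0
    simpa using this
  have hτζ : τ₀ ζ = ζ := by
    have h3 : (ζ - 1) * (ζ + 1) = 0 := by linear_combination hζ2
    rcases mul_eq_zero.mp h3 with h | h
    · rw [sub_eq_zero.mp h, map_one]
    · rw [eq_neg_of_add_eq_zero_left h, map_neg, map_one]
  have hΦz : Φ z = z := by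
    apply Subtype.ext
    apply Subtype.ext
    show mt (Φ z) = mt z
    rw [hΦ, MulAut.mul_apply, suConj_coe, suField_coe, hmz]
    have h3 : (ζ • (1 : Matrix (Fin (k + 2)) (Fin (k + 2)) F)).map τ₀ =
        ζ • (1 : Matrix (Fin (k + 2)) (Fin (k + 2)) F) := by
      ext a b
      rw [Matrix.map_apply, Matrix.smul_apply, Matrix.one_apply, smul_eq_mul, map_mul, hτζ]
      split_ifs <;> simp
    rw [h3, Matrix.mul_smul, Matrix.mul_one, Matrix.smul_mul]
    congr 1
    rw [← Units.val_mul, mul_inv_cancel, Units.val_one]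
  rw [hΦs, map_mul, hΦs, hΦz, mul_assoc, hz2, mul_one]

/-- an automorphism of the field fixing the fixed field of an involution `σ` is `1` or `σ` -/
theorem lbal_u4_one_or (σ T : F ≃+* F) (hσ : σ * σ = 1) (h : ∀ c, σ c = c → T c = c) :
    T = 1 ∨ T = σ := by
  have hmem := Cfsg.Agent.Helper8.AutSp.mem_zpowers_of_fixes σ T h
  obtain ⟨n, hn⟩ := Subgroup.mem_zpowers_iff.mp hmem
  have hσ2 : σ ^ (2 : ℤ) = 1 := by
    rw [zpow_ofNat, pow_two, hσ]
  obtain ⟨m, hm | hm⟩ := Int.even_or_odd' n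
  · left
    rw [hm, _root_.zpow_mul, hσ2, _root_.one_zpow] at hn
    exact hn.symm
  · right
    rw [hm, _root_.zpow_add, _root_.zpow_mul, hσ2, _root_.one_zpow, one_mul, zpow_one] at hn
    exact hn.symm

/-- **LBal Q4.** -/
theorem lbal_u_h4_orth (r : ℕ) [Fact r.Prime] [CharP F r] (hr2 : r ≠ 2) (hk : 1 ≤ k)
    (A : GU (k + 2) F q)
    (hA : ((A : GL (Fin (k + 2)) F) : Matrix (Fin (k + 2)) (Fin (k + 2)) F).transpose =
      ((A : GL (Fin (k + 2)) F) : Matrix (Fin (k + 2)) (Fin (k + 2)) F))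
    (α : MulAut (PSU (k + 2) F q)) (hcop : (orderOf α).Coprime 2)
    (hfix : ∀ x : PSU (k + 2) F q,
      (ugraphAut A : MulAut (PSU (k + 2) F q)) x = x → α x = x) : α = 1 := by
  have h2 : (2 : F) ≠ 0 := by
    intro h
    have h' : ((2 : ℕ) : F) = 0 := by exact_mod_cast h
    rw [CharP.cast_eq_zero_iff F r 2] at h'
    exact hr2 ((Nat.prime_dvd_prime_iff_eq Fact.out Nat.prime_two).mp h')
  have hkq : ¬ (k = 1 ∧ q = 2) := by
    rintro ⟨-, hq⟩
    have hcard : Fintype.card F = 2 ^ 2 := by rw [hF.out, hq]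
    obtain ⟨n, hrp, hn⟩ := FiniteField.card F r
    rw [hcard] at hn
    have h1 : r ∣ 2 ^ 2 := by
      rw [hn]
      exact dvd_pow_self r n.ne_zero
    exact hr2 ((Nat.prime_dvd_prime_iff_eq hrp Nat.prime_two).mp (hrp.dvd_of_dvd_pow h1))
  -- the square root `β` of `α`
  obtain ⟨j, hj⟩ := (Nat.coprime_two_right.mp hcop : Odd (orderOf α))
  obtain ⟨β, hβdef⟩ : ∃ β : MulAut (PSU (k + 2) F q), β = α ^ (j + 1) := ⟨_, rfl⟩
  have hββ : β * β = α := by
    rw [hβdef, ← pow_add, show j + 1 + (j + 1) = orderOf α + 1 by omega, pow_succ,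
      pow_orderOf_eq_one, one_mul]
  have hβfix : ∀ x : PSU (k + 2) F q,
      (ugraphAut A : MulAut (PSU (k + 2) F q)) x = x → β x = x := by
    intro x hx
    rw [hβdef]
    exact lbal_u4_pow_fix α x (hfix x hx) _
  obtain ⟨g₀, τ₀, hβ⟩ := aut_PSU_standard r hk hkq β
  obtain ⟨G, hG⟩ : ∃ G : GU (k + 2) F q, G = g₀ * guField τ₀ g₀ := ⟨_, rfl⟩
  obtain ⟨T, hT⟩ : ∃ T : F ≃+* F, T = τ₀ * τ₀ := ⟨_, rfl⟩
  have hα : α = psuConj G * psuField T := by
    rw [← hββ, hβ, lbal_u4_sq_psu, ← hG, ← hT]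
  -- the descent
  obtain ⟨C, Dg, c, hc0, hcK, hdiag, hAC, hD⟩ := lbal_u4_descent h2 A hA
  have X := lbal_u4_data_of_descent hcK hdiag hAC hD
  obtain ⟨G', hG'⟩ : ∃ G' : GL (Fin (k + 2)) F,
      G' = C⁻¹ * (G : GL (Fin (k + 2)) F) * gls T C := ⟨_, rfl⟩
  -- the hypothesis of the core lemma
  have H : lbal_u4_Hyp (fixField (frobE F q)) c
      (G' : Matrix (Fin (k + 2)) (Fin (k + 2)) F) T := by
    intro x u hx hu hxK huK hxu
    obtain ⟨J, hJ⟩ : ∃ J : Matrix.SpecialLinearGroup (Fin (k + 2)) F, J = lbal_J c x u hx hu :=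
      ⟨_, rfl⟩
    rw [← hJ]
    obtain ⟨Rg, hRg⟩ : ∃ Rg : GL (Fin (k + 2)) F, Rg = Matrix.SpecialLinearGroup.toGL J :=
      ⟨_, rfl⟩
    have hRm : (Rg : Matrix (Fin (k + 2)) (Fin (k + 2)) F) =
        (J : Matrix (Fin (k + 2)) (Fin (k + 2)) F) := by
      rw [hRg]
      rfl
    have hRbar : gls (frobE F q) Rg = Rg := by
      apply Units.ext
      ext a b
      show frobE F q ((Rg : Matrix (Fin (k + 2)) (Fin (k + 2)) F) a b) =
        (Rg : Matrix (Fin (k + 2)) (Fin (k + 2)) F) a b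
      rw [hRm, hJ]
      exact (mem_fixField _ _).mp (lbal_u4_J_mem _ hcK hxK huK hx hu hxu a b)
    have hR : Rg * Dg * glT Rg = Dg := by
      apply Units.ext
      rw [Units.val_mul, Units.val_mul, glT_coe, hRm, hdiag, hJ]
      exact lbal_J_isom c x u hx hu
    have hdet : (Rg : Matrix (Fin (k + 2)) (Fin (k + 2)) F).det = 1 := by
      rw [hRm]
      exact J.2
    obtain ⟨s, hs, hsfix⟩ := lbal_u4_exists_fixed X Rg hRbar hR hdet
    have hRR : Rg * Rg = 1 := by
      apply Units.ext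
      rw [Units.val_mul, hRm, Units.val_one, hJ, ← Matrix.SpecialLinearGroup.coe_mul,
        lbal_J_mul_self c x u hx hu hxu, Matrix.SpecialLinearGroup.coe_one]
    have hs2 : s * s = 1 := by
      apply Subtype.ext
      apply Subtype.ext
      show mt s * mt s = 1
      rw [hs, ← Units.val_mul]
      have : C * Rg * C⁻¹ * (C * Rg * C⁻¹) = 1 := by
        calc C * Rg * C⁻¹ * (C * Rg * C⁻¹) = C * (Rg * Rg) * C⁻¹ := by group
          _ = 1 := by
            rw [hRR]
            group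
      rw [this, Units.val_one]
    have hβs := hβfix (pr s) hsfix
    rw [hβ] at hβs
    have hex := lbal_u4_exact hk g₀ τ₀ s hs2 hβs
    rw [← MulAut.mul_apply, lbal_u4_sq_su, ← hG, ← hT] at hex
    have hm : mt ((suConj G * suField T : MulAut (SU (k + 2) F q)) s) = mt s := by rw [hex]
    rw [MulAut.mul_apply, suConj_coe, suField_coe, hs] at hm
    have hgl : (G : GL (Fin (k + 2)) F) * gls T (C * Rg * C⁻¹) * (G : GL (Fin (k + 2)) F)⁻¹ =
        C * Rg * C⁻¹ := by
      apply Units.ext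
      rw [Units.val_mul, Units.val_mul]
      exact hm
    have hcomm : G' * gls T Rg = Rg * G' := by
      rw [hG']
      calc C⁻¹ * (G : GL (Fin (k + 2)) F) * gls T C * gls T Rg
          = C⁻¹ * ((G : GL (Fin (k + 2)) F) * gls T (C * Rg * C⁻¹) *
              (G : GL (Fin (k + 2)) F)⁻¹) * (G : GL (Fin (k + 2)) F) * gls T C := by
            rw [map_mul, map_mul, map_inv]
            group
        _ = Rg * (C⁻¹ * (G : GL (Fin (k + 2)) F) * gls T C) := by
            rw [hgl]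
            group
    have hfin := congrArg (fun g : GL (Fin (k + 2)) F =>
      (g : Matrix (Fin (k + 2)) (Fin (k + 2)) F)) hcomm
    simp only [Units.val_mul] at hfin
    have e : ((gls T Rg : GL (Fin (k + 2)) F) : Matrix (Fin (k + 2)) (Fin (k + 2)) F) =
        (J : Matrix (Fin (k + 2)) (Fin (k + 2)) F).map T := by
      rw [← hRm]
      rfl
    rw [e, hRm] at hfin
    exact hfin
  obtain ⟨hTfix, hG'c⟩ := lbal_u4_core (by omega : 3 ≤ k + 2) h2 (fixField (frobE F q)) c hc0
    hcK G' T H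
  rw [Matrix.GeneralLinearGroup.center_eq_range_scalar] at hG'c
  obtain ⟨μ, hμ⟩ := hG'c
  have hGeq : (G : GL (Fin (k + 2)) F) = C * G' * (gls T C)⁻¹ := by
    rw [hG']
    group
  have hcomm : C * G' = G' * C := by
    rw [← hμ]
    exact (Matrix.GeneralLinearGroup.scalar_commute μ C).symm
  rcases lbal_u4_one_or (frobE F q) T frobE_mul_self
      (fun c hc => hTfix c ((mem_fixField _ _).mpr hc)) with hT1 | hTb
  · -- `T = 1`: `α` is trivial
    have hgls : gls T C = C := by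
      rw [hT1]
      apply Units.ext
      ext a b
      rfl
    rw [hgls, hcomm, mul_assoc, mul_inv_cancel, mul_one, ← hμ] at hGeq
    have hker : G ∈ (psuConj : GU (k + 2) F q →* MulAut (PSU (k + 2) F q)).ker :=
      (mem_ker_psuConj_iff_scalar r hk).mpr ⟨μ, hGeq⟩
    rw [hα, MonoidHom.mem_ker.mp hker, hT1, map_one, mul_one]
  · -- `T` is the involution: `α` is the graph automorphism, of even order
    exfalso
    rw [hTb, hcomm, mul_assoc, ← hAC, ← hμ] at hGeq
    have hker : G * A⁻¹ ∈ (psuConj : GU (k + 2) F q →* MulAut (PSU (k + 2) F q)).ker := by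
      apply (mem_ker_psuConj_iff_scalar r hk).mpr
      refine ⟨μ, ?_⟩
      rw [Subgroup.coe_mul, Subgroup.coe_inv, hGeq, mul_inv_cancel_right]
    have hGA : (psuConj G : MulAut (PSU (k + 2) F q)) = psuConj A := by
      have := MonoidHom.mem_ker.mp hker
      rw [map_mul, map_inv, mul_inv_eq_one] at this
      exact this
    have hαγ : α = ugraphAut A := by
      rw [hα, hGA, hTb]
      rfl
    have hord : orderOf α = 2 := by
      rw [hαγ]
      exact (orderOf_ugraphAut_eq_two_iff r hk A).mpr (Or.inl hA)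
    rw [hord] at hcop
    exact absurd hcop (by decide)

end Cfsg.Agent.LBal
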