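import Mathlib
import Cfsg.Agent.Helper8.UGrA

/-!
# LBal Q3, part A (helper9): semilinear algebra around a Baer involution

`T` is `τ`-semilinear and injective, `J` is a `q`-power-semilinear involution of `Fⁿ` (`n ≥ 2`),
and `T` maps every nonzero fixed vector of `J` to a multiple of itself.  Then `τ` fixes the fixed
field of the `q`-power map, and if `τ = 1` then `T` is a scalar.
-/

set_option autoImplicit false

namespace Cfsg.Agent.LBal

open Matrix

section baer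

variable {F : Type*} [Field F] {N : ℕ} {q : ℕ}
  (T J : (Fin N → F) → (Fin N → F)) (τ : F ≃+* F)
  (hTadd : ∀ u v, T (u + v) = T u + T v) (hTsmul : ∀ (c : F) v, T (c • v) = τ c • T v)
  (hTinj : ∀ v, T v = 0 → v = 0)
  (hJadd : ∀ u v, J (u + v) = J u + J v) (hJsmul : ∀ (c : F) v, J (c • v) = c ^ q • J v)
  (hJJ : ∀ v, J (J v) = v)
  (hK : ∀ u, J u = u → u ≠ 0 → ∃ c : F, T u = c • u)

include hJadd hJJ in
theorem lbal_ub_P (v : Fin N → F) : J (v + J v) = v + J v := by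
  rw [hJadd, hJJ, add_comm]

include hJadd hJsmul hJJ in
theorem lbal_ub_P' {ε : F} (hε : ε ^ q + ε = 0) (v : Fin N → F) :
    J (ε • (v - J v)) = ε • (v - J v) := by
  have h1 : ε ^ q = -ε := eq_neg_of_add_eq_zero_left hε
  have hsub : J (v - J v) = J v - v := by
    have h2 : J (v - J v) + J (J v) = J v := by rw [← hJadd, sub_add_cancel]
    rw [hJJ] at h2
    exact eq_sub_of_add_eq h2
  rw [hJsmul, hsub, h1, neg_smul, ← smul_neg, neg_sub]

omit q in
theorem lbal_ub_decomp (h2 : (2 : F) ≠ 0) {ε : F} (hε0 : ε ≠ 0) (v : Fin N → F) :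
    v = (2 : F)⁻¹ • ((v + J v) + ε⁻¹ • (ε • (v - J v))) := by
  rw [smul_smul, inv_mul_cancel₀ hε0, one_smul]
  have : v + J v + (v - J v) = (2 : F) • v := by rw [two_smul]; abel
  rw [this, smul_smul, inv_mul_cancel₀ h2, one_smul]

include hJadd hJsmul hJJ in
/-- there is a nonzero fixed vector. -/
theorem lbal_ub_exists_fixed (h2 : (2 : F) ≠ 0) {ε : F} (hε0 : ε ≠ 0) (hε : ε ^ q + ε = 0)
    {v : Fin N → F} (hv : v ≠ 0) : ∃ u, J u = u ∧ u ≠ 0 := by
  by_cases h : v + J v = 0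
  · refine ⟨ε • (v - J v), lbal_ub_P' J hJadd hJsmul hJJ hε v, ?_⟩
    intro h0
    apply hv
    have := lbal_ub_decomp J h2 hε0 v
    rw [h, h0, smul_zero, add_zero, smul_zero] at this
    exact this
  · exact ⟨v + J v, lbal_ub_P J hJadd hJJ v, h⟩

include hJadd hJsmul hJJ in
/-- given a line, there is a fixed vector outside it. -/
theorem lbal_ub_exists_outside (h2 : (2 : F) ≠ 0) {ε : F} (hε0 : ε ≠ 0) (hε : ε ^ q + ε = 0)
    (u₀ : Fin N → F) {v : Fin N → F} (hv : ∀ c : F, v ≠ c • u₀) :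
    ∃ w, J w = w ∧ ∀ c : F, w ≠ c • u₀ := by
  by_contra hcon
  push Not at hcon
  obtain ⟨a, ha⟩ := hcon (v + J v) (lbal_ub_P J hJadd hJJ v)
  obtain ⟨b, hb⟩ := hcon (ε • (v - J v)) (lbal_ub_P' J hJadd hJsmul hJJ hε v)
  have := lbal_ub_decomp J h2 hε0 v
  rw [ha, hb, smul_smul, ← add_smul, smul_smul] at this
  exact hv _ this

omit q in
theorem lbal_ub_indep {u₀ w₀ : Fin N → F} (hu₀ : u₀ ≠ 0) (hw₀ : ∀ c : F, w₀ ≠ c • u₀) {a b : F}
    (h : a • u₀ + b • w₀ = 0) : a = 0 ∧ b = 0 := by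
  have hb : b = 0 := by
    by_contra hb
    apply hw₀ (-(b⁻¹ * a))
    have h1 : b • w₀ = -(a • u₀) := eq_neg_of_add_eq_zero_right h
    calc w₀ = b⁻¹ • (b • w₀) := by rw [smul_smul, inv_mul_cancel₀ hb, one_smul]
      _ = -(b⁻¹ * a) • u₀ := by rw [h1, smul_neg, smul_smul, neg_smul]
  rw [hb, zero_smul, add_zero] at h
  rcases smul_eq_zero.mp h with h' | h'
  · exact ⟨h', hb⟩
  · exact absurd h' hu₀

include hTadd hTsmul hJadd hJsmul hK in
/-- the pencil `u₀ + a w₀`, `a` in the fixed field. -/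
theorem lbal_ub_pencil {u₀ w₀ : Fin N → F} (hu₀J : J u₀ = u₀) (hw₀J : J w₀ = w₀) (hu₀ : u₀ ≠ 0)
    (hw₀ : ∀ c : F, w₀ ≠ c • u₀) {c₁ c₂ : F} (h1 : T u₀ = c₁ • u₀) (h2 : T w₀ = c₂ • w₀) (a : F)
    (ha : a ^ q = a) : τ a * c₂ = c₁ * a := by
  have hJu : J (u₀ + a • w₀) = u₀ + a • w₀ := by rw [hJadd, hJsmul, hu₀J, hw₀J, ha]
  have hu0 : u₀ + a • w₀ ≠ 0 := by
    intro h0
    have h0' : (1 : F) • u₀ + a • w₀ = 0 := by rw [one_smul]; exact h0
    exact one_ne_zero (lbal_ub_indep hu₀ hw₀ h0').1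
  obtain ⟨c, hc⟩ := hK _ hJu hu0
  rw [hTadd, hTsmul, h1, h2, smul_add, smul_smul, smul_smul] at hc
  have h3 : (c₁ - c) • u₀ + (τ a * c₂ - c * a) • w₀ = 0 := by
    rw [sub_smul, sub_smul]
    have := sub_eq_zero.mpr hc
    rw [← this]
    abel
  obtain ⟨e1, e2⟩ := lbal_ub_indep hu₀ hw₀ h3
  rw [sub_eq_zero.mp e2, sub_eq_zero.mp e1]

include hTadd hTsmul hTinj hJadd hJsmul hK in
/-- **`τ` fixes the fixed field of the `q`-power map**, given two independent fixed vectors. -/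
theorem lbal_ub_fix_subfield {u₀ w₀ : Fin N → F} (hu₀J : J u₀ = u₀) (hw₀J : J w₀ = w₀)
    (hu₀ : u₀ ≠ 0) (hw₀ : ∀ c : F, w₀ ≠ c • u₀) (a : F) (ha : a ^ q = a) : τ a = a := by
  have hw₀0 : w₀ ≠ 0 := by
    intro h
    exact hw₀ 0 (by rw [h, zero_smul])
  obtain ⟨c₁, h1⟩ := hK u₀ hu₀J hu₀
  obtain ⟨c₂, h2⟩ := hK w₀ hw₀J hw₀0
  have e1 := lbal_ub_pencil T J τ hTadd hTsmul hJadd hJsmul hK hu₀J hw₀J hu₀ hw₀ h1 h2 1
    (one_pow q)
  rw [map_one, one_mul, mul_one] at e1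
  have e2 := lbal_ub_pencil T J τ hTadd hTsmul hJadd hJsmul hK hu₀J hw₀J hu₀ hw₀ h1 h2 a ha
  have hc1 : c₁ ≠ 0 := by
    intro h0
    apply hu₀
    apply hTinj
    rw [h1, h0, zero_smul]
  rw [e1, mul_comm] at e2
  exact mul_left_cancel₀ hc1 e2

include hTadd hTsmul hJadd hJsmul hJJ hK in
/-- **if `τ = 1` then `T` is a scalar.** -/
theorem lbal_ub_scalar (h2 : (2 : F) ≠ 0) {ε : F} (hε0 : ε ≠ 0) (hε : ε ^ q + ε = 0)
    (hτ : ∀ a, τ a = a) {u₀ : Fin N → F} (hu₀J : J u₀ = u₀)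
    (hu₀ : u₀ ≠ 0) : ∃ c : F, ∀ v, T v = c • v := by
  obtain ⟨c, h1⟩ := hK u₀ hu₀J hu₀
  have hT0 : T 0 = 0 := by
    have := hTsmul 0 0
    rw [zero_smul, map_zero, zero_smul] at this
    exact this
  have key : ∀ u, J u = u → T u = c • u := by
    intro u hu
    by_cases hu0 : u = 0
    · rw [hu0, hT0, smul_zero]
    by_cases hdep : ∃ l : F, u = l • u₀
    · obtain ⟨l, rfl⟩ := hdep
      rw [hTsmul, hτ, h1, smul_comm]
    · push Not at hdep
      obtain ⟨c', h2'⟩ := hK u hu hu0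
      have e1 := lbal_ub_pencil T J τ hTadd hTsmul hJadd hJsmul hK hu₀J hu hu₀ hdep h1 h2' 1
        (one_pow q)
      rw [map_one, one_mul, mul_one] at e1
      rw [h2', e1]
  refine ⟨c, fun v => ?_⟩
  have hd := lbal_ub_decomp J h2 hε0 v
  have e1 := key _ (lbal_ub_P J hJadd hJJ v)
  have e2 := key _ (lbal_ub_P' J hJadd hJsmul hJJ hε v)
  calc T v = T ((2 : F)⁻¹ • ((v + J v) + ε⁻¹ • (ε • (v - J v)))) := by rw [← hd]
    _ = (2 : F)⁻¹ • (c • (v + J v) + ε⁻¹ • (c • (ε • (v - J v)))) := by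
        rw [hTsmul, hTadd, hTsmul, e1, e2, hτ, hτ]
    _ = c • ((2 : F)⁻¹ • ((v + J v) + ε⁻¹ • (ε • (v - J v)))) := by
        rw [smul_comm ε⁻¹ c, ← smul_add, smul_comm]
    _ = c • v := by rw [← hd]

end baer

section pair

variable {F : Type*} [Field F] {k : ℕ}

/-- one of the first two standard basis vectors lies outside a given line. -/
theorem lbal_ub_exists_off_line (u₀ : Fin (k + 2) → F) :
    ∃ v : Fin (k + 2) → F, ∀ c : F, v ≠ c • u₀ := by
  by_cases h : ∀ c : F, (Pi.single 0 1 : Fin (k + 2) → F) ≠ c • u₀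
  · exact ⟨_, h⟩
  · push Not at h
    obtain ⟨a, ha⟩ := h
    refine ⟨Pi.single 1 1, fun b hb => ?_⟩
    have h01 : (0 : Fin (k + 2)) ≠ 1 := by
      intro h
      have := congrArg Fin.val h
      simp at this
    have e0 := congrFun ha 1
    have e1 := congrFun hb 1
    have e00 := congrFun ha 0
    rw [Pi.single_eq_of_ne (Ne.symm h01), Pi.smul_apply, smul_eq_mul] at e0
    rw [Pi.single_eq_same, Pi.smul_apply, smul_eq_mul] at e1 e00
    have ha0 : a ≠ 0 := by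
      rintro rfl
      rw [zero_mul] at e00
      exact one_ne_zero e00
    have : u₀ 1 = 0 := by
      rcases mul_eq_zero.mp e0.symm with h | h
      · exact absurd h ha0
      · exact h
    rw [this, mul_zero] at e1
    exact one_ne_zero e1

end pair

end Cfsg.Agent.LBal
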