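import Mathlib
import Cfsg.Agent.Helper8.UGrA
import Cfsg.Agent.Helper8.AutSUze
import Cfsg.Agent.Helper8.AutSUzh
import Cfsg.Agent.LBal.H4Field
import Cfsg.Agent.LBal.UH4SympA

/-!
# LBal Q3 (helper9): (h4) for `PSU_n(q)` and a graph automorphism of symplectic type

An automorphism of odd order of `PSU_n(q)` (`n ≥ 3`, `q` odd) fixing every fixed point of
`ugraphAut A = psuConj A * phi0`, `Aᵀ = -A`, is trivial.

Route: `J v = η • A v̄` (`η η̄ = -1`) is a Baer involution (`A Ā = -1`); its fixed vectors `u` are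
isotropic and the unitary transvections `TU q u s` are fixed by `ugraphAut A`; hence the
semilinear map `g ∘ τ` inducing `α` fixes every point of the Baer subgeometry, so `τ` fixes the
subfield of order `q` and is `1` or the `q`-power map; the latter is excluded by the odd order,
and for `τ = 1` the matrix `g` is a scalar.
-/

set_option autoImplicit false
set_option linter.unusedSectionVars false

namespace Cfsg.Agent.LBal

open Matrix Cfsg Cfsg.Agent.Helper8.AutSU Cfsg.Agent.Helper8.UGr Cfsg.Agent.Helper8.SURoot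
open Cfsg.Agent.Helper8.AutSLn (glStar glStar_coe)
open Cfsg.Agent.Helper7.Herm (hermForm_smul_left hermForm_smul_right)

variable {F : Type*} [Field F] [Fintype F] {q k N : ℕ} [hF : Fact (Fintype.card F = q ^ 2)]

/-- a semilinear automorphism fixing the class of a unitary transvection fixes its centre -/
theorem lbal_us_line_of_fix (p : ℕ) [Fact p.Prime] [CharP F p] (hN : 1 ≤ N) (g : GU N F q)
    (τ : F ≃+* F) {u : Fin N → F} (hu0 : u ≠ 0) (hu : hermForm N F q u u = 0) {s : F}
    (hs0 : s ≠ 0) (hs : s ^ q + s = 0)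
    (hfix : (psuConj g * psuField τ : MulAut (PSU N F q)) (pr (TU q u s)) = pr (TU q u s)) :
    ∃ c : F, sm g τ u = c • u := by
  have hu' : hermForm N F q (sm g τ u) (sm g τ u) = 0 := by rw [h_sm, hu, map_zero]
  have h1 : pr (sa g τ (TU q u s)) = pr (TU q u s) := hfix
  rw [sa_TU g τ hu hs] at h1
  have h2 := eq_of_pr_eq p hN h1 (m₁ := 1) (m₂ := 1)
    (by rw [pow_one]; exact TU_pow_char p hu' (tz_map τ hs))
    (by rw [pow_one]; exact TU_pow_char p hu hs)
  obtain ⟨v', -, hv'⟩ := exists_partner hu0 hu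
  have hv'' : hermForm N F q v' u = 1 := h_eq_one_of_swap hv'
  have h3 := congrArg (fun t : SU N F q => mt t *ᵥ v') h2
  beta_reduce at h3
  rw [TU_mulVec hu' (tz_map τ hs), TU_mulVec hu hs, hv'', mul_one] at h3
  have h4 := add_left_cancel h3
  have ha0 : τ s * hermForm N F q v' (sm g τ u) ≠ 0 := by
    intro h0
    rw [h0, zero_smul] at h4
    rcases smul_eq_zero.mp h4.symm with h | h
    · exact hs0 h
    · exact hu0 h
  refine ⟨(τ s * hermForm N F q v' (sm g τ u))⁻¹ * s, ?_⟩
  rw [mul_smul, ← h4, smul_smul, inv_mul_cancel₀ ha0, one_smul]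

/-- `A Ā = -1` for a skew-symmetric unitary matrix -/
theorem lbal_us_A_Abar (A : GU N F q) (hA : (mg A).transpose = -(mg A)) :
    mg A * (mg A).map (frobE F q) = -1 := by
  have h := (mem_GU_iff_star (A : GL (Fin N) F)).mp A.2
  have h1 := congrArg Units.val h
  rw [Units.val_mul, Units.val_one] at h1
  have h2 : ((glStar (frobE F q) (A : GL (Fin N) F) : GL (Fin N) F) : Matrix (Fin N) (Fin N) F)
      = -((mg A).map (frobE F q)) := by
    rw [glStar_coe]
    show ((mg A).transpose).map (frobE F q) = _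
    rw [hA]
    ext i j
    simp [Matrix.map_apply]
  rw [h2, Matrix.mul_neg] at h1
  exact neg_eq_iff_eq_neg.mp h1

theorem lbal_us_sv_one (v : Fin N → F) : sv (1 : F ≃+* F) v = v := rfl

theorem lbal_us_sv_sv (v : Fin N → F) : sv (frobE F q) (sv (frobE F q) v) = v := by
  funext i
  simp only [sv_apply, frobE_apply]
  exact bb (v i)

theorem lbal_us_sm_sm (A : GU N F q) (hA : (mg A).transpose = -(mg A)) (v : Fin N → F) :
    sm A (frobE F q) (sm A (frobE F q) v) = -v := by
  unfold sm
  rw [← map_mulVec_sv, mulVec_mulVec, lbal_us_A_Abar A hA, lbal_us_sv_sv, neg_mulVec, one_mulVec]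

/-- the Baer involution attached to `A` -/
def lbal_us_J (A : GU N F q) (η : F) (v : Fin N → F) : Fin N → F := η • sm A (frobE F q) v

theorem lbal_us_J_add (A : GU N F q) (η : F) (u v : Fin N → F) :
    lbal_us_J A η (u + v) = lbal_us_J A η u + lbal_us_J A η v := by
  unfold lbal_us_J
  rw [sm_add, smul_add]

theorem lbal_us_J_smul (A : GU N F q) (η : F) (c : F) (v : Fin N → F) :
    lbal_us_J A η (c • v) = c ^ q • lbal_us_J A η v := by
  unfold lbal_us_J
  rw [sm_smul, smul_comm, frobE_apply]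

theorem lbal_us_J_J (A : GU N F q) (hA : (mg A).transpose = -(mg A)) {η : F}
    (hη : η * η ^ q = -1) (v : Fin N → F) : lbal_us_J A η (lbal_us_J A η v) = v := by
  unfold lbal_us_J
  rw [sm_smul, lbal_us_sm_sm A hA, frobE_apply, smul_smul, hη, neg_smul, one_smul, neg_neg]

/-- the fixed vectors of the Baer involution are isotropic and their unitary transvections are
fixed by the graph automorphism -/
theorem lbal_us_fixed (h2 : (2 : F) ≠ 0) (A : GU N F q) {η : F} (hη0 : η ≠ 0)
    (hη : η * η ^ q = -1) {u : Fin N → F} (hJu : lbal_us_J A η u = u) {s : F}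
    (hs : s ^ q + s = 0) :
    hermForm N F q u u = 0 ∧
      (ugraphAut A : MulAut (PSU N F q)) (pr (TU q u s)) = pr (TU q u s) := by
  unfold lbal_us_J at hJu
  have hu : hermForm N F q u u = 0 := by
    have e : hermForm N F q (η • sm A (frobE F q) u) (η • sm A (frobE F q) u)
        = hermForm N F q u u := by rw [hJu]
    rw [hermForm_smul_left, hermForm_smul_right, h_sm, frobE_apply, h_self_fixed, ← mul_assoc, hη]
      at e
    have e' : (2 : F) * hermForm N F q u u = 0 := by linear_combination -e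
    rcases mul_eq_zero.mp e' with h | h
    · exact absurd h h2
    · exact h
  refine ⟨hu, ?_⟩
  have hsm : sm A (frobE F q) u = η⁻¹ • u := by
    rw [← hJu, smul_smul, inv_mul_cancel₀ hη0, one_smul, hJu]
  have hu' : hermForm N F q (sm A (frobE F q) u) (sm A (frobE F q) u) = 0 := by
    rw [h_sm, hu, map_zero]
  have e1 : (ugraphAut A : MulAut (PSU N F q)) (pr (TU q u s))
      = pr (sa A (frobE F q) (TU q u s)) := rfl
  rw [e1, sa_TU A (frobE F q) hu hs]
  congr 1
  apply ext_mulVec
  intro v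
  rw [TU_mulVec hu' (tz_map (frobE F q) hs), TU_mulVec hu hs, hsm, hermForm_smul_right, smul_smul,
    frobE_apply]
  congr 2
  have hs' : s ^ q = -s := eq_neg_of_add_eq_zero_left hs
  have hμ : η⁻¹ * (η⁻¹) ^ q = -1 := by
    rw [inv_pow, ← mul_inv, hη]
    norm_num
  rw [hs']
  linear_combination (-s * hermForm N F q v u) * hμ

/-- **LBal Q3** -/
theorem lbal_u_h4_symp (r : ℕ) [Fact r.Prime] [CharP F r] (hr2 : r ≠ 2) (hk : 1 ≤ k)
    (A : GU (k + 2) F q)
    (hA : ((A : GL (Fin (k + 2)) F) : Matrix (Fin (k + 2)) (Fin (k + 2)) F).transpose =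
      -((A : GL (Fin (k + 2)) F) : Matrix (Fin (k + 2)) (Fin (k + 2)) F))
    (α : MulAut (PSU (k + 2) F q)) (hcop : (orderOf α).Coprime 2)
    (hfix : ∀ x : PSU (k + 2) F q,
      (ugraphAut A : MulAut (PSU (k + 2) F q)) x = x → α x = x) : α = 1 := by
  have hr : r.Prime := Fact.out
  have h2 : (2 : F) ≠ 0 := by
    intro h
    have h' : ((2 : ℕ) : F) = 0 := by exact_mod_cast h
    rw [CharP.cast_eq_zero_iff F r 2] at h'
    exact hr2 ((Nat.prime_dvd_prime_iff_eq hr Nat.prime_two).mp h')
  have hkq : ¬ (k = 1 ∧ q = 2) := by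
    rintro ⟨-, hq⟩
    have h1 := char_dvd_q (F := F) (q := q) r
    rw [hq] at h1
    exact hr2 ((Nat.prime_dvd_prime_iff_eq hr Nat.prime_two).mp h1)
  obtain ⟨g, τ, hα⟩ := aut_PSU_standard r hk hkq α
  obtain ⟨η, hη0, hη⟩ := exists_eta (F := F) (q := q)
  obtain ⟨ε, hε0, hε⟩ := exists_tz_ne_zero (F := F) (q := q)
  have hA' : (mg A).transpose = -(mg A) := hA
  -- the two semilinear maps
  have hTadd := sm_add g τ
  have hTsmul := sm_smul g τ
  have hTinj : ∀ v : Fin (k + 2) → F, sm g τ v = 0 → v = 0 := by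
    intro v hv
    by_contra hv0
    exact sm_ne_zero g τ hv0 hv
  have hJadd := lbal_us_J_add A η
  have hJsmul := lbal_us_J_smul A η
  have hJJ := lbal_us_J_J A hA' hη
  have hK : ∀ u : Fin (k + 2) → F, lbal_us_J A η u = u → u ≠ 0 →
      ∃ c : F, sm g τ u = c • u := by
    intro u hJu hu0
    obtain ⟨hu, hfixed⟩ := lbal_us_fixed h2 A hη0 hη hJu hε
    apply lbal_us_line_of_fix r (by omega) g τ hu0 hu hε0 hε
    rw [← hα]
    exact hfix _ hfixed
  -- two independent fixed vectors
  have he0 : (Pi.single 0 1 : Fin (k + 2) → F) ≠ 0 := by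
    intro h
    have := congrFun h 0
    rw [Pi.single_eq_same, Pi.zero_apply] at this
    exact one_ne_zero this
  obtain ⟨u₀, hu₀J, hu₀⟩ := lbal_ub_exists_fixed (lbal_us_J A η) hJadd hJsmul hJJ h2 hε0 hε he0
  obtain ⟨v₁, hv₁⟩ := lbal_ub_exists_off_line u₀
  obtain ⟨w₀, hw₀J, hw₀⟩ := lbal_ub_exists_outside (lbal_us_J A η) hJadd hJsmul hJJ h2 hε0 hε u₀ hv₁
  have hτfix : ∀ a : F, a ^ q = a → τ a = a :=
    lbal_ub_fix_subfield (sm g τ) (lbal_us_J A η) τ hTadd hTsmul hTinj hJadd hJsmul hK hu₀J hw₀J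
      hu₀ hw₀
  have hmem : τ ∈ Subgroup.zpowers (frobE F q) :=
    lbal_mem_zpowers_of_fixes (frobE F q) τ (fun c hc => hτfix c hc)
  have hcases : τ = 1 ∨ τ = frobE F q := by
    obtain ⟨n, hn⟩ := Subgroup.mem_zpowers_iff.mp hmem
    have hsq : (frobE F q) ^ (2 : ℤ) = 1 := by
      rw [zpow_two]; exact frobE_mul_self
    have hdecomp : n = n % 2 + 2 * (n / 2) := (Int.emod_add_mul_ediv n 2).symm
    rw [hdecomp, _root_.zpow_add, _root_.zpow_mul, hsq, _root_.one_zpow, mul_one] at hn
    rcases Int.emod_two_eq_zero_or_one n with h | h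
    · left
      rw [h, zpow_zero] at hn
      exact hn.symm
    · right
      rw [h, zpow_one] at hn
      exact hn.symm
  rcases hcases with hτ | hτ
  · -- `τ = 1`: `g` is a scalar
    subst hτ
    obtain ⟨c, hc⟩ := lbal_ub_scalar (sm g 1) (lbal_us_J A η) 1 hTadd hTsmul hJadd hJsmul hJJ hK h2
      hε0 hε (fun a => rfl) hu₀J hu₀
    have hker : g ∈ (psuConj : GU (k + 2) F q →* MulAut (PSU (k + 2) F q)).ker := by
      rw [mem_ker_psuConj_iff r hk]
      exact ⟨c, fun v => hc v⟩
    rw [hα, MonoidHom.mem_ker.mp hker, map_one, mul_one]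
  · -- `τ` the `q`-power map: excluded by the odd order
    exfalso
    subst hτ
    have hsq : α * α = psuConj (g * (guT g)⁻¹) := by
      rw [hα]
      exact ugraphAut_mul_self g
    obtain ⟨j, hj⟩ := Nat.Coprime.odd_of_right hcop
    have e : α = (α * α) ^ (j + 1) := by
      rw [← pow_two, ← pow_mul, show 2 * (j + 1) = orderOf α + 1 by omega, pow_succ,
        pow_orderOf_eq_one, one_mul]
    rw [hsq, ← map_pow] at e
    have h1 : (psuConj g * psuField (frobE F q) : MulAut (PSU (k + 2) F q))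
        = psuConj ((g * (guT g)⁻¹) ^ (j + 1)) * psuField 1 := by
      rw [map_one, mul_one, ← hα]
      exact e
    exact frobE_ne_one (psa_unique r hk h1).1

end Cfsg.Agent.LBal
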