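import Mathlib
import Cfsg.Agent.LBal.NoCore
import Cfsg.Agent.LBal.UClassify
import Cfsg.Agent.LBal.UH4Field
import Cfsg.Agent.LBal.UH4Symp
import Cfsg.Agent.LBal.UH4Orth
import Cfsg.Agent.LBal.PGUCoreC
import Cfsg.Agent.LBal.PGSpCore
import Cfsg.Agent.LBal.PGOCoreOdd
import Cfsg.Agent.LBal.PGOCorePlus
import Cfsg.Agent.LBal.PGOCoreMinus
import Cfsg.Agent.LBal.Main
import Cfsg.Agent.Helper8.AutSpzv
import Cfsg.Agent.Helper8.AutSUzo
import Cfsg.Agent.Helper8.UGrM
import Cfsg.Agent.Helper8.GrAutI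
import Cfsg.Agent.S2706
import Cfsg.Agent.S2707

set_option autoImplicit false

/-!
The criterion for the failure of local balance in almost simple groups with socle `PSU_n(q)`
(S2687): assembly of the pieces of `Cfsg/Agent/LBal/` (helper8).
-/

namespace Cfsg.Agent.LBal

open Matrix Cfsg Cfsg.Agent.Helper8.AutSU Cfsg.Agent.Helper8.UGr Cfsg.Agent.Helper8.GrAut
  Cfsg.Agent.Helper8.AutSp
open scoped Pointwise

variable {F : Type*} [Field F] [Fintype F] {q k : ℕ} [hF : Fact (Fintype.card F = q ^ 2)]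

/-! ### general facts on `PSU_n` -/

omit [Fintype F] hF in
theorem lbal_u_inn_mem_range (x : PSU (k + 2) F q) :
    MulAut.conj x ∈ (psuConj : GU (k + 2) F q →* MulAut (PSU (k + 2) F q)).range :=
  inn_le_range_psuConj ⟨x, rfl⟩

theorem lbal_u_f_pos (r : ℕ) [Fact r.Prime] [CharP F r] {f : ℕ} (hq : q = r ^ f) : 1 ≤ f := by
  by_contra h
  have hf0 : f = 0 := by omega
  rw [hf0, pow_zero] at hq
  have h1 := hF.out
  rw [hq, one_pow] at h1
  have h2 := Fintype.one_lt_card (α := F)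
  omega

/-- **type U1: field automorphisms of odd prime order** -/
theorem lbal_u_field_not_hasCore (r : ℕ) [Fact r.Prime] [CharP F r] (hk : 1 ≤ k)
    (hkq : ¬ (k = 1 ∧ q = 2)) (σ : F ≃+* F) {p : ℕ} [hp : Fact p.Prime] (hpr : p ≠ r)
    (hp2 : p ≠ 2) (hσ : orderOf σ = p)
    (hdvd : p ∣ Nat.card ↥(lbalFix (psuField σ : MulAut (PSU (k + 2) F q))))
    (𝒢 : Subgroup (MulAut (PSU (k + 2) F q))) (hinn : ∀ x : PSU (k + 2) F q, MulAut.conj x ∈ 𝒢) :
    ¬ HasCore p (𝒢 ⊓ Subgroup.centralizer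
      ({psuField σ} : Set (MulAut (PSU (k + 2) F q)))) := by
  have hZ := conj_injective (F := F) (q := q) (k := k) r hk
  obtain ⟨f, hq⟩ := lbal_u_q_pow (F := F) (q := q) r
  have hf := lbal_u_f_pos (F := F) r hq
  have hodd : Odd p := hp.out.odd_of_ne_two hp2
  have hσ1 : σ ≠ 1 := by
    rintro rfl
    rw [orderOf_one] at hσ
    exact hp.out.one_lt.ne hσ
  have hx : Cfsg.IsFieldAutClassPSU (psuField σ : MulAut (PSU (k + 2) F q)) :=
    ⟨1, psuField σ, σ, hσ1, by rw [hσ]; exact hodd, isFieldAut_psuField σ, by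
      rw [one_mul, inv_one, mul_one]⟩
  have hxr : orderOf (psuField σ : MulAut (PSU (k + 2) F q)) = p := by
    rw [orderOf_injective _ (psuField_injective (F := F) (q := q) r hk) σ, hσ]
  -- `p` divides `f`
  have hpf : p ∣ f := by
    have hcard : Fintype.card F = r ^ (2 * f) := by rw [hF.out, hq, ← pow_mul, mul_comm]
    have h1 := (Cfsg.Agent.Helper8.AutSLn.card_fixField hcard σ hp.out.pos hσ).1
    exact (Nat.Coprime.dvd_mul_left ((Nat.coprime_primes hp.out Nat.prime_two).mpr hp2)).mp h1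
  have hfp : 1 ≤ f / p := Nat.div_pos (Nat.le_of_dvd (by omega) hpf) hp.out.pos
  -- the field of the right order
  obtain ⟨F₀, _, _, _, hF₀⟩ : ∃ (F₀ : Type) (_ : Field F₀) (_ : Fintype F₀) (_ : CharP F₀ r),
      Fintype.card F₀ = r ^ (2 * (f / p)) := by
    have : Fintype (GaloisField r (2 * (f / p))) := Fintype.ofFinite _
    refine ⟨GaloisField r (2 * (f / p)), inferInstance, inferInstance, inferInstance, ?_⟩
    rw [← Nat.card_eq_fintype_card, GaloisField.card r _ (by omega)]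
  obtain ⟨-, hiso, -⟩ := field_aut_main_psu r hk hkq f hq _ hx hp.out hxr F₀ hF₀
  rw [inndiagPSU_eq] at hiso
  have hF₀' : Fintype.card F₀ = (r ^ (f / p)) ^ 2 := by rw [hF₀, ← pow_mul, mul_comm]
  have hp' : p ∣ Nat.card (Cfsg.PGU (k + 2) F₀ (r ^ (f / p))) := by
    rw [← Nat.card_congr hiso.some.toEquiv]
    exact hdvd.trans (lbal_card_fix_dvd hZ _ lbal_u_inn_mem_range _)
  refine lbal_not_hasCore hZ 𝒢 hinn p (psuField σ) ?_
    {x | (psuField σ : MulAut (PSU (k + 2) F q)) x = x} (fun x hx => hx) ?_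
  · apply lbal_h3_of_overgroup hZ _ lbal_u_inn_mem_range
    apply lbal_not_hasCore_of_noCore
    exact lbal_noCore_of_nonempty hiso (lbal_noCore_pgu_dvd hF₀' r (by omega) hpr hp')
  · intro α h1 h2
    exact lbal_u_h4_field r hk hkq σ hp2 hσ α h2 h1

/-- `q` is odd in odd characteristic -/
theorem lbal_u_odd_q (r : ℕ) [hr : Fact r.Prime] [CharP F r] (hr2 : r ≠ 2) : Odd q := by
  obtain ⟨f, hq⟩ := lbal_u_q_pow (F := F) (q := q) r
  rw [hq]
  exact Odd.pow (hr.out.odd_of_ne_two hr2)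

/-- (h3) for the involutory graph automorphisms of `PSU` -/
theorem lbal_u_graph_noCore (r : ℕ) [Fact r.Prime] [CharP F r] (hr2 : r ≠ 2) (hk : 1 ≤ k)
    (A : GU (k + 2) F q)
    (hA : ((A : GL (Fin (k + 2)) F) : Matrix (Fin (k + 2)) (Fin (k + 2)) F).transpose =
        ((A : GL (Fin (k + 2)) F) : Matrix (Fin (k + 2)) (Fin (k + 2)) F) ∨
      ((A : GL (Fin (k + 2)) F) : Matrix (Fin (k + 2)) (Fin (k + 2)) F).transpose =
        -((A : GL (Fin (k + 2)) F) : Matrix (Fin (k + 2)) (Fin (k + 2)) F)) :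
    lbal_NoCore 2 ↥(Cfsg.inndiagPSU (k + 2) F q ⊓
      Subgroup.centralizer ({ugraphAut A} : Set (MulAut (PSU (k + 2) F q)))) := by
  have hodd : Odd q := lbal_u_odd_q (F := F) r hr2
  obtain ⟨f, hq⟩ := lbal_u_q_pow (F := F) (q := q) r
  have hf := lbal_u_f_pos (F := F) r hq
  have hγ : Cfsg.IsGraphAutClassPSU (ugraphAut A : MulAut (PSU (k + 2) F q)) :=
    isGraphAutClass_ugraphAut (by omega) A
  have hγ2 : orderOf (ugraphAut A : MulAut (PSU (k + 2) F q)) = 2 :=
    (orderOf_ugraphAut_eq_two_iff r hk A).mpr hA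
  obtain ⟨F₀, _, _, hF₀⟩ : ∃ (F₀ : Type) (_ : Field F₀) (_ : Fintype F₀),
      Fintype.card F₀ = q := by
    have : Fintype (GaloisField r f) := Fintype.ofFinite _
    refine ⟨GaloisField r f, inferInstance, inferInstance, ?_⟩
    rw [← Nat.card_eq_fintype_card, GaloisField.card r _ (by omega), hq]
  have hodd₀ : Odd (Fintype.card F₀) := by rw [hF₀]; exact hodd
  rcases Nat.even_or_odd' (k + 2) with ⟨m, hm | hm⟩
  · -- `n = 2 m`
    have hm2 : 2 ≤ m := by omega
    obtain ⟨γ₁, γ₂, γ₃, a, b, hab, -, -, -, -, -, -, -, -, -, hall, e1, e2, e3⟩ :=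
      Cfsg.Agent.S2707.result (F := F) hodd hF.out hm2 hm F₀ hF₀
    rcases hall _ hγ hγ2 with hc | hc | hc
    · exact lbal_noCore_of_nonempty
        ((nonempty_centralizer_equiv_of_isConjUnder _ hc).map MulEquiv.symm)
        (lbal_noCore_of_nonempty e1 (lbal_noCore_pgsp hodd₀ hm2))
    · exact lbal_noCore_of_nonempty
        ((nonempty_centralizer_equiv_of_isConjUnder _ hc).map MulEquiv.symm)
        (lbal_noCore_of_nonempty e2 (lbal_noCore_pgo_plus hodd₀ hm2))
    · exact lbal_noCore_of_nonempty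
        ((nonempty_centralizer_equiv_of_isConjUnder _ hc).map MulEquiv.symm)
        (lbal_noCore_of_nonempty e3 (lbal_noCore_pgo_minus hodd₀ hm2 a b hab))
  · -- `n = 2 m + 1`
    have hs : ¬ (k + 2 = 3 ∧ q = 2) := by
      rintro ⟨-, h2⟩
      rw [h2] at hodd
      exact (by decide : ¬ Odd 2) hodd
    have e := (Cfsg.Agent.S2706.result (F := F) (p := r) (f := f) hq hf hF.out
      (by omega : 3 ≤ k + 2) hs hm F₀ hF₀ (ugraphAut A) (ugraphAut A) hγ hγ2 hγ hγ2).1
    exact lbal_noCore_of_nonempty e (lbal_noCore_pgo_odd hodd₀ (by omega))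

/-- **types U2, U3: graph automorphisms** -/
theorem lbal_u_graph_not_hasCore (r : ℕ) [Fact r.Prime] [CharP F r] (hr2 : r ≠ 2) (hk : 1 ≤ k)
    (A : GU (k + 2) F q)
    (hA : ((A : GL (Fin (k + 2)) F) : Matrix (Fin (k + 2)) (Fin (k + 2)) F).transpose =
        ((A : GL (Fin (k + 2)) F) : Matrix (Fin (k + 2)) (Fin (k + 2)) F) ∨
      ((A : GL (Fin (k + 2)) F) : Matrix (Fin (k + 2)) (Fin (k + 2)) F).transpose =
        -((A : GL (Fin (k + 2)) F) : Matrix (Fin (k + 2)) (Fin (k + 2)) F))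
    (𝒢 : Subgroup (MulAut (PSU (k + 2) F q))) (hinn : ∀ x : PSU (k + 2) F q, MulAut.conj x ∈ 𝒢) :
    ¬ HasCore 2 (𝒢 ⊓ Subgroup.centralizer
      ({ugraphAut A} : Set (MulAut (PSU (k + 2) F q)))) := by
  have hZ := conj_injective (F := F) (q := q) (k := k) r hk
  have hinnD : ∀ x : PSU (k + 2) F q, MulAut.conj x ∈ Cfsg.inndiagPSU (k + 2) F q := by
    intro x
    rw [inndiagPSU_eq]
    exact lbal_u_inn_mem_range x
  refine lbal_not_hasCore hZ 𝒢 hinn 2 (ugraphAut A) ?_
    {x | (ugraphAut A : MulAut (PSU (k + 2) F q)) x = x} (fun x hx => hx) ?_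
  · apply lbal_h3_of_overgroup hZ _ hinnD
    apply lbal_not_hasCore_of_noCore
    exact lbal_u_graph_noCore r hr2 hk A hA
  · intro α h1 h2
    rcases hA with hA | hA
    · exact lbal_u_h4_orth r hr2 hk A hA α h2 h1
    · exact lbal_u_h4_symp r hr2 hk A hA α h2 h1

/-- a nontrivial group with trivial centre is not nilpotent -/
theorem lbal_not_nilpotent_of_conj_injective {K : Type*} [Group K] [Nontrivial K]
    (hZ : Function.Injective (MulAut.conj : K →* MulAut K)) : ¬ Group.IsNilpotent K := by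
  intro hnil
  have h1 : Subgroup.center K ≠ ⊥ := Group.IsNilpotent.center_ne_bot K
  apply h1
  rw [Subgroup.eq_bot_iff_forall]
  intro x hx'
  have h2 : MulAut.conj (x : K) = 1 := by
    ext y
    rw [MulAut.conj_apply, MulAut.one_apply, ← (Subgroup.mem_center_iff.mp hx') y,
      mul_inv_cancel_right]
  exact hZ (h2.trans (map_one _).symm)

/-- **the criterion for the failure of local balance for `PSU_n(q)`** -/
theorem lbal_u_main (r : ℕ) [Fact r.Prime] [CharP F r] (hk : 1 ≤ k) (hkq : ¬ (k = 1 ∧ q = 2))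
    (hK : IsSimpleGroup (PSU (k + 2) F q))
    (𝒢 : Subgroup (MulAut (PSU (k + 2) F q))) (hinn : ∀ x : PSU (k + 2) F q, MulAut.conj x ∈ 𝒢)
    {p : ℕ} [Fact p.Prime] (hpr : p ≠ r) (β : MulAut (PSU (k + 2) F q)) (hord : orderOf β = p)
    (hnot : ¬ Cfsg.IsInnerDiagonalAutPSU β) :
    Cfsg.pPrimeCore p ↥(𝒢 ⊓ Subgroup.centralizer {β}) ≠ ⊥ ↔
      ((∃ γ φ : MulAut (PSU (k + 2) F q), Cfsg.IsInnerDiagonalAutPSU γ ∧
          (∃ σ : F ≃+* F, Cfsg.IsFieldAutPSUOf σ φ) ∧ β = φ.trans γ) ∧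
        Nat.Coprime p (Nat.card ↥(MonoidHom.eqLocus β.toMonoidHom
          (MonoidHom.id (PSU (k + 2) F q))))) := by
  have hp : p.Prime := Fact.out
  have hZ := conj_injective (F := F) (q := q) (k := k) r hk
  have : Finite (PSU (k + 2) F q) := by
    unfold Cfsg.PSU
    infer_instance
  rw [pPrimeCore_ne_bot_iff_hasCore]
  constructor
  · intro hc
    rcases lbal_u_classify r hk hkq β hord hnot with ⟨hodd, h, σ, hσ, hβ⟩ | ⟨hp2, A, rfl, hA⟩
    · refine ⟨?_, ?_⟩
      · obtain ⟨g, τ, e⟩ := aut_PSU_standard r hk hkq β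
        refine ⟨psuConj g, psuField τ, isInnerDiagonal_psuConj g, ⟨τ, isFieldAut_psuField τ⟩, ?_⟩
        rw [e]
        rfl
      · subst hβ
        by_contra hcop
        have hd : p ∣ Nat.card ↥(lbalFix (psuField σ : MulAut (PSU (k + 2) F q))) := by
          rw [← card_eqLocus_conj (psuConj h) (psuField σ)]
          by_contra hnd
          exact hcop ((Nat.Prime.coprime_iff_not_dvd hp).mpr hnd)
        have hp2 : p ≠ 2 := by
          rintro rfl
          exact (by decide : ¬ Odd 2) hodd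
        exact lbal_hasCore_conj 𝒢 hinn (psuConj h) (psuField σ)
          (fun 𝒢' h' => lbal_u_field_not_hasCore r hk hkq σ hpr hp2 hσ hd 𝒢' h') hc
    · exfalso
      subst hp2
      exact lbal_u_graph_not_hasCore r (Ne.symm hpr) hk A hA 𝒢 hinn hc
  · rintro ⟨-, hcop⟩
    have : Nontrivial (PSU (k + 2) F q) := hK.toNontrivial
    exact lbal_hasCore_of_coprime hZ (lbal_not_nilpotent_of_conj_injective hZ) 𝒢 hinn p hp β hord
      hcop

end Cfsg.Agent.LBal
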