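import Mathlib
import Cfsg.Agent.LBal.NoCore
import Cfsg.Agent.LBal.Abs
import Cfsg.Agent.LBal.AbsB
import Cfsg.Agent.LBal.Main
import Cfsg.Agent.LBal.UMain
import Cfsg.Agent.LBal.OmClassifyS
import Cfsg.Agent.LBal.OmH4Field
import Cfsg.Agent.LBal.OmInndiagCore
import Cfsg.Agent.LBal.OmH3Inv
import Cfsg.Agent.LBal.OmH4Inv
import Cfsg.Agent.LBal.OmH3Nsq
import Cfsg.Agent.LBal.OmH4Nsq
import Cfsg.Agent.Helper8.AutOzq
import Cfsg.Agent.Helper8.AutOzzi
import Cfsg.Agent.Helper8.GrInvH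
import Cfsg.Agent.Helper8.GrInvI
import Cfsg.Agent.S2716

set_option autoImplicit false
set_option linter.unusedSectionVars false

/-!
The criterion for the failure of local balance in almost simple groups with socle
`PΩ⁻_{2m+2}(F)` (S2733): assembly of the pieces `Om*` of `Cfsg/Agent/LBal/` (helper8).
-/

namespace Cfsg.Agent.LBal

open Module Matrix Cfsg Cfsg.Agent.Helper8.QuadForm Cfsg.Agent.Helper8.WittQuad
  Cfsg.Agent.Helper8.AutImagePsi Cfsg.Agent.Helper8.AutImageOrth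
  Cfsg.Agent.Helper8.StdForms Cfsg.Agent.Helper8.AutImage Cfsg.Agent.Helper8.AutO
  Cfsg.Agent.Helper8.AutSp Cfsg.Agent.Helper8.Cls Cfsg.Agent.Helper8.GrInv
open scoped Pointwise

variable {F : Type*} [Field F] [Fintype F]

section General

variable {ι : Type} [Fintype ι] [DecidableEq ι] (Q : QuadraticForm F (ι → F))

/-- **the graph involutions**: an involutory automorphism induced by a similarity that is not
class-preserving has no core in any overgroup of the inner automorphisms. -/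
theorem lbal_om_graph_gen [Nontrivial (ι → F)] (hodd : Odd (Fintype.card F))
    (hQ : (QuadraticMap.polarBilin Q).Nondegenerate) {l : ℕ} (hl : 4 ≤ l)
    (hcard : Fintype.card ι = 2 * l) (hne : ∃ v, Q v ≠ 0)
    (hsurj : Function.Surjective (Psi (Q := Q)))
    (A : Subgroup (MulAut (Cfsg.POmega F ⇑Q)))
    (hinn : ∀ k : Cfsg.POmega F ⇑Q, MulAut.conj k ∈ A)
    (g : ↥(Cfsg.Geo.quadSimilarityGroup (F := F) ⇑Q)) (hx2 : Phi ⇑Q g * Phi ⇑Q g = 1)
    (hncp : ¬ IsCP l ((g : GL ι F) : Matrix ι ι F) ((mult ⇑Q hne g : Fˣ) : F)) :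
    ¬ HasCore 2 (A ⊓ Subgroup.centralizer ({Phi ⇑Q g} : Set (MulAut (Cfsg.POmega F ⇑Q)))) := by
  classical
  obtain ⟨pc, hpc, hc⟩ := exists_char F
  have h2 : (2 : F) ≠ 0 := Cfsg.Agent.Helper8.OmegaStd.two_ne_zero_of_odd hodd
  have h5 : 5 ≤ Fintype.card ι := by omega
  have h8 : 8 ≤ Fintype.card ι := by omega
  have heven : Even (Fintype.card ι) := ⟨l, by omega⟩
  have hZ := conj_injective_POmega Q hQ h5
  have : Finite (Cfsg.POmega F ⇑Q) := by
    unfold Cfsg.POmega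
    infer_instance
  have hinnD : ∀ k : Cfsg.POmega F ⇑Q, MulAut.conj k ∈ Cfsg.pgoAut F ⇑Q := by
    intro k
    exact Inn_le_pgoAut Q ⟨k, rfl⟩
  -- the square of `g` is a scalar
  obtain ⟨M, hM⟩ : ∃ M : Matrix ι ι F, M = ((g : GL ι F) : Matrix ι ι F) := ⟨_, rfl⟩
  obtain ⟨τ, hτ⟩ : ∃ τ : Fˣ, τ = mult ⇑Q hne g := ⟨_, rfl⟩
  have hτs : ∀ v, Q (M *ᵥ v) = (τ : F) * Q v := by
    intro v
    rw [hM, hτ]
    exact mult_spec ⇑Q hne g v
  have hτ0 : (τ : F) ≠ 0 := Units.ne_zero τ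
  obtain ⟨c, hcM⟩ : ∃ c : Fˣ, M * M = (c : F) • (1 : Matrix ι ι F) := by
    have h1 : Phi ⇑Q (g * g) = 1 := by rw [map_mul, hx2]
    obtain ⟨c, hc'⟩ := (Phi_eq_one_iff_scalar Q hQ h5 pc (g * g)).mp h1
    refine ⟨c, ?_⟩
    rw [hM, ← hc']
    rfl
  rw [← hτ, ← hM] at hncp
  have hncp' : M.det ≠ (τ : F) ^ l := by
    intro h
    exact hncp (Or.inl ⟨h2, h⟩)
  rcases sq_scalar_eq Q hne M τ c hτs hcM with hcτ | hcτ
  swap
  · -- skew-adjoint: class-preserving
    exfalso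
    apply hncp'
    have hc0 : (c : F) ≠ 0 := Units.ne_zero c
    have hskew : ∀ x y, QuadraticMap.polar Q (M *ᵥ x) y = - QuadraticMap.polar Q x (M *ᵥ y) := by
      intro x y
      rw [adjoint_of_sq Q M τ c hc0 hτs hcM, hcτ, div_neg, div_self hτ0, neg_one_mul]
    rw [det_of_skew Q hQ h2 M c hcM hskew l hcard, hcτ, neg_neg]
  · -- self-adjoint
    by_cases hsq : IsSquare (c : F)
    · -- an isometric involution
      obtain ⟨ν, hν⟩ := hsq
      have hν0 : ν ≠ 0 := by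
        rintro rfl
        rw [mul_zero] at hν
        exact Units.ne_zero c hν
      obtain ⟨g', hg'⟩ : ∃ g' : ↥(Cfsg.Geo.quadSimilarityGroup (F := F) ⇑Q),
          g' = scalarGO Q (Units.mk0 ν hν0)⁻¹ * g := ⟨_, rfl⟩
      have hΦ : Phi ⇑Q g' = Phi ⇑Q g := by
        rw [hg', map_mul, Phi_scalarGO' Q hQ h5 pc, one_mul]
      have hg'M : ((g' : GL ι F) : Matrix ι ι F) = ν⁻¹ • M := by
        rw [hg', hM]
        show ((scalarGO Q (Units.mk0 ν hν0)⁻¹ : GL ι F) : Matrix ι ι F) *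
          ((g : GL ι F) : Matrix ι ι F) = _
        rw [scalarGO_val, Matrix.smul_mul, Matrix.one_mul, Units.val_inv_eq_inv_val,
          Units.val_mk0]
      have hg2 : ((g' : GL ι F) : Matrix ι ι F) * ((g' : GL ι F) : Matrix ι ι F) = 1 := by
        rw [hg'M, Matrix.smul_mul, Matrix.mul_smul, hcM, smul_smul, smul_smul, hν]
        rw [show ν⁻¹ * ν⁻¹ * (ν * ν) = 1 by field_simp, one_smul]
      have hiso : ∀ v, Q (((g' : GL ι F) : Matrix ι ι F) *ᵥ v) = Q v := by
        intro v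
        rw [hg'M, Matrix.smul_mulVec, QuadraticMap.map_smul, hτs, ← hcτ, hν, smul_eq_mul]
        field_simp
      have hdet : ((g' : GL ι F) : Matrix ι ι F).det = -1 := by
        have h1 : ((g' : GL ι F) : Matrix ι ι F).det * ((g' : GL ι F) : Matrix ι ι F).det = 1 := by
          rw [← Matrix.det_mul, hg2, Matrix.det_one]
        have h3 : ((g' : GL ι F) : Matrix ι ι F).det ≠ 1 := by
          intro h
          apply hncp'
          rw [hg'M, Matrix.det_smul, hcard] at h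
          rw [← hcτ, hν]
          have h4 : M.det = (ν ^ (2 * l)) * ((ν⁻¹) ^ (2 * l) * M.det) := by
            rw [← mul_assoc, ← mul_pow, mul_inv_cancel₀ hν0, one_pow, one_mul]
          rw [h4, h, mul_one, ← pow_two, ← pow_mul]
        have h4 : (((g' : GL ι F) : Matrix ι ι F).det - 1) *
            (((g' : GL ι F) : Matrix ι ι F).det + 1) = 0 := by
          linear_combination h1
        rcases mul_eq_zero.mp h4 with h | h
        · exact absurd (sub_eq_zero.mp h) h3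
        · exact eq_neg_of_add_eq_zero_left h
      rw [← hΦ]
      refine lbal_not_hasCore hZ A hinn 2 (Phi ⇑Q g') ?_
        {k | Phi ⇑Q g' k = k} (fun k hk => hk) ?_
      · exact lbal_h3_of_overgroup hZ _ hinnD 2 _
          (lbal_om_h3_inv Q hodd hQ h5 heven g' hg2 hiso hdet)
      · intro α h1 hcop
        exact lbal_om_h4_inv Q hodd hQ h8 heven hsurj g' hg2 hiso hdet α hcop h1
    · -- the square is not a square
      have hlodd : Odd l := by
        by_contra hle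
        rw [Nat.not_odd_iff_even] at hle
        apply hncp'
        rw [det_of_sq_nonsquare M c hsq hcM l hcard, ← hcτ, hle.neg_pow]
      have hl5 : 5 ≤ l := by
        rcases hlodd with ⟨t, ht⟩
        omega
      rw [← hcτ] at hτs
      rw [hM] at hcM hτs
      refine lbal_not_hasCore hZ A hinn 2 (Phi ⇑Q g) ?_
        {k | Phi ⇑Q g k = k} (fun k hk => hk) ?_
      · exact lbal_h3_of_overgroup hZ _ hinnD 2 _
          (lbal_om_h3_nsq Q hodd hQ hlodd hl5 hcard g c hsq hcM hτs)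
      · intro α h1 hcop
        exact lbal_om_h4_nsq Q hodd hQ hlodd hl5 hcard hsurj g c hsq hcM hτs α hcop h1

end General

section Minus

variable {m : ℕ}

/-- the order of a standard field automorphism is the order of the field automorphism -/
theorem lbal_om_orderOf_field (hm : 3 ≤ m) (a b : F)
    (hab : ∀ z₁ z₂ : F, z₁ ^ 2 + a * z₁ * z₂ + b * z₂ ^ 2 = 0 → z₁ = 0 ∧ z₂ = 0)
    (Qf : ((Fin m ⊕ Fin m) ⊕ Fin 2 → F) → F) (hQf : Qf = ⇑(minusForm F m a b))
    (σ : F ≃+* F) (ha : σ a = a) (hb : σ b = b)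
    (φ : MulAut (Cfsg.POmega F Qf)) (hφ : Cfsg.IsFieldAutPOmegaOf Qf σ φ) :
    orderOf φ = orderOf σ := by
  subst hQf
  classical
  obtain ⟨pc, hpc, hc⟩ := exists_char F
  have : Nonempty ((Fin m ⊕ Fin m) ⊕ Fin 2) := ⟨Sum.inr 0⟩
  have hcard := card_idx_minus m
  have hQ := minusForm_nondeg F m hab
  have h5 : 5 ≤ Fintype.card ((Fin m ⊕ Fin m) ⊕ Fin 2) := by rw [hcard]; omega
  have hσQ := minusForm_sigma σ m ha hb
  rw [eq_PsiM_of_isFieldAut_one (minusForm F m a b) σ hσQ hQ h5 hφ]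
  exact orderOf_PsiM_fieldGammaOne (minusForm F m a b) σ hσQ hQ h5 pc

/-- **the graph involutions of `PΩ⁻_{2m+2}`** -/
theorem lbal_om_graph_minus_aux (hodd : Odd (Fintype.card F)) (hm : 3 ≤ m) (a b : F)
    (hab : ∀ z₁ z₂ : F, z₁ ^ 2 + a * z₁ * z₂ + b * z₂ ^ 2 = 0 → z₁ = 0 ∧ z₂ = 0)
    (Qf : ((Fin m ⊕ Fin m) ⊕ Fin 2 → F) → F) (hQf : Qf = ⇑(minusForm F m a b))
    (A : Subgroup (MulAut (Cfsg.POmega F Qf)))
    (hinn : ∀ k : Cfsg.POmega F Qf, MulAut.conj k ∈ A)
    (x : MulAut (Cfsg.POmega F Qf)) (hx2 : x * x = 1)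
    (hnot : ¬ ∃ g : GL ((Fin m ⊕ Fin m) ⊕ Fin 2) F,
      g ∈ Cfsg.Geo.quadSimilarityGroup (F := F) Qf ∧
      Cfsg.PreservesSingularClassesMinus m a b
        (g : Matrix ((Fin m ⊕ Fin m) ⊕ Fin 2) ((Fin m ⊕ Fin m) ⊕ Fin 2) F) ∧
      Cfsg.IsInducedBySemilinearPOmega Qf g (RingEquiv.refl F) x) :
    ¬ HasCore 2 (A ⊓ Subgroup.centralizer ({x} : Set (MulAut (Cfsg.POmega F Qf)))) := by
  subst hQf
  classical
  obtain ⟨pc, hpc, hc⟩ := exists_char F
  obtain ⟨f, -, hF⟩ := FiniteField.card F pc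
  have hp2 : pc ≠ 2 := by
    rintro rfl
    rw [hF] at hodd
    exact (Nat.not_even_iff_odd.mpr hodd) ((even_two).pow_of_ne_zero f.ne_zero)
  have : Nonempty ((Fin m ⊕ Fin m) ⊕ Fin 2) := ⟨Sum.inr 0⟩
  have hcard := card_idx_minus m
  have hQ := minusForm_nondeg F m hab
  have hQ' : Nondeg (minusForm F m a b) := (nondeg_iff _).mp hQ
  have hne : ∃ v, minusForm F m a b v ≠ 0 := Cfsg.Agent.S2726.minus_ne (by omega) a b
  have hdim : finrank F ((Fin m ⊕ Fin m) ⊕ Fin 2 → F) = 2 * (m + 1) := by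
    rw [Module.finrank_fintype_fun_eq_card, hcard]
  have hB2 : 9 ≤ finrank F ((Fin m ⊕ Fin m) ⊕ Fin 2 → F) ∨ NoB2 (minusForm F m a b) := by
    by_cases h4 : 4 ≤ m
    · left; rw [hdim]; omega
    · right
      obtain rfl : m = 3 := by omega
      exact noB2_minus hab
  have hsurj : Function.Surjective (Psi (Q := minusForm F m a b)) :=
    Psi_surjective hQ' (by rw [hdim]; omega) pc hB2
  obtain ⟨g, rfl⟩ := involution_mem_range_Phi (p := pc) (f := (f : ℕ)) f.pos hF hp2 hm a b hab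
    (minusForm F m a b) rfl x hx2
  refine lbal_om_graph_gen (minusForm F m a b) hodd hQ (l := m + 1) (by omega) hcard hne hsurj
    A hinn g hx2 ?_
  intro hcp
  apply hnot
  refine ⟨g.1, g.2, ?_, (induced_iff ⇑(minusForm F m a b) g.2 _).mpr rfl⟩
  apply (preservesMinus_iff_isCP a b hab g.1 (mult ⇑(minusForm F m a b) hne g) ?_).mpr hcp
  intro u
  have := mult_spec ⇑(minusForm F m a b) hne g u
  rw [minusForm_apply, minusForm_apply] at this
  exact this

/-- **the field automorphisms of odd prime order of `PΩ⁻_{2m+2}`** -/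
theorem lbal_om_field_not_hasCore {r : ℕ} [Fact r.Prime] [CharP F r] (hm : 3 ≤ m) (a b : F)
    (hab : ∀ z₁ z₂ : F, z₁ ^ 2 + a * z₁ * z₂ + b * z₂ ^ 2 = 0 → z₁ = 0 ∧ z₂ = 0)
    {p : ℕ} [hp : Fact p.Prime] (hp2 : p ≠ 2)
    (x : MulAut (Cfsg.POmega F (Cfsg.quadFormMinus m F a b)))
    (hcls : Cfsg.IsFieldAutClassPOmegaMinus m x) (hord : orderOf x = p)
    (hdvd : p ∣ Nat.card ↥(lbalFix x))
    (A : Subgroup (MulAut (Cfsg.POmega F (Cfsg.quadFormMinus m F a b))))
    (hinn : ∀ k : Cfsg.POmega F (Cfsg.quadFormMinus m F a b), MulAut.conj k ∈ A) :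
    ¬ HasCore p (A ⊓ Subgroup.centralizer
      ({x} : Set (MulAut (Cfsg.POmega F (Cfsg.quadFormMinus m F a b))))) := by
  have hQeq : Cfsg.quadFormMinus m F a b = ⇑(minusForm F m a b) :=
    funext (fun v => (minusForm_apply F m a b v).symm)
  obtain ⟨-, hZ, hle, -⟩ := lbal_m_f3_gen hm a b hab _ hQeq
  have : Finite (Cfsg.POmega F (Cfsg.quadFormMinus m F a b)) := by
    unfold Cfsg.POmega
    infer_instance
  have hinnD : ∀ k : Cfsg.POmega F (Cfsg.quadFormMinus m F a b),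
      MulAut.conj k ∈ Cfsg.inndiagPOmegaMinus m F a b := fun k => hle ⟨k, rfl⟩
  obtain ⟨f, -, hF⟩ := FiniteField.card F r
  -- the data of the field automorphism
  obtain ⟨a', b', ψ, σ, hab', -, ha', hb', hfield⟩ := hcls
  have hQeq' : Cfsg.quadFormMinus m F a' b' = ⇑(minusForm F m a' b') :=
    funext (fun v => (minusForm_apply F m a' b' v).symm)
  have hσo : orderOf σ = p := by
    rw [← lbal_om_orderOf_field hm a' b' hab' _ hQeq' σ ha' hb' _ hfield, ← hord]
    exact MulEquiv.orderOf_eq (MulAut.congr ψ) x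
  have hpf : p ∣ (f : ℕ) := (Cfsg.Agent.Helper8.AutSLn.card_fixField hF σ hp.out.pos hσo).1
  have hfp : 1 ≤ (f : ℕ) / p := Nat.div_pos (Nat.le_of_dvd f.pos hpf) hp.out.pos
  -- the field of the right order
  obtain ⟨F₀, _, _, hF₀⟩ : ∃ (F₀ : Type) (_ : Field F₀) (_ : Fintype F₀),
      Fintype.card F₀ = r ^ ((f : ℕ) / p) := by
    have : Fintype (GaloisField r ((f : ℕ) / p)) := Fintype.ofFinite _
    refine ⟨GaloisField r ((f : ℕ) / p), inferInstance, inferInstance, ?_⟩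
    rw [← Nat.card_eq_fintype_card, GaloisField.card r _ (by omega)]
  obtain ⟨-, -, ⟨a₀, b₀, hab₀, hiso⟩, -⟩ := Cfsg.Agent.S2716.result hF f.pos hm a b hab x
    ⟨a', b', ψ, σ, hab', by
      rintro rfl
      have h1 : orderOf (RingEquiv.refl F) = 1 := orderOf_one
      rw [h1] at hσo
      exact hp.out.one_lt.ne hσo, ha', hb', hfield⟩ hp.out hord F₀ hF₀
  have hp' : p ∣ Nat.card ↥(Cfsg.inndiagPOmegaMinus m F₀ a₀ b₀) := by
    rw [← Nat.card_congr hiso.some.toEquiv]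
    exact hdvd.trans (lbal_card_fix_dvd hZ _ hinnD _)
  refine lbal_not_hasCore hZ A hinn p x ?_ {k | x k = k} (fun k hk => hk) ?_
  · apply lbal_h3_of_overgroup hZ _ hinnD
    apply lbal_not_hasCore_of_noCore
    exact lbal_noCore_of_nonempty hiso (lbal_noCore_inndiag_minus hm a₀ b₀ hab₀ hp2 hp')
  · intro α h1 hcop
    have h3 : MulAut.congr ψ α = 1 := by
      refine lbal_om_h4_field hm a' b' hab' σ ha' hb' hσo _ hfield (MulAut.congr ψ α) ?_ ?_
      · rw [MulEquiv.orderOf_eq (MulAut.congr ψ) α]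
        exact hcop
      · intro k hk
        have h4 : x (ψ.symm k) = ψ.symm k := by
          apply ψ.injective
          rw [MulEquiv.apply_symm_apply]
          exact hk
        show ψ (α (ψ.symm k)) = k
        rw [h1 _ h4, MulEquiv.apply_symm_apply]
    exact (MulEquiv.map_eq_one_iff (MulAut.congr ψ)).mp h3

/-- **the criterion for the failure of local balance for `PΩ⁻_{2m+2}(F)`** -/
theorem lbal_om_main {r : ℕ} [Fact r.Prime] [CharP F r] (hm : 3 ≤ m) (a b : F)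
    (hab : ∀ z₁ z₂ : F, z₁ ^ 2 + a * z₁ * z₂ + b * z₂ ^ 2 = 0 → z₁ = 0 ∧ z₂ = 0)
    (hK : IsSimpleGroup (Cfsg.POmega F (Cfsg.quadFormMinus m F a b)))
    (A : Subgroup (MulAut (Cfsg.POmega F (Cfsg.quadFormMinus m F a b))))
    (hinn : ∀ k : Cfsg.POmega F (Cfsg.quadFormMinus m F a b), MulAut.conj k ∈ A)
    {p : ℕ} [hp : Fact p.Prime] (hpr : p ≠ r)
    (x : MulAut (Cfsg.POmega F (Cfsg.quadFormMinus m F a b))) (hord : orderOf x = p)
    (hnot : ¬ Cfsg.IsInnerDiagonalAutPOmegaMinus m a b x) :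
    Cfsg.pPrimeCore p ↥(A ⊓ Subgroup.centralizer {x}) ≠ ⊥ ↔
      (Cfsg.IsFieldAutClassPOmegaMinus m x ∧ Nat.Coprime p (Nat.card
        ↥(MonoidHom.eqLocus x.toMonoidHom
          (MonoidHom.id (Cfsg.POmega F (Cfsg.quadFormMinus m F a b)))))) := by
  have hQeq : Cfsg.quadFormMinus m F a b = ⇑(minusForm F m a b) :=
    funext (fun v => (minusForm_apply F m a b v).symm)
  obtain ⟨-, hZ, -, -⟩ := lbal_m_f3_gen hm a b hab _ hQeq
  have : Finite (Cfsg.POmega F (Cfsg.quadFormMinus m F a b)) := by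
    unfold Cfsg.POmega
    infer_instance
  rw [pPrimeCore_ne_bot_iff_hasCore]
  constructor
  · intro hc
    by_cases hp2 : p = 2
    · exfalso
      subst hp2
      have hodd : Odd (Fintype.card F) := by
        obtain ⟨f, -, hF⟩ := FiniteField.card F r
        rw [hF]
        exact Odd.pow ((Fact.out : r.Prime).odd_of_ne_two (Ne.symm hpr))
      have hx2 : x * x = 1 := by
        have h1 := pow_orderOf_eq_one x
        rw [hord, pow_two] at h1
        exact h1
      exact lbal_om_graph_minus_aux hodd hm a b hab _ hQeq A hinn x hx2 hnot hc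
    · have hcls := lbal_om_field_class_s hm a b hab hp2 x hord hnot
      refine ⟨hcls, ?_⟩
      by_contra hcop
      have hd : p ∣ Nat.card ↥(lbalFix x) := by
        by_contra hnd
        exact hcop ((Nat.Prime.coprime_iff_not_dvd hp.out).mpr hnd)
      exact lbal_om_field_not_hasCore (r := r) hm a b hab hp2 x hcls hord hd A hinn hc
  · rintro ⟨-, hcop⟩
    have : Nontrivial (Cfsg.POmega F (Cfsg.quadFormMinus m F a b)) := hK.toNontrivial
    exact lbal_hasCore_of_coprime hZ (lbal_not_nilpotent_of_conj_injective hZ) A hinn p hp.out x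
      hord hcop

end Minus

end Cfsg.Agent.LBal
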