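import Mathlib
import Cfsg.Agent.Helper8.StdForms
import Cfsg.Agent.Helper8.OmegaStd
import Cfsg.Agent.LBal.PGOCoreRed
import Cfsg.Agent.LBal.POmegaSmall

/-!
# LBal, piece P6b′: `PGO₄⁺(q)`, `q` odd, has no nontrivial normal subgroup of odd order

helper9's reduction `lbal_noCore_pgo_of_pomega` (dimension at least four) applied to the abstract
statement `lbal_noCore_pomega4p` about `PΩ₄⁺(q) ≅ PSL₂(q) × PSL₂(q)`.
-/

set_option autoImplicit false

namespace Cfsg.Agent.LBal

open Module Cfsg Cfsg.Agent.Helper8.StdForms Cfsg.Agent.Helper8.OmegaStd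

variable {F : Type*} [Field F] [Fintype F]

/-- **P6b′**: `PGO⁺₄(q)`, `q` odd. -/
theorem lbal_noCore_pgo_plus_small (hodd : Odd (Fintype.card F)) :
    lbal_NoCore 2 (Cfsg.PGO F (Cfsg.quadFormPlus 2 F)) := by
  classical
  have hQeq : Cfsg.quadFormPlus 2 F = ⇑(plusForm F 2) :=
    funext (fun v => (plusForm_apply F 2 v).symm)
  have h2 : (2 : F) ≠ 0 := two_ne_zero_of_odd hodd
  have hΩ := lbal_noCore_pomega4p (F := F) hodd
  rw [hQeq] at hΩ ⊢
  have hcard : Fintype.card (Fin 2 ⊕ Fin 2) = 4 := by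
    simp only [Fintype.card_sum, Fintype.card_fin]
  exact lbal_noCore_pgo_of_pomega (plusForm F 2) h2 (plusForm_nondeg F 2) (by rw [hcard]) hΩ

end Cfsg.Agent.LBal
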